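import Groth.Agent.H56.RelPC.Rules
import Groth.Agent.H56.RelFP.Scheme
import Groth.Agent.Lib.DescAlg.FPPush
import Groth.Agent.Lib.TensorMod.LocFree

/-!
Relative pseudo-coherence of a module placed in degree zero.
-/

set_option autoImplicit false
set_option linter.style.haveILetI false

universe u

open CategoryTheory Limits AlgebraicGeometry TopologicalSpace Opposite

namespace Groth.Agent.H56.RelPC

open Groth.Agent.Lib Groth.Agent.Lib.Perfect.Basic Groth.Agent.Lib.Perfect.PseudoCoh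

attribute [local instance] HasDerivedCategory.standard

variable {X S : Scheme.{u}}

theorem isFT_restrict {M : X.Modules} (hM : CohB1.IsFT M) {Z : Scheme.{u}} (j : Z ⟶ X)
    [IsOpenImmersion j] : CohB1.IsFT (M.restrict j) :=
  @Modules.SupportOps.isFT_of_iso _ _ _
    ((Scheme.Modules.restrictFunctorIsoPullback j).app M).symm
    (@Modules.SupportOps.isFT_pullback _ _ j M hM)

/-- Finite type is preserved by direct image along a closed immersion. -/
theorem isFT_push {Z Y : Scheme.{u}} (c : Z ⟶ Y) [IsClosedImmersion c] {M : Z.Modules}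
    (hM : CohB1.IsFT M) : CohB1.IsFT ((Scheme.Modules.pushforward c).obj M) := by
  refine (PCSingle.isPseudoCoherentD_zero_iff _).1 ((iff_forall _ _).2 fun x => ?_)
  by_cases hx : x ∈ Set.range c
  swap
  · exact (pcAt_PD_of_notMem c (DCoh.inD Z M) 0 hx).of_iso (FDinD _ M)
  obtain ⟨z, rfl⟩ := hx
  obtain ⟨W', n, q, hzW', hq⟩ := PCSingle.exists_epi_of_isFT hM z
  obtain ⟨W, hW, v, _, hv⟩ := exists_trap c W'.ι ⟨z, hzW'⟩
  refine PCSingle.pcAt_inD_of_restrict W.ι (⟨c z, hW⟩ : (W : Scheme.{u})) ?_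
  let R := Scheme.Modules.restrictFunctor v
  haveI : PreservesColimitsOfSize.{0, 0} R :=
    (Scheme.Modules.restrictAdjunction v).leftAdjoint_preservesColimits
  let q' : FlatMod.freeMod ((c ⁻¹ᵁ W : Z.Opens) : Scheme.{u}) n ⟶ M.restrict (c ⁻¹ᵁ W).ι :=
    (Modules.Free.restrictFreeIso v n).inv ≫ R.map q ≫
      ((Scheme.Modules.restrictFunctorComp v W'.ι).app M).inv ≫
      ((Scheme.Modules.restrictFunctorCongr hv).app M).hom
  haveI : Epi (R.map q) := inferInstance
  haveI : Epi q' := epi_comp' inferInstance (epi_comp' ‹_› (epi_comp' inferInstance inferInstance))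
  let c' := c ∣_ W
  let P := Scheme.Modules.pushforward c'
  haveI : PreservesColimitsOfSize.{0, 0} P :=
    preservesColimitsOfSize_shrink.{0, u, 0, u} P
  haveI := PushClosed.Unit.epi_unit c' (FlatMod.freeMod (W : Scheme.{u}) n)
  let p : FlatMod.freeMod (W : Scheme.{u}) n ⟶
      ((Scheme.Modules.pushforward c).obj M).restrict W.ι :=
    (Scheme.Modules.pullbackPushforwardAdjunction c').unit.app _ ≫
      P.map ((TensorMod.LocFree.pullbackFreeModIso c' n).hom ≫ q') ≫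
      ((pushRestrIso c W).app M).inv
  haveI : Epi p := by
    haveI : Epi (P.map ((TensorMod.LocFree.pullbackFreeModIso c' n).hom ≫ q')) := inferInstance
    exact epi_comp' ‹_› (epi_comp' this inferInstance)
  exact PCSingle.pcAt_inD_of_epi p _

variable {U : X.Opens} (hU : IsAffineOpen U) {P : Type u} [CommRing P] {φ : P →+* Γ(X, U)}

/-- The module pushed to the ambient affine scheme. -/
noncomputable abbrev imgMod (U : X.Opens) (φ : P →+* Γ(X, U)) (M : X.Modules) :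
    (Spec (CommRingCat.of P)).Modules :=
  (Scheme.Modules.pushforward (imm U φ)).obj (M.restrict U.ι)

theorem ringTest_inD_iff {hc : IsClosedImmersion (imm U φ)} (m : ℤ) (M : X.Modules) :
    RingTest m (DCoh.inD X M) U φ ↔
      ∀ x, PCAt m (DCoh.inD _ (imgMod U φ M)) x :=
  ⟨fun h x => (h.2 x).of_iso (GDinD _ _ M),
    fun h => ⟨hc, fun x => (h x).of_iso (GDinD _ _ M).symm⟩⟩

include hU in
/-- Finite presentation of the pushed module, on sections. -/
theorem isFP_imgMod_iff (hφ : Function.Surjective φ) (M : X.Modules) [M.IsQuasicoherent] :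
    CohB1.IsFP (imgMod U φ M) ↔ RelFP.Core.Via φ Γ(M, U) := by
  haveI := isClosedImmersion_imm hU hφ
  haveI := PCSingle.isQCoh_restrict U.ι M
  haveI : (imgMod U φ M).IsQuasicoherent := QCoh.Pushforward.isQCoh_pushforward _
  let Y := Spec (CommRingCat.of P)
  let c := imm U φ
  have e : U.ι ''ᵁ (c ⁻¹ᵁ ⊤) = U := U.ι_image_top
  let ρ : Γ(Y, ⊤) →+* Γ(X, U.ι ''ᵁ (c ⁻¹ᵁ ⊤)) :=
    ((U.ι.appIso (c ⁻¹ᵁ ⊤)).inv.hom).comp (c.app ⊤).hom
  let eP : P ≃+* Γ(Y, ⊤) :=
    (Scheme.ΓSpecIso (CommRingCat.of P)).commRingCatIsoToRingEquiv.symm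
  have hρ : (X.presheaf.map (eqToHom e.symm).op).hom.comp (ρ.comp (eP : P →+* Γ(Y, ⊤))) = φ := by
    have h1 : (Scheme.ΓSpecIso (CommRingCat.of P)).inv ≫ c.appTop =
        CommRingCat.ofHom φ ≫ U.topIso.inv := by
      change _ ≫ (U.toSpecΓ ≫ Spec.map (CommRingCat.ofHom φ)).appTop = _
      rw [Scheme.Hom.comp_appTop, ← Scheme.ΓSpecIso_inv_naturality_assoc,
        Scheme.Opens.toSpecΓ_appTop, Iso.inv_hom_id_assoc]
    ext a
    have h2 := congr($h1 a)
    simp only [CommRingCat.comp_apply] at h2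
    have h3 : U.topIso.hom (c.appTop ((Scheme.ΓSpecIso (CommRingCat.of P)).inv a)) = φ a :=
      (congrArg U.topIso.hom h2).trans (congr($(Category.assoc _ _ _ |>.trans ((congrArg (CommRingCat.ofHom φ ≫ ·) U.topIso.inv_hom_id).trans (Category.comp_id _))) a))
    refine Eq.trans ?_ h3
    simp [ρ, eP, Scheme.Opens.topIso]
    rfl
  let inst0 : Module Γ(Y, ⊤) Γ(M, U.ι ''ᵁ (c ⁻¹ᵁ ⊤)) :=
    (inferInstance : Module Γ(Y, ⊤) Γ(imgMod U φ M, ⊤))
  have key : RelFP.Core.Via ρ Γ(M, U.ι ''ᵁ (c ⁻¹ᵁ ⊤)) ↔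
      Module.FinitePresentation Γ(Y, ⊤) Γ(imgMod U φ M, ⊤) :=
    @RelFP.Core.via_iff Γ(Y, ⊤) Γ(X, U.ι ''ᵁ (c ⁻¹ᵁ ⊤)) _ _ Γ(M, U.ι ''ᵁ (c ⁻¹ᵁ ⊤)) _ _ ρ inst0
      fun _ _ => rfl
  constructor
  · intro h
    have h' := DescAlg.FPPush.finitePresentation_sections (isAffineOpen_top Y) _ h
    have h'' := key.2 h'
    refine RelFP.Core.via_of_equiv (M.presheaf.mapIso (eqToIso e.symm).op).addCommGroupIsoToAddEquiv
      (fun a x => ?_) (RelFP.Core.via_comp (eP : P →+* Γ(Y, ⊤)) ρ ?_ h'')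
    · refine (Scheme.Modules.map_smul _ _ _ _).trans ?_
      exact congrArg (fun r => r • M.presheaf.map (eqToHom e.symm).op x) (RingHom.congr_fun hρ a)
    · letI := (eP : P →+* Γ(Y, ⊤)).toAlgebra
      exact Module.FinitePresentation.of_equiv
        ({ eP.toAddEquiv with map_smul' := fun r x => map_mul eP r x } : P ≃ₗ[P] Γ(Y, ⊤))
  · intro h
    refine DescAlg.FPPush.isFP_of_sections _ fun x => ⟨⊤, isAffineOpen_top Y, trivial, ?_⟩
    have h' : RelFP.Core.Via (ρ.comp (eP : P →+* Γ(Y, ⊤))) Γ(M, U.ι ''ᵁ (c ⁻¹ᵁ ⊤)) := by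
      refine RelFP.Core.via_of_equiv (M.presheaf.mapIso (eqToIso e).op).addCommGroupIsoToAddEquiv
        (fun a x => ?_) h
      refine (Scheme.Modules.map_smul _ _ _ _).trans
        (congrArg (fun r => r • M.presheaf.map (eqToHom e).op x) ?_)
      rw [← hρ]
      simp only [RingHom.comp_apply, ← CommRingCat.comp_apply, ← Functor.map_comp]
      simp
      rfl
    exact key.1
      (RelFP.Core.via_comp_of_surjective (eP : P →+* Γ(Y, ⊤)) ρ eP.surjective h')

variable {f : X ⟶ S} [LocallyOfFiniteType f] (M : X.Modules)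

theorem isPseudoCoherentRel_inD_pos (m : ℤ) (hm : 0 < m) :
    DerSch.IsPseudoCoherentRel f m (DCoh.inD X M) :=
  isPseudoCoherentRel_of_forall fun U hU _ _ _ _ φ hφ _ x =>
    haveI := isClosedImmersion_imm hU hφ
    (PCSingle.pcAt_inD_pos _ m hm x).of_iso (GDinD _ _ M).symm

theorem isPseudoCoherentRel_inD_zero_iff :
    DerSch.IsPseudoCoherentRel f 0 (DCoh.inD X M) ↔ CohB1.IsFT M := by
  constructor
  · intro hE
    refine (PCSingle.isPseudoCoherentD_zero_iff _).1 ((iff_forall _ _).2 fun z => ?_)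
    obtain ⟨V, hV, hzV, -⟩ := exists_isAffineOpen_mem_and_subset (X := S) (x := f z) (U := ⊤) trivial
    obtain ⟨U, hU, hzU, hUV⟩ := exists_isAffineOpen_mem_and_subset (X := X) (x := z)
      (U := f ⁻¹ᵁ V) hzV
    obtain ⟨ι, _, φ, hφ, hC, -⟩ := hasTest_of_isPseudoCoherentRel (h := hUV) hE hU hV
    haveI := isClosedImmersion_imm hU hφ
    refine PCSingle.pcAt_inD_of_restrict U.ι ⟨z, hzU⟩ (PCSingle.pcAt_inD_of_isFT ?_ _)
    exact isFT_of_push (imm U φ) ((PCSingle.isPseudoCoherentD_zero_iff _).1 ((iff_forall _ _).2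
      fun x => (pcAt_of_isPseudoCoherentRel hE hU hV hφ hC x).of_iso (GDinD _ _ M)))
  · intro hM
    refine isPseudoCoherentRel_of_forall fun U hU _ _ _ n φ hφ _ => ?_
    haveI := isClosedImmersion_imm hU hφ
    exact fun x => (PCSingle.pcAt_inD_of_isFT (isFT_push _ (isFT_restrict hM U.ι)) x).of_iso
      (GDinD _ _ M).symm

theorem isPseudoCoherentRel_inD_negOne_iff :
    DerSch.IsPseudoCoherentRel f (-1) (DCoh.inD X M) ↔ (Coh.IsQCoh M ∧ Flatn.IsRelFP f M) := by
  constructor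
  · intro hE
    have hq : M.IsQuasicoherent := @CohBasics.Closure.isQCoh_of_iso _ _ _
      (PCSingle.HDInD M) (isQCoh_homology hE 0 (by omega))
    refine ⟨hq, RelFP.Scheme.isRelFP_of_forall_exists f M fun z => ?_⟩
    obtain ⟨V, hV, hzV, -⟩ := exists_isAffineOpen_mem_and_subset (X := S) (x := f z) (U := ⊤) trivial
    obtain ⟨U, hU, hzU, hUV⟩ := exists_isAffineOpen_mem_and_subset (X := X) (x := z)
      (U := f ⁻¹ᵁ V) hzV
    obtain ⟨n, φ, hφ, -⟩ := (hasTest_of_isPseudoCoherentRel (h := hUV) hE hU hV).exists_chart hU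
    haveI := isClosedImmersion_imm hU hφ.1
    refine ⟨⟨U, hU⟩, ⟨V, hV⟩, hUV, hzU, ?_⟩
    letI := (f.appLE V U hUV).hom.toAlgebra
    have hfp := (isFP_imgMod_iff hU hφ.1 M).1 ((PCSingle.isPseudoCoherentD_negOne_iff _).1
      ((iff_forall _ _).2 fun x =>
        (pcAt_of_isPseudoCoherentRel hE hU hV hφ.1 hφ.2 x).of_iso (GDinD _ _ M)))
    exact ⟨n, { φ with commutes' := fun r => RingHom.congr_fun hφ.2 r }, hφ.1, hfp⟩
  · rintro ⟨hq, hM⟩
    haveI : M.IsQuasicoherent := hq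
    refine isPseudoCoherentRel_of_hasTest fun U V h => ?_
    letI := (f.appLE (V : S.Opens) (U : X.Opens) h).hom.toAlgebra
    obtain ⟨n, ψ, hψ, hfp⟩ := RelFP.Scheme.relFPOn_of_isRelFP f M hM U V h
    have hC : ψ.toRingHom.comp MvPolynomial.C = (f.appLE (V : S.Opens) (U : X.Opens) h).hom :=
      RingHom.ext fun r => ψ.commutes r
    refine ⟨_, inferInstance, ψ.toRingHom, hψ, hC, ?_⟩
    exact (ringTest_inD_iff (hc := isClosedImmersion_imm U.2 hψ) _ M).2
      (fun x => PCSingle.pcAt_inD_of_isFP ((isFP_imgMod_iff U.2 hψ M).2 hfp) x)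

end Groth.Agent.H56.RelPC
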