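import Mathlib.AlgebraicGeometry.IdealSheaf.Basic
import Mathlib.AlgebraicGeometry.Morphisms.ClosedImmersion

/-!
Stalks of a thickening with nilpotent ideal.
-/

set_option autoImplicit false
set_option linter.style.haveILetI false

universe u

open CategoryTheory AlgebraicGeometry TopologicalSpace Opposite

namespace Groth.Agent.H56.RelPC.Thick

variable {X X' : Scheme.{u}}

theorem app_surjective (i : X ⟶ X') [IsClosedImmersion i] {V : X'.Opens} (hV : IsAffineOpen V) :
    Function.Surjective (i.app V) := by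
  haveI : IsAffine (V : Scheme.{u}) := hV
  haveI : IsClosedImmersion (i ∣_ V) := MorphismProperty.IsStableUnderBaseChange.of_isPullback
    (isPullback_morphismRestrict i V).flip ‹IsClosedImmersion i›
  have h := ((HasAffineProperty.iff_of_isAffine (P := @IsClosedImmersion)).1
    (inferInstance : IsClosedImmersion (i ∣_ V))).2
  rw [morphismRestrict_appTop] at h
  have h' : Function.Surjective (i.app (V.ι ''ᵁ ⊤)) := fun b => by
    obtain ⟨a, ha⟩ := h (X.presheaf.map (eqToHom (image_morphismRestrict_preimage i V ⊤)).op b)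
    exact ⟨a, (ConcreteCategory.bijective_of_isIso
      (X.presheaf.map (eqToHom (image_morphismRestrict_preimage i V ⊤)).op)).1 ha⟩
  have key : ∀ {W : X'.Opens}, W = V → Function.Surjective (i.app W) →
      Function.Surjective (i.app V) := by
    rintro _ rfl hW
    exact hW
  exact key (Scheme.Opens.ι_image_top V) h'

/-- The kernel on stalks of a closed immersion with nilpotent ideal sheaf is nilpotent. -/
theorem isNilpotent_ker_stalkMap (i : X ⟶ X') [IsClosedImmersion i] (hn : IsNilpotent i.ker)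
    (y : X) : IsNilpotent (RingHom.ker (i.stalkMap y).hom) := by
  obtain ⟨n, hn⟩ := hn
  obtain ⟨V, hV, hyV, -⟩ := exists_isAffineOpen_mem_and_subset (X := X') (x := i y) (U := ⊤) trivial
  letI := TopCat.Presheaf.algebra_section_stalk X'.presheaf (⟨i y, hyV⟩ : V)
  haveI : IsLocalization.AtPrime (X'.presheaf.stalk (i y)) (hV.primeIdealOf ⟨i y, hyV⟩).asIdeal :=
    hV.isLocalization_stalk ⟨i y, hyV⟩
  let γ := (X'.presheaf.germ V (i y) hyV).hom
  refine ⟨n + 1, le_bot_iff.1 ?_⟩
  have hle : RingHom.ker (i.stalkMap y).hom ≤ (i.ker.ideal ⟨V, hV⟩).map γ := by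
    intro a ha
    obtain ⟨s, t, rfl⟩ := IsLocalization.exists_mk'_eq (hV.primeIdealOf ⟨i y, hyV⟩).asIdeal.primeCompl a
    rw [RingHom.mem_ker] at ha
    have hs : i.stalkMap y (γ s) = 0 := by
      have h := congrArg (i.stalkMap y).hom (IsLocalization.mk'_spec (X'.presheaf.stalk (i y)) s t)
      rw [map_mul, ha, zero_mul] at h
      exact h.symm
    rw [Scheme.Hom.germ_stalkMap_apply] at hs
    have hD : IsAffineOpen (i ⁻¹ᵁ V) := hV.preimage i
    letI := TopCat.Presheaf.algebra_section_stalk X.presheaf (⟨y, hyV⟩ : (i ⁻¹ᵁ V : X.Opens))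
    haveI : IsLocalization.AtPrime (X.presheaf.stalk y) (hD.primeIdealOf ⟨y, hyV⟩).asIdeal :=
      hD.isLocalization_stalk ⟨y, hyV⟩
    obtain ⟨w, hw⟩ := (IsLocalization.map_eq_zero_iff (hD.primeIdealOf ⟨y, hyV⟩).asIdeal.primeCompl
      (X.presheaf.stalk y) (i.app V s)).1 hs
    obtain ⟨u, hu⟩ := app_surjective i hV w.1
    have hus : u * s ∈ i.ker.ideal ⟨V, hV⟩ := by
      rw [Scheme.Hom.ker_apply, RingHom.mem_ker, map_mul]
      exact (congrArg (· * i.app V s) hu).trans hw
    have hunit : IsUnit (γ u) := by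
      have : IsUnit (i.stalkMap y (γ u)) := by
        rw [Scheme.Hom.germ_stalkMap_apply, hu]
        exact IsLocalization.map_units (X.presheaf.stalk y) w
      exact isUnit_of_map_unit (i.stalkMap y).hom _ this
    have hγs : γ s ∈ (i.ker.ideal ⟨V, hV⟩).map γ := by
      have h := Ideal.mem_map_of_mem γ hus
      rw [map_mul] at h
      exact (Ideal.unit_mul_mem_iff_mem _ hunit).1 h
    rw [IsLocalization.mk'_eq_mul_mk'_one]
    exact Ideal.mul_mem_right _ _ hγs
  refine (Ideal.pow_right_mono hle (n + 1)).trans ?_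
  rw [← Ideal.map_pow]
  have h0 : i.ker.ideal ⟨V, hV⟩ ^ n = ⊥ := by
    have h := congrArg (fun J : X'.IdealSheafData => J.ideal ⟨V, hV⟩) hn
    simpa using h
  rw [pow_succ, h0, Submodule.bot_mul, Ideal.map_bot]

end Groth.Agent.H56.RelPC.Thick
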