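import Groth.Agent.H56.RelPC.Chart
import Mathlib.AlgebraicGeometry.Restrict

/-!
Restriction to an open of the target commutes with direct image.
-/

set_option autoImplicit false
set_option linter.style.haveILetI false

universe u

open CategoryTheory Limits AlgebraicGeometry TopologicalSpace Opposite

namespace Groth.Agent.H56.RelPC

open Groth.Agent.Lib Groth.Agent.Lib.Perfect.Basic Groth.Agent.Lib.Perfect.PseudoCoh

variable {Z X : Scheme.{u}} (i : Z ⟶ X) (W : X.Opens)

set_option backward.isDefEq.respectTransparency false in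
/-- `(i_* M)|_W = (i|_W)_* (M|_{i⁻¹ W})` for one module. -/
noncomputable def pushRestrIsoApp (M : Z.Modules) :
    (Scheme.Modules.restrictFunctor W.ι).obj ((Scheme.Modules.pushforward i).obj M) ≅
      (Scheme.Modules.pushforward (i ∣_ W)).obj ((Scheme.Modules.restrictFunctor (i ⁻¹ᵁ W).ι).obj M) := by
  refine (SheafOfModules.fullyFaithfulForget _).preimageIso <| PresheafOfModules.isoMk (fun O => ?_) ?_
  · refine ModuleCat.isoMk (M.presheaf.mapIso
      (eqToIso (image_morphismRestrict_preimage i W O.unop)).op) ?_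
    intro (r : Γ((W : Scheme.{u}), O.unop))
    ext (x : Γ(M, i ⁻¹ᵁ (W.ι ''ᵁ O.unop)))
    symm
    change M.presheaf.map (eqToHom (image_morphismRestrict_preimage i W O.unop)).op
        (i.app (W.ι ''ᵁ O.unop) ((W.ι.appIso O.unop).inv r) • x) =
      (((i ⁻¹ᵁ W).ι.appIso ((i ∣_ W) ⁻¹ᵁ O.unop)).inv ((i ∣_ W).app O.unop r)) •
        M.presheaf.map (eqToHom (image_morphismRestrict_preimage i W O.unop)).op x
    rw [Scheme.Modules.map_smul, Scheme.Opens.ι_appIso, Scheme.Opens.ι_appIso, morphismRestrict_app]
    rfl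
  · intro O O' g
    ext (x : Γ(M, i ⁻¹ᵁ (W.ι ''ᵁ O.unop)))
    change (M.presheaf.map _ ≫ M.presheaf.map _) x = (M.presheaf.map _ ≫ M.presheaf.map _) x
    rw [← Functor.map_comp, ← Functor.map_comp]
    rfl

/-- Direct image followed by restriction is restriction followed by direct image. -/
noncomputable def pushRestrIso :
    Scheme.Modules.pushforward i ⋙ Scheme.Modules.restrictFunctor W.ι ≅
      Scheme.Modules.restrictFunctor (i ⁻¹ᵁ W).ι ⋙ Scheme.Modules.pushforward (i ∣_ W) :=
  NatIso.ofComponents (fun M => pushRestrIsoApp i W M) fun {M N} φ => by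
    refine (SheafOfModules.fullyFaithfulForget _).map_injective (PresheafOfModules.hom_ext fun O => ?_)
    ext (x : Γ(M, i ⁻¹ᵁ (W.ι ''ᵁ O.unop)))
    exact (ConcreteCategory.congr_hom (φ.mapPresheaf.naturality
      (eqToIso (image_morphismRestrict_preimage i W O.unop)).op.hom) x).symm

end Groth.Agent.H56.RelPC
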