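import Groth.Agent.H56.RelPC.Transport
import Groth.Agent.H54.RelPC
import Groth.Agent.H54.FlatFP
import Groth.Agent.Lib.Perfect.TildeD

/-!
Surjective ring maps with pseudo-coherent quotient: the ring-level and the sheaf-level notions agree.
-/

set_option autoImplicit false
set_option linter.style.haveILetI false

universe u

open CategoryTheory Limits AlgebraicGeometry TopologicalSpace

namespace Groth.Agent.H56.RelPC

open Groth.Agent.Lib Groth.Agent.Lib.Perfect.Basic Groth.Agent.Lib.Perfect.PseudoCoh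
open Groth.Agent.Lib.DR.Basic Groth.Agent.Lib.DR.FiniteComplex Groth.Agent.Lib.DR.PseudoCoherent

attribute [local instance] HasDerivedCategory.standard

variable {A B : Type u} [CommRing A] [CommRing B]

set_option backward.isDefEq.respectTransparency.types false in
/-- Global sections of the direct image of the structure module. -/
theorem exists_sectionsIso (ψ : A →+* B) :
    Nonempty ((QCoh.Tilde.specΓ (CommRingCat.of A)).obj
      ((Scheme.Modules.pushforward (Spec.map (CommRingCat.ofHom ψ))).obj (Coh.structureModule _)) ≅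
      (H54.PCRestrict.res ψ).obj (ModuleCat.of B B)) := by
  let R := CommRingCat.of A
  let c := Spec.map (CommRingCat.ofHom ψ)
  let eB : B ≃+* Γ(Spec (CommRingCat.of B), ⊤) :=
    (Scheme.ΓSpecIso (CommRingCat.of B)).commRingCatIsoToRingEquiv.symm
  refine ⟨(LinearEquiv.toModuleIso
    (X₁ := (H54.PCRestrict.res ψ).obj (ModuleCat.of B B))
    (X₂ := (QCoh.Tilde.specΓ R).obj
      ((Scheme.Modules.pushforward c).obj (Coh.structureModule _)))
    { eB.toAddEquiv with map_smul' := fun a b => ?_ }).symm⟩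
  change eB (ψ a * (show B from b)) = @HMul.hMul Γ(Spec (CommRingCat.of B), ⊤) Γ(Spec (CommRingCat.of B), ⊤) _ _
    (c.appTop ((Spec R).presheaf.map
      (homOfLE (le_top (a := (⊤ : (Spec R).Opens)))).op ((Scheme.ΓSpecIso R).inv a))) (eB b)
  rw [show (homOfLE (le_top (a := (⊤ : (Spec R).Opens)))) = 𝟙 _ from Subsingleton.elim _ _]
  simp only [op_id, CategoryTheory.Functor.map_id]
  rw [map_mul]
  exact congrArg (· * eB b) (congr($(Scheme.ΓSpecIso_inv_naturality (CommRingCat.ofHom ψ)) a))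

/-- A quasi-coherent module and its sections. -/
theorem pcAt_qcoh_iff (R : CommRingCat.{u}) (N : (Spec R).Modules) [N.IsQuasicoherent]
    (M : ModuleCat.{u} R) (e : (QCoh.Tilde.specΓ R).obj N ≅ M) :
    (∀ (m : ℤ) (x : Spec R), PCAt m (DCoh.inD _ N) x) ↔
      ∀ m : ℤ, PCn (ff R) m ((H54.PCRestrict.sgl R 0).obj M) := by
  let i : (Perfect.TildeD.T R).obj ((H54.PCRestrict.sgl R 0).obj M) ≅ DCoh.inD _ N :=
    DR.ExactPush.mapSingle (tilde.functor R) M 0 ≪≫
      (DerivedCategory.singleFunctor _ 0).mapIso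
        ((tilde.functor R).mapIso e.symm ≪≫ QCoh.Tilde.isoTildeSections N)
  constructor
  · intro h m
    exact Perfect.TildeD.pcn_of_pcAt fun x => (h m x).of_iso i.symm
  · intro h m x
    exact (Perfect.TildeD.pcAt_of_pcn
      ((DR.TopCohomology.pcn_ff_iff_fproj _ _).1 (h m)) x).of_iso i

/-- Sheaf-level and ring-level pseudo-coherence of the quotient. -/
theorem pcStr_spec_iff (ψ : A →+* B) (hψ : Function.Surjective ψ) :
    PCStr (Spec.map (CommRingCat.ofHom ψ)) ↔ H54.PCRestrict.PCRing ψ := by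
  let c := Spec.map (CommRingCat.ofHom ψ)
  haveI : IsClosedImmersion c := IsClosedImmersion.spec_of_surjective _ hψ
  haveI : (Coh.structureModule (Spec (CommRingCat.of B))).IsQuasicoherent :=
    TensorMod.QCohInv.isQCoh_structureModule _
  let N := (Scheme.Modules.pushforward c).obj (Coh.structureModule _)
  haveI : N.IsQuasicoherent := QCoh.Pushforward.isQCoh_pushforward c
  obtain ⟨e⟩ := exists_sectionsIso ψ
  exact pcAt_qcoh_iff (CommRingCat.of A) N _ e

theorem pcRing_iff (ψ : A →+* B) :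
    PCRing ψ ↔ Function.Surjective ψ ∧ H54.PCRestrict.PCRing ψ :=
  ⟨fun h => ⟨h.surjective, (pcStr_spec_iff ψ h.surjective).1 h.pcStr⟩,
    fun h => ⟨h.1, (pcStr_spec_iff ψ h.1).2 h.2⟩⟩

/-- Polynomial extension. -/
theorem PCRing.map {ψ : A →+* B} (h : PCRing ψ) (ι : Type) [Finite ι] :
    PCRing (MvPolynomial.map ψ : MvPolynomial ι A →+* MvPolynomial ι B) := by
  obtain ⟨n, ⟨e⟩⟩ := Finite.exists_equiv_fin ι
  have hk : PCRing (MvPolynomial.map ψ : MvPolynomial (Fin n) A →+* MvPolynomial (Fin n) B) :=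
    (pcRing_iff _).2 ⟨MvPolynomial.map_surjective _ h.surjective,
      H54.RelPC.pcRing_map ((pcRing_iff ψ).1 h).2 n⟩
  convert (hk.comp_equiv (MvPolynomial.renameEquiv A e).toRingEquiv).equiv_comp
    (MvPolynomial.renameEquiv B e.symm).toRingEquiv using 1
  refine MvPolynomial.ringHom_ext (fun r => ?_) fun i => ?_ <;> simp

variable {X Y S : Scheme.{u}}

/-- A morphism whose sections are pseudo-coherent over those of the base. -/
def PCBase (g : Y ⟶ S) : Prop :=
  ∀ (W : Y.Opens) (V : S.Opens) (_ : IsAffineOpen W) (_ : IsAffineOpen V) (h : W ≤ g ⁻¹ᵁ V),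
    ∃ (κ : Type) (_ : Finite κ) (ψ : MvPolynomial κ Γ(S, V) →+* Γ(Y, W)),
      ψ.comp MvPolynomial.C = (g.appLE V W h).hom ∧ PCRing ψ

theorem pcBase_of_flat (g : Y ⟶ S) [Flat g] [LocallyOfFinitePresentation g] : PCBase g := by
  intro W V hW hV h
  have hfl := g.flat_appLE hV hW h
  have hfp := g.finitePresentation_appLE hV hW h
  algebraize [(g.appLE V W h).hom]
  obtain ⟨n, φ, hφ, hk⟩ := H54.RelPC.hom_iff.1 (H54.FlatFP.hom_of_flat Γ(S, V) Γ(Y, W))
  exact ⟨Fin n, inferInstance, φ.toRingHom, RingHom.ext fun r => φ.commutes r,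
    (pcRing_iff _).2 ⟨hφ, hk⟩⟩

theorem pcBase_of_isNPseudoCoherent {g : Y ⟶ S} [LocallyOfFiniteType g]
    (hg : ∀ n : ℤ, DerSch.IsNPseudoCoherent g n) : PCBase g := by
  intro W V hW hV h
  have hft : (g.appLE V W h).hom.FiniteType := LocallyOfFiniteType.finiteType_appLE g hV hW h
  algebraize [(g.appLE V W h).hom]
  obtain ⟨n, φ, hφ⟩ := Algebra.FiniteType.iff_quotient_mvPolynomial''.1 ‹_›
  have hC : φ.toRingHom.comp MvPolynomial.C = (g.appLE V W h).hom := RingHom.ext fun r => φ.commutes r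
  haveI := isClosedImmersion_imm hW (φ := φ.toRingHom) hφ
  haveI : IsClosedImmersion (Spec.map (CommRingCat.ofHom φ.toRingHom)) :=
    IsClosedImmersion.spec_of_surjective _ hφ
  have hc : PCStr (imm W φ.toRingHom) := fun m x => by
    let hi : DCoh.inD Y (Coh.structureModule Y) ≅ DCoh.toD Y (DerSch.unitCx Y) :=
      (DerivedCategory.singleFunctorIsoCompQ Y.Modules 0).app (Coh.structureModule Y)
    exact (pcAt_of_isPseudoCoherentRel (hg m) hW hV hφ hC x).of_iso
      ((GD (imm W φ.toRingHom) W.ι).mapIso hi.symm ≪≫ GDinD _ _ _ ≪≫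
        (DerivedCategory.singleFunctor _ 0).mapIso
          ((Scheme.Modules.pushforward (imm W φ.toRingHom)).mapIso
            (Scheme.Modules.restrictUnitIso W.ι)))
  refine ⟨Fin n, inferInstance, φ.toRingHom, hC, hφ, ?_⟩
  haveI : IsIso W.toSpecΓ := by rw [← hW.isoSpec_hom]; infer_instance
  exact ((pcStr_of_isIso (inv W.toSpecΓ)).comp hc).of_eq (IsIso.inv_hom_id_assoc _ _)

section Comp

variable {f : X ⟶ Y} {g : Y ⟶ S} {m : ℤ} {K : DCoh.D X} {U : X.Opens} {W : Y.Opens} {V : S.Opens}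
  {h₁ : U ≤ f ⁻¹ᵁ W} {h : U ≤ (f ≫ g) ⁻¹ᵁ V}

/-- The test for the composite against the test for the first morphism. -/
theorem hasTest_comp_iff (h₂ : W ≤ g ⁻¹ᵁ V) (hg : PCBase g) [LocallyOfFiniteType f] (hU : IsAffineOpen U)
    (hW : IsAffineOpen W) (hV : IsAffineOpen V) :
    HasTest (f ≫ g) U V h m K ↔ HasTest f U W h₁ m K := by
  obtain ⟨κ, _, ψ, hψC, hψ⟩ := hg W V hW hV h₂
  have hft : (f.appLE W U h₁).hom.FiniteType := LocallyOfFiniteType.finiteType_appLE f hW hU h₁
  algebraize [(f.appLE W U h₁).hom]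
  obtain ⟨n, φ', hφ⟩ := Algebra.FiniteType.iff_quotient_mvPolynomial''.1 ‹_›
  let φ := φ'.toRingHom
  have hC : φ.comp MvPolynomial.C = (f.appLE W U h₁).hom := RingHom.ext fun r => φ'.commutes r
  let π := (MvPolynomial.map ψ : MvPolynomial (Fin n) _ →+* MvPolynomial (Fin n) _).comp
    (MvPolynomial.sumRingEquiv Γ(S, V) (Fin n) κ).toRingHom
  have hπ : PCRing π := (hψ.map (Fin n)).comp_equiv (MvPolynomial.sumRingEquiv Γ(S, V) (Fin n) κ)
  have hθ : (φ.comp π).comp MvPolynomial.C = ((f ≫ g).appLE V U h).hom := by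
    rw [← Scheme.Hom.appLE_comp_appLE f g V W U h₂ h₁, CommRingCat.hom_comp, ← hC, ← hψC]
    ext r
    simp [π]
  have hsurj : Function.Surjective (φ.comp π) := (RingHom.coe_comp φ π) ▸ Function.Surjective.comp hφ hπ.surjective
  exact ⟨fun hT => ⟨Fin n, inferInstance, φ, hφ, hC,
      (ringTest_comp hU m K hφ hπ rfl).1 (hT.ringTest hU hsurj hθ)⟩,
    fun hT => ⟨_, inferInstance, φ.comp π, hsurj, hθ,
      (ringTest_comp hU m K hφ hπ rfl).2 (hT.ringTest hU hφ hC)⟩⟩

/-- Relative pseudo-coherence over a pseudo-coherent base change. -/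
theorem isPseudoCoherentRel_comp_iff [LocallyOfFiniteType f] [LocallyOfFiniteType g] (hg : PCBase g) :
    DerSch.IsPseudoCoherentRel (f ≫ g) m K ↔ DerSch.IsPseudoCoherentRel f m K := by
  constructor
  · intro hK
    refine isPseudoCoherentRel_of_hasTest fun U W h => ?_
    have hft : (f.appLE (W : Y.Opens) (U : X.Opens) h).hom.FiniteType :=
      LocallyOfFiniteType.finiteType_appLE f W.2 U.2 h
    algebraize [(f.appLE (W : Y.Opens) (U : X.Opens) h).hom]
    obtain ⟨n, φ, hφ⟩ := Algebra.FiniteType.iff_quotient_mvPolynomial''.1 ‹_›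
    refine hasTest_of_locally U.2 (φ := φ.toRingHom) hφ (RingHom.ext fun r => φ.commutes r)
      fun z hz => ?_
    obtain ⟨V, hV, hzV, -⟩ :=
      exists_isAffineOpen_mem_and_subset (X := S) (x := g (f z)) (U := ⊤) trivial
    obtain ⟨r, hr, hzr⟩ := W.2.exists_basicOpen_le (V := g ⁻¹ᵁ V) ⟨f z, hzV⟩ (h hz)
    obtain ⟨a, ha, hza⟩ := U.2.exists_basicOpen_le (V := f ⁻¹ᵁ Y.basicOpen r) ⟨z, hzr⟩ hz
    refine ⟨a, hza, ?_⟩
    have hT : HasTest (f ≫ g) (X.basicOpen a) V (fun x hx => hr (ha hx)) m K :=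
      hasTest_of_isPseudoCoherentRel hK (U.2.basicOpen a) hV
    exact ((hasTest_comp_iff (h₁ := ha) hr hg (U.2.basicOpen a) (W.2.basicOpen r) hV).1
      hT).of_base W.2 (U.2.basicOpen a) r ha
  · intro hK
    refine isPseudoCoherentRel_of_hasTest fun U V h => ?_
    have hft : ((f ≫ g).appLE (V : S.Opens) (U : X.Opens) h).hom.FiniteType :=
      LocallyOfFiniteType.finiteType_appLE (f ≫ g) V.2 U.2 h
    algebraize [((f ≫ g).appLE (V : S.Opens) (U : X.Opens) h).hom]
    obtain ⟨n, φ, hφ⟩ := Algebra.FiniteType.iff_quotient_mvPolynomial''.1 ‹_›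
    refine hasTest_of_locally U.2 (φ := φ.toRingHom) hφ (RingHom.ext fun r => φ.commutes r)
      fun z hz => ?_
    obtain ⟨W, hW, hzW, hWV⟩ :=
      exists_isAffineOpen_mem_and_subset (X := Y) (x := f z) (U := g ⁻¹ᵁ (V : S.Opens)) (h hz)
    obtain ⟨a, ha, hza⟩ := U.2.exists_basicOpen_le (V := f ⁻¹ᵁ W) ⟨z, hzW⟩ hz
    refine ⟨a, hza, ?_⟩
    exact (hasTest_comp_iff (h₁ := ha) hWV hg (U.2.basicOpen a) hW V.2).2
      (hasTest_of_isPseudoCoherentRel hK (U.2.basicOpen a) hW)

end Comp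

end Groth.Agent.H56.RelPC
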