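import Groth.Agent.H56.RelPC.Bridge

/-!
Relative pseudo-coherence against absolute pseudo-coherence.
-/

set_option autoImplicit false
set_option linter.style.haveILetI false

universe u

open CategoryTheory Limits AlgebraicGeometry TopologicalSpace

namespace Groth.Agent.H56.RelPC

open Groth.Agent.Lib Groth.Agent.Lib.Perfect.Basic Groth.Agent.Lib.Perfect.PseudoCoh

attribute [local instance] HasDerivedCategory.standard

variable {X Y S : Scheme.{u}}

theorem pcStr_imm {U : X.Opens} (hU : IsAffineOpen U) {P : Type u} [CommRing P]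
    {φ : P →+* Γ(X, U)} (hφ : PCRing φ) : PCStr (imm U φ) := by
  haveI : IsIso U.toSpecΓ := by rw [← hU.isoSpec_hom]; infer_instance
  haveI : IsClosedImmersion (Spec.map (CommRingCat.ofHom φ)) :=
    IsClosedImmersion.spec_of_surjective _ hφ.surjective
  exact (pcStr_of_isIso U.toSpecΓ).comp hφ.pcStr

theorem pcAt_restrict_iff {K : DCoh.D X} {m : ℤ} (U : X.Opens) :
    (∀ z, PCAt m ((RD U.ι).obj K) z) ↔ ∀ x ∈ U, PCAt m K x :=
  ⟨fun h x hx => PCAt.of_restrict (j := U.ι) (y := (⟨x, hx⟩ : (U : Scheme.{u}))) rfl (h _),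
    fun h z => PCAt.restrict U.ι z (h _ z.2)⟩

/-- Absolute against relative for a pseudo-coherent structure morphism. -/
theorem isPseudoCoherentD_iff_rel {g : Y ⟶ S} [LocallyOfFiniteType g] (hg : PCBase g) (m : ℤ)
    (K : DCoh.D Y) :
    DCoh.IsPseudoCoherentD m K ↔ DerSch.IsPseudoCoherentRel g m K := by
  rw [iff_forall]
  constructor
  · intro hK
    refine isPseudoCoherentRel_of_hasTest fun W V h => ?_
    obtain ⟨κ, _, ψ, hC, hψ⟩ := hg W V W.2 V.2 h
    haveI := isClosedImmersion_imm W.2 hψ.surjective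
    exact ⟨κ, inferInstance, ψ, hψ.surjective, hC, this,
      (pcTest_iff_restrict (pcStr_imm W.2 hψ) _ m K).2 ((pcAt_restrict_iff _).2 fun x _ => hK x)⟩
  · intro hK y
    obtain ⟨V, hV, hyV, -⟩ := exists_isAffineOpen_mem_and_subset (X := S) (x := g y) (U := ⊤) trivial
    obtain ⟨W, hW, hyW, hWV⟩ := exists_isAffineOpen_mem_and_subset (X := Y) (x := y)
      (U := g ⁻¹ᵁ V) hyV
    obtain ⟨κ, _, ψ, hC, hψ⟩ := hg W V hW hV hWV
    haveI := isClosedImmersion_imm hW hψ.surjective
    exact (pcAt_restrict_iff W).1 ((pcTest_iff_restrict (pcStr_imm hW hψ) _ m K).1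
      (pcAt_of_isPseudoCoherentRel (h := hWV) hK hW hV hψ.surjective hC)) y hyW

/-- Relative to a closed immersion means absolute for the direct image. -/
theorem isPseudoCoherentRel_closedImmersion_iff (i : X ⟶ Y) [IsClosedImmersion i] (m : ℤ)
    (K : DCoh.D X) :
    DerSch.IsPseudoCoherentRel i m K ↔ DCoh.IsPseudoCoherentD m ((PD i).obj K) := by
  rw [iff_forall]
  have key : ∀ (W : Y.Opens), IsAffineOpen W → (HasTest i (i ⁻¹ᵁ W) W le_rfl m K ↔
      ∀ y, PCAt m ((RD W.ι).obj ((PD i).obj K)) y) := by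
    intro W hW
    have hU := hW.preimage i
    let e := MvPolynomial.isEmptyRingEquiv Γ(Y, W) PEmpty.{1}
    let φ : MvPolynomial PEmpty.{1} Γ(Y, W) →+* Γ(X, i ⁻¹ᵁ W) := (i.app W).hom.comp e.toRingHom
    have hφ : Function.Surjective φ :=
      (i.app_surjective W hW).comp e.surjective
    have hC : φ.comp MvPolynomial.C = (i.appLE W (i ⁻¹ᵁ W) le_rfl).hom := by
      ext r
      have h1 : e (MvPolynomial.C r) = r := by
        rw [← MvPolynomial.isEmptyRingEquiv_symm_apply Γ(Y, W) PEmpty.{1} r]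
        exact e.apply_symm_apply r
      simp [φ, h1, Scheme.Hom.app_eq_appLE]
    haveI := isClosedImmersion_imm hU hφ
    haveI : IsIso W.toSpecΓ := by rw [← hW.isoSpec_hom]; infer_instance
    haveI : IsIso (CommRingCat.ofHom e.toRingHom) :=
      (ConcreteCategory.isIso_iff_bijective _).2 e.bijective
    let d := W.toSpecΓ ≫ Spec.map (CommRingCat.ofHom e.toRingHom)
    have he : (i ∣_ W) ≫ d = imm (i ⁻¹ᵁ W) φ := by
      simp only [d, imm, φ, CommRingCat.ofHom_comp, CommRingCat.ofHom_hom, Spec.map_comp]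
      rw [← Category.assoc, ← Scheme.Opens.toSpecΓ_naturality, Category.assoc]
    have hd := pcTest_comp (pcStr_of_isIso d) he (i ⁻¹ᵁ W).ι m K
    let hi := restrPD i W K ≪≫ GDIso (i ∣_ W) (i ⁻¹ᵁ W).ι K
    refine ⟨fun hT y => ?_, fun h => ⟨_, inferInstance, φ, hφ, hC, inferInstance,
      hd.2 fun y => (h y).of_iso hi⟩⟩
    exact (hd.1 (hT.ringTest hU hφ hC).2 y).of_iso hi.symm
  constructor
  · intro hK y
    obtain ⟨W, hW, hyW, -⟩ := exists_isAffineOpen_mem_and_subset (X := Y) (x := y) (U := ⊤) trivial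
    exact (pcAt_restrict_iff W).1
      ((key W hW).1 (hasTest_of_isPseudoCoherentRel hK (hW.preimage i) hW)) y hyW
  · intro hK
    have hall : ∀ (W : Y.Opens), IsAffineOpen W → HasTest i (i ⁻¹ᵁ W) W le_rfl m K :=
      fun W hW => (key W hW).2 ((pcAt_restrict_iff W).2 fun y _ => hK y)
    refine ⟨inferInstance, Set.univ, eq_top_iff.2 fun s _ => ?_, fun W _ =>
        ⟨{⟨i ⁻¹ᵁ (W : Y.Opens), W.2.preimage i⟩}, ?_, ?_⟩⟩
    · simp only [TopologicalSpace.Opens.mem_iSup]
      obtain ⟨W, hW, hsW, -⟩ := exists_isAffineOpen_mem_and_subset (X := Y) (x := s) (U := ⊤) trivial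
      exact ⟨⟨W, hW⟩, trivial, hsW⟩
    · simp only [iSup_singleton]
    · intro U hU h
      cases hU
      exact (hall _ W.2).exists_chart (W.2.preimage i)

end Groth.Agent.H56.RelPC
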