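import Groth.Agent.H56.RelPC.FlatBCD
import Groth.Agent.Lib.DR.Descent

/-!
Descent of relative pseudo-coherence along a flat covering of the base.
-/

set_option autoImplicit false
set_option linter.style.haveILetI false

universe u

open CategoryTheory Limits AlgebraicGeometry TopologicalSpace Opposite
open scoped TensorProduct

namespace Groth.Agent.H56.RelPC

open Groth.Agent.Lib Groth.Agent.Lib.Perfect.Basic Groth.Agent.Lib.Perfect.PseudoCoh
open Groth.Agent.Lib.Perfect.Ascent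
open Groth.Agent.Lib.DR.Basic Groth.Agent.Lib.DR.FiniteComplex Groth.Agent.Lib.DR.PseudoCoherent

attribute [local instance] HasDerivedCategory.standard

/-- A flat family whose spectra cover detects zero modules. -/
theorem detects_of_cover {R : Type u} [CommRing R] {ι : Type} (B : ι → Type u) [∀ i, CommRing (B i)]
    [∀ i, Algebra R (B i)] [∀ i, Module.Flat R (B i)]
    (hcov : ∀ p : PrimeSpectrum R, ∃ (i : ι) (q : PrimeSpectrum (B i)),
      PrimeSpectrum.comap (algebraMap R (B i)) q = p) :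
    DR.Descent.Detects (A := R) B := by
  intro M _ _ hM
  refine subsingleton_of_forall_eq 0 fun x => ?_
  by_contra hx
  let J : Ideal R := LinearMap.ker (LinearMap.toSpanSingleton R M x)
  have hJ : J ≠ ⊤ := fun h => hx (by simpa [J] using (show (1 : R) ∈ J from h ▸ Submodule.mem_top))
  obtain ⟨p, hp, hJp⟩ := J.exists_le_maximal hJ
  obtain ⟨i, q, hq⟩ := hcov ⟨p, hp.isPrime⟩
  have hJq : J ≤ LinearMap.ker (Algebra.linearMap R (B i ⧸ q.asIdeal)) := by
    intro r hr
    rw [LinearMap.mem_ker, Algebra.linearMap_apply, IsScalarTower.algebraMap_apply R (B i),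
      Ideal.Quotient.algebraMap_eq, Ideal.Quotient.eq_zero_iff_mem]
    exact (congrArg PrimeSpectrum.asIdeal hq).ge (hJp hr)
  let φ : (R ⧸ J) →ₗ[R] B i ⧸ q.asIdeal := Submodule.liftQ J _ hJq
  let ψ : B i ⊗[R] (R ⧸ J) →ₗ[R] B i ⧸ q.asIdeal :=
    TensorProduct.lift ((LinearMap.lsmul (B i) (B i ⧸ q.asIdeal)).restrictScalars₁₂ R R |>.compl₂ φ)
  have hinj : Function.Injective ((Submodule.liftQ J (LinearMap.toSpanSingleton R M x) le_rfl).lTensor (B i)) := by
    refine Module.Flat.lTensor_preserves_injective_linearMap (M := B i) _ ?_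
    rw [← LinearMap.ker_eq_bot]
    exact Submodule.ker_liftQ_eq_bot _ _ _ le_rfl
  haveI := hM i
  have h0 : (1 : B i) ⊗ₜ[R] (Submodule.Quotient.mk (1 : R) : R ⧸ J) = 0 :=
    hinj (Subsingleton.elim _ _)
  have h1 : (1 : B i ⧸ q.asIdeal) = 0 := by
    have h2 := congrArg ψ h0
    rw [map_zero] at h2
    rw [← h2]
    show (1 : B i ⧸ q.asIdeal) = (1 : B i) • algebraMap R (B i ⧸ q.asIdeal) 1
    rw [one_smul, map_one]
  exact one_ne_zero h1

set_option backward.isDefEq.respectTransparency.types false in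
/-- Polynomial rings over a detecting family detect. -/
theorem detects_polynomial {R : Type u} [CommRing R] {ι : Type} (B : ι → Type u) [∀ i, CommRing (B i)]
    [∀ i, Algebra R (B i)] (hB : DR.Descent.Detects (A := R) B) (n : ℕ) :
    letI : ∀ i, Algebra (MvPolynomial (Fin n) R) (MvPolynomial (Fin n) (B i)) :=
      fun _ => MvPolynomial.algebraMvPolynomial
    DR.Descent.Detects (A := MvPolynomial (Fin n) R) fun i => MvPolynomial (Fin n) (B i) := by
  letI : ∀ i, Algebra (MvPolynomial (Fin n) R) (MvPolynomial (Fin n) (B i)) :=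
    fun _ => MvPolynomial.algebraMvPolynomial
  intro M _ _ hM
  letI : Module R M := Module.compHom M (algebraMap R (MvPolynomial (Fin n) R))
  haveI : IsScalarTower R (MvPolynomial (Fin n) R) M :=
    IsScalarTower.of_algebraMap_smul fun r m => rfl
  refine hB M fun i => ?_
  haveI : Algebra.IsPushout R (B i) (MvPolynomial (Fin n) R) (MvPolynomial (Fin n) (B i)) :=
    Algebra.IsPushout.symm inferInstance
  haveI := hM i
  exact (Algebra.IsPushout.cancelBaseChange R (B i) (MvPolynomial (Fin n) R)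
    (MvPolynomial (Fin n) (B i)) M).symm.toEquiv.subsingleton

/-- Inverse image of `M~` in the derived category. -/
noncomputable def pullTildeD {A B : CommRingCat.{u}} (b : A ⟶ B) [Flat (Spec.map b)]
    [PreservesFiniteLimits (ModuleCat.extendScalars.{u, u, u} b.hom)]
    [PreservesFiniteColimits (ModuleCat.extendScalars.{u, u, u} b.hom)]
    [PreservesFiniteLimits (tilde.functor A)] [PreservesFiniteLimits (tilde.functor B)] (M : Dual.D A) :
    (FPD (Spec.map b)).obj ((DCoh.tildeD A).obj M) ≅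
      (DCoh.tildeD B).obj ((ModuleCat.extendScalars.{u, u, u} b.hom).mapDerivedCategory.obj M) :=
  let i := DerivedCategory.Q.objObjPreimageIso M
  let C := DerivedCategory.Q.objPreimage M
  (FPD (Spec.map b)).mapIso ((DCoh.tildeD A).mapIso i.symm ≪≫ DR.ExactPush.mapQ (tilde.functor A) C) ≪≫
    DR.ExactPush.mapQ (Scheme.Modules.pullback (Spec.map b)) _ ≪≫
    DerivedCategory.Q.mapIso ((NatIso.mapHomologicalComplex (QCoh.Pullback.pullbackTildeIso b) _).app C) ≪≫
    (DR.ExactPush.mapQ (tilde.functor B)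
      (((ModuleCat.extendScalars.{u, u, u} b.hom).mapHomologicalComplex (ComplexShape.up ℤ)).obj C)).symm ≪≫
    (DCoh.tildeD B).mapIso ((DR.ExactPush.mapQ (ModuleCat.extendScalars.{u, u, u} b.hom) C).symm ≪≫
      (ModuleCat.extendScalars.{u, u, u} b.hom).mapDerivedCategory.mapIso i)

set_option backward.isDefEq.respectTransparency.types false in
/-- Pseudo-coherence on an affine scheme descends along a flat covering family. -/
theorem pcAt_desc {P : CommRingCat.{u}} {ι : Type} [Finite ι] (P' : ι → CommRingCat.{u})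
    (b : ∀ i, P ⟶ P' i) [∀ i, Flat (Spec.map (b i))]
    (hdet : letI := fun i => (b i).hom.toAlgebra
      DR.Descent.Detects (A := P) fun i => P' i)
    {L : DCoh.D (Spec P)} (hL : DCoh.IsQCohD L) {m : ℤ}
    (h : ∀ i x, PCAt m ((FPD (Spec.map (b i))).obj L) x) (x : Spec P) : PCAt m L x := by
  letI := fun i => (b i).hom.toAlgebra
  haveI : ∀ i, Module.Flat P (P' i) := fun i => Flat.SpecMap_iff.1 inferInstance
  haveI : PreservesFiniteLimits (tilde.functor P) := QCoh.Tilde.tildeFunctor_preservesFiniteLimits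
  obtain ⟨M, ⟨e⟩⟩ := ((Groth.Agent.S0997.result P).2.2 L).1 hL
  have hM : PCn (ff P) m M := DR.Descent.pcn_desc hdet m M fun i => by
    haveI : PreservesFiniteLimits (tilde.functor (P' i)) := QCoh.Tilde.tildeFunctor_preservesFiniteLimits
    haveI : PreservesFiniteLimits (ModuleCat.extendScalars.{u, u, u} (b i).hom) :=
      DR.FlatBC.preservesFiniteLimits (A := P) (B := P' i)
    haveI : PreservesFiniteColimits (ModuleCat.extendScalars.{u, u, u} (b i).hom) :=
      DR.FlatBC.preservesFiniteColimits (A := P) (B := P' i)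
    exact Perfect.TildeD.pcn_of_pcAt fun y =>
      (h i y).of_iso ((FPD (Spec.map (b i))).mapIso e.symm ≪≫ pullTildeD (b i) M)
  exact (Perfect.TildeD.pcAt_of_pcn ((DR.TopCohomology.pcn_ff_iff_fproj _ _).1 hM) x).of_iso e

end Groth.Agent.H56.RelPC

namespace Groth.Agent.H56.RelPC

open Groth.Agent.Lib Groth.Agent.Lib.Perfect.Basic Groth.Agent.Lib.Perfect.PseudoCoh
open Groth.Agent.Lib.Perfect.Ascent

/-- A chart functor keeps quasi-coherent cohomology. -/
theorem isQCohD_GD {Z Y P : Scheme.{u}} (c : Z ⟶ Y) [IsClosedImmersion c] (j : Z ⟶ P)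
    [IsOpenImmersion j] {K : DCoh.D P} (hK : DCoh.IsQCohD K) : DCoh.IsQCohD ((GD c j).obj K) :=
  fun i => by
    haveI : SheafOfModules.IsQuasicoherent (R := Z.ringCatSheaf)
        ((Scheme.Modules.restrictFunctor j).obj (DCoh.HD K i)) :=
      @Scheme.Modules.isQuasicoherent_restrictFunctor _ _ j _ _ (hK i)
    exact @CohBasics.Closure.isQCoh_of_iso _ _ _ (homologyGD c j K i).symm
      (QCoh.Pushforward.isQCoh_pushforward c)

/-- Descent of relative pseudo-coherence along a flat covering of the base. -/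
theorem isPseudoCoherentRel_of_base_cover {X S : Scheme.{u}} {f : X ⟶ S} [LocallyOfFiniteType f]
    {ι : Type u} (Si : ι → Scheme.{u}) (h : ∀ i, Si i ⟶ S) [∀ i, Flat (h i)]
    [∀ i, LocallyOfFinitePresentation (h i)] (hcov : ∀ s : S, ∃ (i : ι) (t : Si i), h i t = s)
    (X' : ι → Scheme.{u}) (g : ∀ i, X' i ⟶ X) (f' : ∀ i, X' i ⟶ Si i) [∀ i, Flat (g i)]
    (hc : ∀ i, IsPullback (g i) (f' i) f (h i)) {m : ℤ} {K : DCoh.D X} (hK : DCoh.IsQCohD K)
    (hrel : ∀ i, DerSch.IsPseudoCoherentRel (f' i) m ((FPD (g i)).obj K)) :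
    DerSch.IsPseudoCoherentRel f m K := by
  refine isPseudoCoherentRel_of_hasTest fun U W hUW => ?_
  have hft : (f.appLE (W : S.Opens) (U : X.Opens) hUW).hom.FiniteType :=
    LocallyOfFiniteType.finiteType_appLE f W.2 U.2 hUW
  algebraize [(f.appLE (W : S.Opens) (U : X.Opens) hUW).hom]
  obtain ⟨n, α₀, hα⟩ := Algebra.FiniteType.iff_quotient_mvPolynomial''.1 hft
  let α : MvPolynomial (Fin n) Γ(S, (W : S.Opens)) →+* Γ(X, (U : X.Opens)) := α₀.toRingHom
  have hC : α.comp MvPolynomial.C = (f.appLE (W : S.Opens) (U : X.Opens) hUW).hom :=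
    RingHom.ext fun r => α₀.commutes r
  have hopen : ∀ s : S, s ∈ (W : S.Opens) → ∃ (i : ι) (V : (Si i).Opens), IsAffineOpen V ∧
      V ≤ h i ⁻¹ᵁ (W : S.Opens) ∧ s ∈ h i '' (V : Set (Si i)) := by
    intro s hs
    obtain ⟨i, t, rfl⟩ := hcov s
    obtain ⟨V, hV, htV, hVW⟩ := exists_isAffineOpen_mem_and_subset (X := Si i) (x := t)
      (U := h i ⁻¹ᵁ (W : S.Opens)) hs
    exact ⟨i, V, hV, hVW, t, htV, rfl⟩
  choose idx V hV hVW hmem using fun s : ((W : S.Opens) : Set S) => hopen s.1 s.2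
  obtain ⟨T, hT⟩ := W.2.isCompact.elim_finite_subcover
    (fun s : ((W : S.Opens) : Set S) => h (idx s) '' (V s : Set (Si (idx s))))
    (fun s => (h (idx s)).isOpenMap _ (V s).2)
    (fun s hs => Set.mem_iUnion.2 ⟨⟨s, hs⟩, hmem ⟨s, hs⟩⟩)
  let e := T.equivFin.symm
  let σ : Fin T.card → ((W : S.Opens) : Set S) := fun k => (e k).1
  let b₀ : ∀ k, Γ(S, (W : S.Opens)) ⟶ Γ(Si (idx (σ k)), V (σ k)) := fun k =>
    (h (idx (σ k))).appLE (W : S.Opens) (V (σ k)) (hVW (σ k))
  letI := fun k => (b₀ k).hom.toAlgebra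
  haveI : ∀ k, Module.Flat Γ(S, (W : S.Opens)) Γ(Si (idx (σ k)), V (σ k)) := fun k =>
    (h (idx (σ k))).flat_appLE W.2 (hV (σ k)) (hVW (σ k))
  have hdet₀ : DR.Descent.Detects (A := Γ(S, (W : S.Opens))) fun k => Γ(Si (idx (σ k)), V (σ k)) := by
    refine detects_of_cover _ fun p => ?_
    have hp : W.2.fromSpec p ∈ ((W : S.Opens) : Set S) := W.2.range_fromSpec.le ⟨p, rfl⟩
    obtain ⟨s, hsT, t, ht, hts⟩ := Set.mem_iUnion₂.1 (hT hp)
    obtain ⟨k, rfl⟩ : ∃ k, σ k = s := ⟨T.equivFin ⟨s, hsT⟩, by simp [σ, e]⟩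
    obtain ⟨q, rfl⟩ : t ∈ Set.range (hV (σ k)).fromSpec := by
      rw [(hV (σ k)).range_fromSpec]; exact ht
    refine ⟨k, q, W.2.fromSpec.isOpenEmbedding.injective ?_⟩
    refine Eq.trans ?_ hts
    exact congr($(IsAffineOpen.SpecMap_appLE_fromSpec (h (idx (σ k))) W.2 (hV (σ k)) (hVW (σ k))) q)
  let b : ∀ k, CommRingCat.of (MvPolynomial (Fin n) Γ(S, (W : S.Opens))) ⟶
      CommRingCat.of (MvPolynomial (Fin n) Γ(Si (idx (σ k)), V (σ k))) := fun k =>
    CommRingCat.ofHom (MvPolynomial.map (σ := Fin n) (b₀ k).hom)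
  haveI : ∀ k, Flat (Spec.map (b k)) := fun k =>
    flat_spec_map ((h (idx (σ k))).flat_appLE W.2 (hV (σ k)) (hVW (σ k))) n
  haveI := isClosedImmersion_imm U.2 (φ := α) hα
  refine ⟨Fin n, inferInstance, α, hα, hC, ‹_›, pcAt_desc _ b (detects_polynomial _ hdet₀ n)
    (isQCohD_GD _ _ hK) fun k x => ?_⟩
  obtain ⟨hUY, hpres⟩ := exists_bcData (hc (idx (σ k))) U.2 W.2 (hV (σ k)) (hVW (σ k)) hUW hα hC
  obtain ⟨β, hβ, hβC, hp⟩ := hpres (hVW (σ k))
  haveI := isClosedImmersion_imm hUY hβ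
  haveI : Flat (Spec.map (CommRingCat.ofHom (MvPolynomial.map (σ := Fin n)
      ((h (idx (σ k))).appLE (W : S.Opens) (V (σ k)) (hVW (σ k))).hom))) :=
    inferInstanceAs (Flat (Spec.map (b k)))
  obtain ⟨F, hF⟩ := exists_bc_test U.2 hUY inf_le_left hα hβ hp K
  haveI := isIso_of_good fun m' => hF m' fun i _ => isQCoh_restrict (hK i) _
  exact (pcAt_of_isPseudoCoherentRel (hrel (idx (σ k))) hUY (hV (σ k)) hβ hβC x).of_iso (asIso F).symm

end Groth.Agent.H56.RelPC
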