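import Groth.Agent.H56.RelPC.AffineD
import Groth.Agent.H56.RelPC.FlatDesc
import Groth.Agent.H54.RelPCApp

/-!
The module of a complex on an affine chart, its behaviour under flat inverse image, and the chart
test in terms of it.
-/

set_option autoImplicit false
set_option linter.style.haveILetI false

universe u

open CategoryTheory Limits AlgebraicGeometry TopologicalSpace Opposite

namespace Groth.Agent.H56.RelPC

open Groth.Agent.Lib Groth.Agent.Lib.Perfect.Basic Groth.Agent.Lib.Perfect.PseudoCoh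
open Groth.Agent.Lib.DR.Basic Groth.Agent.Lib.DR.FiniteComplex Groth.Agent.Lib.DR.PseudoCoherent

attribute [local instance] HasDerivedCategory.standard

variable {X X' S : Scheme.{u}}

/-- The module complex `M` describes `K` on the affine open `U`. -/
def IsChartModule {U : X.Opens} (hU : IsAffineOpen U) [PreservesFiniteLimits (tilde.functor Γ(X, U))]
    (K : DCoh.D X) (M : Dual.D Γ(X, U)) : Prop :=
  ∃ H : CochainComplex X.Modules ℤ, Nonempty (DCoh.toD X H ≅ K) ∧
    Nonempty ((DCoh.tildeD Γ(X, U)).obj M ≅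
      DCoh.toD _ ((DerSch.pushCx hU.isoSpec.hom).obj ((DCoh.restrictCx U).obj H)))

theorem exists_chartModule {U : X.Opens} (hU : IsAffineOpen U)
    [PreservesFiniteLimits (tilde.functor Γ(X, U))] {K : DCoh.D X} (hK : DCoh.IsQCohD K) :
    ∃ M, IsChartModule hU K M := by
  let H := DerivedCategory.Q.objPreimage K
  let e : DCoh.toD X H ≅ K := DerivedCategory.Q.objObjPreimageIso K
  obtain ⟨M, ⟨i⟩⟩ := ((Groth.Agent.S0997.result Γ(X, U)).2.2 _).1 (isQCohD_push_restrict hU hK H e)
  exact ⟨M, H, ⟨e⟩, ⟨i⟩⟩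

theorem ringTest_congr {U : X.Opens} {m : ℤ} {K L : DCoh.D X} (e : K ≅ L) {P : Type u} [CommRing P]
    {φ : P →+* Γ(X, U)} (h : RingTest m K U φ) : RingTest m L U φ := by
  obtain ⟨_, h⟩ := h
  exact ⟨‹_›, fun x => (h x).of_iso ((GD (imm U φ) U.ι).mapIso e)⟩

/-- The chart test in terms of the module. -/
theorem IsChartModule.ringTest_iff {U : X.Opens} {hU : IsAffineOpen U}
    [PreservesFiniteLimits (tilde.functor Γ(X, U))] {K : DCoh.D X} {M : Dual.D Γ(X, U)}
    (hM : IsChartModule hU K M) {P : Type u} [CommRing P] {φ : P →+* Γ(X, U)}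
    (hφ : Function.Surjective φ) (m : ℤ) :
    RingTest m K U φ ↔ PCn (ff P) m ((DRing.restrictD φ).obj M) := by
  obtain ⟨H, ⟨e⟩, ⟨i⟩⟩ := hM
  rw [← ringTest_iff_pcn hU hφ m H M i]
  exact ⟨ringTest_congr e.symm, ringTest_congr e⟩

/-- The test on a pair of affine opens against relative pseudo-coherence of the module. -/
theorem IsChartModule.hasTest_iff {f : X ⟶ S} [LocallyOfFiniteType f] {U : X.Opens}
    {hU : IsAffineOpen U} [PreservesFiniteLimits (tilde.functor Γ(X, U))] {K : DCoh.D X}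
    {M : Dual.D Γ(X, U)} (hM : IsChartModule hU K M) {V : S.Opens} (hV : IsAffineOpen V)
    (h : U ≤ f ⁻¹ᵁ V) (m : ℤ) :
    HasTest f U V h m K ↔
      (letI := (f.appLE V U h).hom.toAlgebra
       DerCA.IsRelPseudoCoherent Γ(S, V) Γ(X, U) m M) := by
  letI := (f.appLE V U h).hom.toAlgebra
  haveI : Algebra.FiniteType Γ(S, V) Γ(X, U) := LocallyOfFiniteType.finiteType_appLE f hV hU h
  obtain ⟨n, α, hα⟩ := H54.RelPCApp.exists_pres ‹Algebra.FiniteType Γ(S, V) Γ(X, U)›
  have hC : α.toRingHom.comp MvPolynomial.C = (f.appLE V U h).hom := RingHom.ext fun r => α.commutes r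
  rw [H54.RelPC.rel_iff α hα]
  exact ⟨fun hT => (hM.ringTest_iff hα m).1 (hT.ringTest hU hα hC),
    fun h' => ⟨_, inferInstance, α.toRingHom, hα, hC, (hM.ringTest_iff hα m).2 h'⟩⟩

/-- Direct image along an isomorphism is restriction along the inverse. -/
noncomputable def pushIsoRestrict {Y Z : Scheme.{u}} (e : Y ≅ Z) :
    Scheme.Modules.pushforward e.hom ≅ Scheme.Modules.restrictFunctor e.inv :=
  (Functor.rightUnitor _).symm ≪≫
    Functor.isoWhiskerLeft _ (Scheme.Modules.restrictFunctorAdjCounitIso e.inv).symm ≪≫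
    (Functor.associator _ _ _).symm ≪≫
    Functor.isoWhiskerRight
      (Scheme.Modules.pushforwardComp e.hom e.inv ≪≫
        Scheme.Modules.pushforwardCongr e.hom_inv_id ≪≫ Scheme.Modules.pushforwardId _) _ ≪≫
    Functor.leftUnitor _

/-- Restriction to an affine open, seen on the spectrum, is inverse image along `fromSpec`. -/
noncomputable def restrictPushIso {U : X.Opens} (hU : IsAffineOpen U) :
    Scheme.Modules.restrictFunctor U.ι ⋙ Scheme.Modules.pushforward hU.isoSpec.hom ≅
      Scheme.Modules.pullback hU.fromSpec :=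
  Functor.isoWhiskerLeft _ (pushIsoRestrict hU.isoSpec) ≪≫
    (Scheme.Modules.restrictFunctorComp hU.isoSpec.inv U.ι).symm ≪≫
    Scheme.Modules.restrictFunctorCongr hU.isoSpec_inv_ι ≪≫
    Scheme.Modules.restrictFunctorIsoPullback hU.fromSpec

/-- Charts and flat inverse image. -/
noncomputable def chartPullIso {g : X' ⟶ X} {U : X.Opens} {V : X'.Opens} (hU : IsAffineOpen U)
    (hV : IsAffineOpen V) (e : V ≤ g ⁻¹ᵁ U) :
    (Scheme.Modules.restrictFunctor U.ι ⋙ Scheme.Modules.pushforward hU.isoSpec.hom) ⋙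
        Scheme.Modules.pullback (Spec.map (g.appLE U V e)) ≅
      Scheme.Modules.pullback g ⋙
        (Scheme.Modules.restrictFunctor V.ι ⋙ Scheme.Modules.pushforward hV.isoSpec.hom) :=
  Functor.isoWhiskerRight (restrictPushIso hU) _ ≪≫ Scheme.Modules.pullbackComp _ _ ≪≫
    Scheme.Modules.pullbackCongr (IsAffineOpen.SpecMap_appLE_fromSpec g hU hV e) ≪≫
    (Scheme.Modules.pullbackComp _ _).symm ≪≫ Functor.isoWhiskerLeft _ (restrictPushIso hV).symm

set_option backward.isDefEq.respectTransparency.types false in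
/-- The module of the inverse image. -/
theorem IsChartModule.pullback {g : X' ⟶ X} [Flat g] {U : X.Opens} {V : X'.Opens}
    {hU : IsAffineOpen U} [PreservesFiniteLimits (tilde.functor Γ(X, U))] (hV : IsAffineOpen V)
    [PreservesFiniteLimits (tilde.functor Γ(X', V))] (e : V ≤ g ⁻¹ᵁ U)
    [PreservesFiniteLimits (ModuleCat.extendScalars.{u, u, u} (g.appLE U V e).hom)]
    [PreservesFiniteColimits (ModuleCat.extendScalars.{u, u, u} (g.appLE U V e).hom)]
    {K : DCoh.D X} {M : Dual.D Γ(X, U)} (hM : IsChartModule hU K M) :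
    IsChartModule hV ((FPD g).obj K)
      ((ModuleCat.extendScalars.{u, u, u} (g.appLE U V e).hom).mapDerivedCategory.obj M) := by
  obtain ⟨H, ⟨eH⟩, ⟨eM⟩⟩ := hM
  haveI : Flat (Spec.map (g.appLE U V e)) := Flat.SpecMap_iff.2 (g.flat_appLE hU hV e)
  refine ⟨((Scheme.Modules.pullback g).mapHomologicalComplex _).obj H,
    ⟨(DR.ExactPush.mapQ (Scheme.Modules.pullback g) H).symm ≪≫ (FPD g).mapIso eH⟩, ⟨?_⟩⟩
  exact (pullTildeD (g.appLE U V e) M).symm ≪≫ (FPD (Spec.map (g.appLE U V e))).mapIso eM ≪≫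
    DR.ExactPush.mapQ (Scheme.Modules.pullback (Spec.map (g.appLE U V e))) _ ≪≫
    DerivedCategory.Q.mapIso
      ((NatIso.mapHomologicalComplex (chartPullIso hU hV e) (ComplexShape.up ℤ)).app H)

end Groth.Agent.H56.RelPC
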