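import Groth.Agent.H56.RelPC.SourceLocal
import Groth.Agent.H56.RelPC.ChartModule
import Groth.Agent.Lib.QFRefine.Etale

/-!
Relative pseudo-coherence is fppf local on the source.
-/

set_option autoImplicit false
set_option linter.style.haveILetI false

universe u

open CategoryTheory Limits AlgebraicGeometry TopologicalSpace Opposite

namespace Groth.Agent.H56.RelPC

open Groth.Agent.Lib Groth.Agent.Lib.Perfect.Basic Groth.Agent.Lib.Perfect.PseudoCoh

attribute [local instance] HasDerivedCategory.standard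

variable {X Y S : Scheme.{u}}

/-- A covering of an affine open by images is a finite one on spectra. -/
theorem exists_fin_cover {U : X.Opens} (hU : IsAffineOpen U) {J : Type*} (T : J → Scheme.{u})
    (g : ∀ j, T j ⟶ X) (hg : ∀ j, IsOpenMap (g j)) {V : ∀ j, (T j).Opens}
    (hV : ∀ j, IsAffineOpen (V j)) (hVU : ∀ j, V j ≤ g j ⁻¹ᵁ U)
    (hcov : ∀ x : X, x ∈ U → ∃ j, ∃ t ∈ V j, g j t = x) :
    ∃ (r : ℕ) (σ : Fin r → J), ∀ p : PrimeSpectrum Γ(X, U), ∃ (k : Fin r)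
      (q : PrimeSpectrum Γ(T (σ k), V (σ k))),
      PrimeSpectrum.comap ((g (σ k)).appLE U (V (σ k)) (hVU (σ k))).hom q = p := by
  obtain ⟨F, hF⟩ := hU.isCompact.elim_finite_subcover
    (fun j => g j '' (V j : Set (T j))) (fun j => hg j _ (V j).2)
    (fun x hx => by
      obtain ⟨j, t, ht, rfl⟩ := hcov x hx
      exact Set.mem_iUnion.2 ⟨j, t, ht, rfl⟩)
  refine ⟨F.card, fun k => (F.equivFin.symm k).1, fun p => ?_⟩
  have hp : hU.fromSpec p ∈ (U : Set X) := hU.range_fromSpec.le ⟨p, rfl⟩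
  obtain ⟨j, hj, t, ht, hts⟩ := Set.mem_iUnion₂.1 (hF hp)
  obtain ⟨k, rfl⟩ : ∃ k, (F.equivFin.symm k).1 = j := ⟨F.equivFin ⟨j, hj⟩, by simp⟩
  obtain ⟨q, rfl⟩ : t ∈ Set.range (hV (F.equivFin.symm k).1).fromSpec := by
    rw [(hV (F.equivFin.symm k).1).range_fromSpec]; exact ht
  refine ⟨k, q, hU.fromSpec.isOpenEmbedding.injective ?_⟩
  refine Eq.trans ?_ hts
  exact congr($(IsAffineOpen.SpecMap_appLE_fromSpec (g (F.equivFin.symm k).1) hU
    (hV (F.equivFin.symm k).1) (hVU (F.equivFin.symm k).1)) q)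

section

variable {p : X ⟶ S} [LocallyOfFiniteType p] {g : Y ⟶ X} [Flat g] [LocallyOfFinitePresentation g]
  {m : ℤ} {K : DCoh.D X} {U : X.Opens} {hU : IsAffineOpen U}
  [PreservesFiniteLimits (tilde.functor Γ(X, U))] {M : Dual.D Γ(X, U)}
  (hM : IsChartModule hU K M) {W : S.Opens} (hW : IsAffineOpen W) (hUW : U ≤ p ⁻¹ᵁ W)
  {B : Y.Opens} (hB : IsAffineOpen B) (hBU : B ≤ g ⁻¹ᵁ U)

include hM hW hB

/-- The test on the source of a flat morphism. -/
theorem hasTest_pullback_iff :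
    HasTest (g ≫ p) B W (hBU.trans (g.preimage_mono hUW)) m ((FPD g).obj K) ↔
      RelExt (p.appLE W U hUW).hom m M (g.appLE U B hBU).hom := by
  haveI : PreservesFiniteLimits (tilde.functor Γ(Y, B)) := QCoh.Tilde.tildeFunctor_preservesFiniteLimits
  have hflat := g.flat_appLE hU hB hBU
  haveI := preservesLimits_extend hflat
  haveI := preservesColimits_extend hflat
  have hc : (g.appLE U B hBU).hom.comp (p.appLE W U hUW).hom =
      ((g ≫ p).appLE W B (hBU.trans (g.preimage_mono hUW))).hom := by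
    rw [← CommRingCat.hom_comp, Scheme.Hom.appLE_comp_appLE]
  rw [(hM.pullback hB hBU).hasTest_iff hW (hBU.trans (g.preimage_mono hUW)) m, RelExt, hc]
  exact ⟨fun h => ⟨hflat, h⟩, fun ⟨_, h⟩ => h⟩

end

/-- Inverse image along a flat morphism of finite presentation on the source. -/
theorem isPseudoCoherentRel_pullback {p : X ⟶ S} [LocallyOfFiniteType p] (g : Y ⟶ X) [Flat g]
    [LocallyOfFinitePresentation g] {m : ℤ} {K : DCoh.D X} (hKq : DCoh.IsQCohD K)
    (hK : DerSch.IsPseudoCoherentRel p m K) :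
    DerSch.IsPseudoCoherentRel (g ≫ p) m ((FPD g).obj K) := by
  refine isPseudoCoherentRel_of_hasTest fun V W hVW => ?_
  have hft : ((g ≫ p).appLE (W : S.Opens) (V : Y.Opens) hVW).hom.FiniteType :=
    LocallyOfFiniteType.finiteType_appLE (g ≫ p) W.2 V.2 hVW
  algebraize [((g ≫ p).appLE (W : S.Opens) (V : Y.Opens) hVW).hom]
  obtain ⟨n, φ, hφ⟩ := Algebra.FiniteType.iff_quotient_mvPolynomial''.1 ‹_›
  refine hasTest_of_locally V.2 (φ := φ.toRingHom) hφ (RingHom.ext fun r => φ.commutes r) fun z hz => ?_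
  obtain ⟨U, hU, hzU, hUW⟩ := exists_isAffineOpen_mem_and_subset (X := X) (x := g z)
    (U := p ⁻¹ᵁ (W : S.Opens)) (hVW hz)
  obtain ⟨d, hd, hzd⟩ := V.2.exists_basicOpen_le (V := g ⁻¹ᵁ U) ⟨z, hzU⟩ hz
  refine ⟨d, hzd, ?_⟩
  haveI : PreservesFiniteLimits (tilde.functor Γ(X, U)) := QCoh.Tilde.tildeFunctor_preservesFiniteLimits
  obtain ⟨M, hM⟩ := exists_chartModule hU hKq
  refine (hasTest_pullback_iff hM W.2 hUW (V.2.basicOpen d) hd).2 ?_
  have hrel := (hM.hasTest_iff W.2 hUW m).1 (hasTest_of_isPseudoCoherentRel hK hU W.2)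
  letI := (p.appLE (W : S.Opens) U hUW).hom.toAlgebra
  haveI : Algebra.FiniteType Γ(S, (W : S.Opens)) Γ(X, U) :=
    LocallyOfFiniteType.finiteType_appLE p W.2 hU hUW
  exact relExt_of_flat rfl (g.finitePresentation_appLE hU (V.2.basicOpen d) hd)
    (g.flat_appLE hU (V.2.basicOpen d) hd) hrel

/-- Descent along an fppf covering of the source. -/
theorem isPseudoCoherentRel_of_source_cover {p : X ⟶ S} [LocallyOfFiniteType p] {ι : Type u}
    (Xi : ι → Scheme.{u}) (g : ∀ i, Xi i ⟶ X) [∀ i, Flat (g i)]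
    [∀ i, LocallyOfFinitePresentation (g i)] (hcov : ∀ x : X, ∃ (i : ι) (y : Xi i), g i y = x)
    {m : ℤ} {K : DCoh.D X} (hKq : DCoh.IsQCohD K)
    (hi : ∀ i, DerSch.IsPseudoCoherentRel (g i ≫ p) m ((FPD (g i)).obj K)) :
    DerSch.IsPseudoCoherentRel p m K := by
  refine isPseudoCoherentRel_of_hasTest fun U W hUW => ?_
  haveI : PreservesFiniteLimits (tilde.functor Γ(X, (U : X.Opens))) :=
    QCoh.Tilde.tildeFunctor_preservesFiniteLimits
  obtain ⟨M, hM⟩ := exists_chartModule U.2 hKq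
  rw [hM.hasTest_iff W.2 hUW m]
  letI := (p.appLE (W : S.Opens) (U : X.Opens) hUW).hom.toAlgebra
  have hρ : (p.appLE (W : S.Opens) (U : X.Opens) hUW).hom.FiniteType :=
    LocallyOfFiniteType.finiteType_appLE p W.2 U.2 hUW
  haveI : Algebra.FiniteType Γ(S, (W : S.Opens)) Γ(X, (U : X.Opens)) := hρ
  -- etale neighbourhoods over which the covering has a finite flat section
  have loc : ∀ x : ((U : X.Opens) : Set X), ∃ (T : Scheme.{u}) (u : T ⟶ X) (C : T.Opens)
      (_ : AlgebraicGeometry.Etale u) (_ : IsAffineOpen C) (hCU : C ≤ u ⁻¹ᵁ (U : X.Opens)),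
      (∃ t ∈ C, u t = x.1) ∧
      RelExt (p.appLE (W : S.Opens) (U : X.Opens) hUW).hom m M (u.appLE (U : X.Opens) C hCU).hom := by
    rintro ⟨x, hx⟩
    obtain ⟨i, y₀, rfl⟩ := hcov x
    obtain ⟨T, V, u, v, y, r, hu, huy, -, hv, hvf, hvp, hvs, hrw⟩ :=
      QFRefine.Etale.exists_etale_finite (g i) y₀
    obtain ⟨C, hC, hyC, hCU⟩ := exists_isAffineOpen_mem_and_subset (X := T) (x := y)
      (U := u ⁻¹ᵁ (U : X.Opens)) (show u y ∈ (U : X.Opens) from huy ▸ hx)
    refine ⟨T, u, C, hu, hC, hCU, ⟨y, hyC, huy⟩, ?_⟩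
    have hD : IsAffineOpen (v ⁻¹ᵁ C) := hC.preimage v
    have ha : (u.appLE (U : X.Opens) C hCU).hom.Etale := u.etale_appLE U.2 hC hCU
    have ha' : (u.appLE (U : X.Opens) C hCU).hom.FinitePresentation :=
      u.finitePresentation_appLE U.2 hC hCU
    have hc' : (v.appLE C (v ⁻¹ᵁ C) le_rfl).hom.FinitePresentation :=
      v.finitePresentation_appLE hC hD le_rfl
    have hcflat : (v.appLE C (v ⁻¹ᵁ C) le_rfl).hom.Flat := v.flat_appLE hC hD le_rfl
    have hcfin : (v.appLE C (v ⁻¹ᵁ C) le_rfl).hom.Finite := by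
      rw [← Scheme.Hom.app_eq_appLE]
      exact v.finite_app C hC
    have hcsurj : Function.Surjective (PrimeSpectrum.comap (v.appLE C (v ⁻¹ᵁ C) le_rfl).hom) := by
      intro q
      obtain ⟨z, hz⟩ := v.surjective (hC.fromSpec q)
      obtain ⟨q', rfl⟩ : z ∈ Set.range hD.fromSpec := by
        rw [hD.range_fromSpec]
        show v z ∈ (C : Set T)
        rw [hz]
        exact hC.range_fromSpec.le ⟨q, rfl⟩
      refine ⟨q', hC.fromSpec.isOpenEmbedding.injective (Eq.trans ?_ hz)⟩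
      exact congr($(IsAffineOpen.SpecMap_appLE_fromSpec v hC hD le_rfl) q')
    have haflat : (u.appLE (U : X.Opens) C hCU).hom.Flat := u.flat_appLE U.2 hC hCU
    refine relExt_of_finite hρ haflat (RingHom.FiniteType.of_finitePresentation ha') hcfin hc'
      (RingHom.FaithfullyFlat.iff_flat_and_comap_surjective.2 ⟨hcflat, hcsurj⟩) ?_
    -- the finite algebra is covered by basic opens mapping to affine opens of `Xi i`
    have hvU : v ⁻¹ᵁ C ≤ (v ≫ u) ⁻¹ᵁ (U : X.Opens) := v.preimage_mono hCU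
    have hd : (v.appLE C (v ⁻¹ᵁ C) le_rfl).hom.comp (u.appLE (U : X.Opens) C hCU).hom =
        ((v ≫ u).appLE (U : X.Opens) (v ⁻¹ᵁ C) hvU).hom := by
      rw [← CommRingCat.hom_comp, Scheme.Hom.appLE_comp_appLE]
    rw [hd]
    have hpiece : ∀ z : ((v ⁻¹ᵁ C : V.Opens) : Set V), ∃ (e : Γ(V, v ⁻¹ᵁ C)) (B : (Xi i).Opens)
        (_ : IsAffineOpen B) (_ : B ≤ g i ⁻¹ᵁ (U : X.Opens)),
        z.1 ∈ V.basicOpen e ∧ V.basicOpen e ≤ r ⁻¹ᵁ B := by
      rintro ⟨z, hz⟩
      have hzU : g i (r z) ∈ (U : X.Opens) := by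
        rw [← Scheme.Hom.comp_apply, hrw]
        exact hvU hz
      obtain ⟨B, hB, hzB, hBU⟩ := exists_isAffineOpen_mem_and_subset (X := Xi i) (x := r z)
        (U := g i ⁻¹ᵁ (U : X.Opens)) hzU
      obtain ⟨e, he, hze⟩ := hD.exists_basicOpen_le (V := r ⁻¹ᵁ B) ⟨z, hzB⟩ hz
      exact ⟨e, B, hB, hBU, hze, he⟩
    choose e B hB hBU hze heB using hpiece
    have hvu : LocallyOfFinitePresentation (v ≫ u) := inferInstance
    have hvu' : Flat (v ≫ u) := inferInstance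
    obtain ⟨k, σ, hσ⟩ := exists_fin_cover hD (fun _ => V) (fun _ => 𝟙 V)
      (fun _ => Scheme.Hom.isOpenMap (𝟙 V)) (fun z => hD.basicOpen (e z))
      (fun z => V.basicOpen_le (e z)) (fun z hz => ⟨⟨z, hz⟩, z, hze ⟨z, hz⟩, rfl⟩)
    refine relExt_of_etale_cover hρ ((v ≫ u).flat_appLE U.2 hD hvU)
      (RingHom.FiniteType.of_finitePresentation ((v ≫ u).finitePresentation_appLE U.2 hD hvU))
      (fun l => Γ(V, V.basicOpen (e (σ l)))) (fun l =>
        ((𝟙 V : V ⟶ V).appLE (v ⁻¹ᵁ C) (V.basicOpen (e (σ l))) (V.basicOpen_le _)).hom)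
      (fun l => Scheme.Hom.etale_appLE (𝟙 V) hD (hD.basicOpen (e (σ l))) _) hσ fun l => ?_
    have hle : V.basicOpen (e (σ l)) ≤ (v ≫ u) ⁻¹ᵁ (U : X.Opens) :=
      (V.basicOpen_le _).trans hvU
    have key : ∀ (q : V ⟶ X) (_ : q = v ≫ u) (hq : V.basicOpen (e (σ l)) ≤ q ⁻¹ᵁ (U : X.Opens)),
        q.appLE (U : X.Opens) (V.basicOpen (e (σ l))) hq = (v ≫ u).appLE (U : X.Opens) _ hle := by
      rintro _ rfl _
      rfl
    have h1 : ((v ≫ u).appLE (U : X.Opens) (v ⁻¹ᵁ C) hvU ≫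
        (𝟙 V : V ⟶ V).appLE (v ⁻¹ᵁ C) (V.basicOpen (e (σ l))) (V.basicOpen_le _)) =
        (v ≫ u).appLE (U : X.Opens) (V.basicOpen (e (σ l))) hle := by
      rw [Scheme.Hom.appLE_comp_appLE]
      exact key _ (Category.id_comp _) _
    have h2 : ((g i).appLE (U : X.Opens) (B (σ l)) (hBU (σ l)) ≫
        r.appLE (B (σ l)) (V.basicOpen (e (σ l))) (heB (σ l))) =
        (v ≫ u).appLE (U : X.Opens) (V.basicOpen (e (σ l))) hle := by
      rw [Scheme.Hom.appLE_comp_appLE]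
      exact key _ hrw _
    rw [← CommRingCat.hom_comp, h1]
    refine relExt_of_hom (b := ((g i).appLE (U : X.Opens) (B (σ l)) (hBU (σ l))).hom)
      (d := (r.appLE (B (σ l)) (V.basicOpen (e (σ l))) (heB (σ l))).hom)
      (by rw [← CommRingCat.hom_comp, h2]) hρ ((g i).finitePresentation_appLE U.2 (hB (σ l)) (hBU (σ l)))
      ((v ≫ u).finitePresentation_appLE U.2 (hD.basicOpen (e (σ l))) hle)
      ((v ≫ u).flat_appLE U.2 (hD.basicOpen (e (σ l))) hle) ?_
    exact (hasTest_pullback_iff hM W.2 hUW (hB (σ l)) (hBU (σ l))).1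
      (hasTest_of_isPseudoCoherentRel (hi i) (hB (σ l)) W.2)
  choose T u C hu hC hCU hmem hrel using loc
  obtain ⟨k, σ, hσ⟩ := exists_fin_cover U.2 T u (fun x => haveI := hu x; (u x).isOpenMap) hC hCU
    (fun x hx => ⟨⟨x, hx⟩, hmem ⟨x, hx⟩⟩)
  refine (relExt_id_iff rfl).1 ?_
  refine relExt_of_etale_cover hρ (RingHom.Flat.id _) (RingHom.FiniteType.id _)
    (fun l => Γ(T (σ l), C (σ l))) (fun l => ((u (σ l)).appLE (U : X.Opens) (C (σ l)) (hCU (σ l))).hom)
    (fun l => haveI := hu (σ l); (u (σ l)).etale_appLE U.2 (hC (σ l)) (hCU (σ l))) hσ fun l => ?_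
  rw [RingHom.comp_id]
  exact hrel (σ l)

end Groth.Agent.H56.RelPC
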