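import Groth.Agent.H56.RelPC.FlatModule

/-!
Tor amplitude of complexes with flat terms.
-/

set_option autoImplicit false
set_option linter.style.haveILetI false

universe u

open CategoryTheory Limits AlgebraicGeometry

namespace Groth.Agent.H56.RelPC

attribute [local instance] HasDerivedCategory.standard

variable {X Y : Scheme.{u}}

theorem hasTorAmplitude_of_flat_terms (f : X ⟶ Y) (E : CochainComplex X.Modules ℤ) (a b : ℤ)
    (hab : DCoh.VanishesOutside E a b) (hfl : ∀ i : ℤ, FlatMod.IsFlatOver f (E.X i)) :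
    DerSch.HasTorAmplitude f a b E := fun x =>
  ⟨(DerSch.stalkCxOver f x).obj E, fun i hi => (DerSch.stalkOver f x).map_isZero (hab i hi),
    fun i => hfl i x, ⟨Iso.refl _⟩⟩

theorem flat_of_iso {A : Type u} [CommRing A] {M N : ModuleCat.{u} A} (e : M ≅ N)
    (h : Module.Flat A M) : Module.Flat A N :=
  Module.Flat.of_linearEquiv e.toLinearEquiv.symm

theorem flat_of_torAmplitude_single {A : Type u} [CommRing A] (N : ModuleCat.{u} A) (L : DRing.Cx A)
    (e : L ≅ (HomologicalComplex.single (ModuleCat.{u} A) (ComplexShape.up ℤ) 0).obj N)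
    (h : DRing.HasTorAmplitudeIn A 0 0 (DRing.toD L)) : Module.Flat A N := by
  obtain ⟨E, hE, hfl, ⟨i⟩⟩ := h
  have : E.IsStrictlyGE 0 := (E.isStrictlyGE_iff 0).2 fun k hk => hE k (Or.inl hk)
  have : E.IsStrictlyLE 0 := (E.isStrictlyLE_iff 0).2 fun k hk => hE k (Or.inr hk)
  obtain ⟨M', ⟨e'⟩⟩ := CochainComplex.exists_iso_single E 0
  have hM' : Module.Flat A M' := flat_of_iso (HomologicalComplex.Hom.isoApp e' 0 ≪≫
    HomologicalComplex.singleObjXSelf (ComplexShape.up ℤ) 0 M') (hfl 0)
  let Φ := DerivedCategory.singleFunctorCompHomologyFunctorIso (ModuleCat.{u} A) 0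
  let j : (DerivedCategory.singleFunctor (ModuleCat.{u} A) 0).obj M' ≅
      (DerivedCategory.singleFunctor (ModuleCat.{u} A) 0).obj N :=
    (DerivedCategory.singleFunctorIsoCompQ _ 0).app M' ≪≫ DerivedCategory.Q.mapIso e'.symm ≪≫ i ≪≫
      DerivedCategory.Q.mapIso e ≪≫ ((DerivedCategory.singleFunctorIsoCompQ _ 0).app N).symm
  exact flat_of_iso ((Φ.app M').symm ≪≫
    (DerivedCategory.homologyFunctor _ 0).mapIso j ≪≫ Φ.app N) hM'

theorem isFlatOver_of_torAmplitude (f : X ⟶ Y) (M : X.Modules)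
    (h : DerSch.HasTorAmplitude f 0 0
      ((HomologicalComplex.single X.Modules (ComplexShape.up ℤ) 0).obj M)) :
    FlatMod.IsFlatOver f M := fun x =>
  flat_of_torAmplitude_single ((DerSch.stalkOver f x).obj M) _
    ((HomologicalComplex.singleMapHomologicalComplex (DerSch.stalkOver f x) (ComplexShape.up ℤ) 0).app M)
    (h x)

theorem isPseudoCoherentRelAll_of_flat_terms (f : X ⟶ Y) [LocallyOfFiniteType f]
    (E : CochainComplex X.Modules ℤ) (b : ℤ) (hb : ∀ i : ℤ, b < i → IsZero (E.X i))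
    (hfl : ∀ i : ℤ, FlatMod.IsFlatOver f (E.X i))
    (hfp : ∀ i : ℤ, DerSch.IsPseudoCoherentRel f (-1)
      (DCoh.toD X ((HomologicalComplex.single _ (ComplexShape.up ℤ) 0).obj (E.X i)))) :
    DerSch.IsPseudoCoherentRelAll f (DCoh.toD X E) := fun m =>
  isPseudoCoherentRel_of_termwise m E b hb fun i =>
    isPseudoCoherentRel_inD_of_flat (E.X i) (hfl i) (isPseudoCoherentRel_of_iso
      ((DerivedCategory.singleFunctorIsoCompQ X.Modules 0).app (E.X i)).symm (hfp i)) (m - i)

theorem hasPerfAmplitudeRel_zero_iff (f : X ⟶ Y) [LocallyOfFiniteType f] (M : X.Modules) :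
    DerSch.HasPerfAmplitudeRel f 0 0 ((HomologicalComplex.single _ (ComplexShape.up ℤ) 0).obj M) ↔
      (FlatMod.IsFlatOver f M ∧ DerSch.IsPseudoCoherentRel f (-1)
        (DCoh.toD X ((HomologicalComplex.single _ (ComplexShape.up ℤ) 0).obj M))) := by
  refine ⟨fun h => ⟨isFlatOver_of_torAmplitude f M h.2, h.1 (-1)⟩, fun ⟨hfl, hfp⟩ => ⟨fun m => ?_, ?_⟩⟩
  · have e := (DerivedCategory.singleFunctorIsoCompQ X.Modules 0).app M
    exact isPseudoCoherentRel_of_iso e (isPseudoCoherentRel_inD_of_flat M hfl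
      (isPseudoCoherentRel_of_iso e.symm hfp) m)
  · intro x
    refine ⟨(DerSch.stalkCxOver f x).obj _, fun i hi => (DerSch.stalkOver f x).map_isZero
      (HomologicalComplex.isZero_single_obj_X _ _ _ _ (by omega)), fun i => ?_, ⟨Iso.refl _⟩⟩
    by_cases hi : i = 0
    · subst hi
      exact flat_of_iso ((DerSch.stalkOver f x).mapIso
        (HomologicalComplex.singleObjXSelf (ComplexShape.up ℤ) 0 M).symm) (hfl x)
    · haveI : Subsingleton ((((DerSch.stalkCxOver f x).obj
          ((HomologicalComplex.single _ (ComplexShape.up ℤ) 0).obj M)).X i : ModuleCat.{u} _)) :=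
        ModuleCat.subsingleton_of_isZero ((DerSch.stalkOver f x).map_isZero
          (HomologicalComplex.isZero_single_obj_X _ _ _ _ hi))
      infer_instance

end Groth.Agent.H56.RelPC
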