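import Groth.Agent.H56.RelPC.FibTor
import Groth.Agent.H56.RelPC.FlatAmp
import Groth.Agent.Lib.BettiExact.TorRestrict
import Groth.Agent.Lib.Perfect.FlatPerfect

/-!
Relative tor dimension by flat representatives and by stalks.
-/

set_option autoImplicit false
set_option linter.style.haveILetI false

universe u

open CategoryTheory Limits AlgebraicGeometry HomologicalComplex

attribute [local instance] HasDerivedCategory.standard

namespace Groth.Agent.H56.RelPC.RelTor

open Groth.Agent.Lib Groth.Agent.Lib.DerivedOX Groth.Agent.Lib.Modules.StalkModule KFlatBaseChange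
open Groth.Agent.Lib.BettiExact TorTensor TorPull
open Groth.Agent.Lib.DR Groth.Agent.Lib.DR.Basic Groth.Agent.Lib.DR.FiniteComplex
  Groth.Agent.Lib.DR.PseudoCoherent
open Groth.Agent.Lib.Perfect.Basic Groth.Agent.Lib.Perfect.PseudoCoh

variable {X S : Scheme.{u}}

/-- The stalks over the base as a composite. -/
noncomputable def overIso (f : X ⟶ S) (x : X) :
    stalkModFunctor X x ⋙ resF (f.stalkMap x).hom ≅ DerSch.stalkOver f x :=
  Functor.isoWhiskerRight (StalkCx.derStalkIso x).symm (ModuleCat.restrictScalars (f.stalkMap x).hom)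

/-- Stalkwise flatness over the base. -/
theorem isFlatOverAt_iff_res (f : X ⟶ S) (M : X.Modules) (x : X) :
    FlatMod.IsFlatOverAt f M x ↔
      Module.Flat (S.presheaf.stalk (f x)) ((resF (f.stalkMap x).hom).obj ((stalkModFunctor X x).obj M)) :=
  ⟨fun h => flat_of_iso ((overIso f x).app M).symm h, fun h => flat_of_iso ((overIso f x).app M) h⟩

/-- A flat module is flat over the base of a flat morphism. -/
theorem isFlatOver_of_isFlat (f : X ⟶ S) [Flat f] {M : X.Modules} (hM : FlatMod.IsFlat M) :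
    FlatMod.IsFlatOver f M := fun x => by
  let R := S.presheaf.stalk (f.base x)
  let B := X.presheaf.stalk x
  let P := M.presheaf.stalk x
  letI : Algebra R B := (f.stalkMap x).hom.toAlgebra
  haveI : Module.Flat R B := Flat.stalkMap f x
  letI : Module R P := FlatMod.moduleStalkOver f M x
  haveI : IsScalarTower R B P := IsScalarTower.of_algebraMap_smul fun _ _ => rfl
  haveI : Module.Flat B P := hM x
  exact Module.Flat.trans R B P

/-- A bounded above complex of relatively flat modules with bounded tor amplitude can be truncated. -/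
theorem hasRelFlatAmplitudeIn_of_torAmp (g : X ⟶ S) (G : CochainComplex X.Modules ℤ) {a b c : ℤ}
    (hfl : ∀ i, FlatMod.IsFlatOver g (G.X i)) (hc : ∀ i, c < i → IsZero (G.X i))
    (h : DerSch.HasTorAmplitude g a b G) :
    DCoh.HasRelFlatAmplitudeIn g a c (DCoh.toD X G) := by
  have hC : ∀ z, Bdd (flat (S.presheaf.stalk (g z))) a b
      (DerivedCategory.Q.obj ((resC (g.stalkMap z).hom).obj ((stC z).obj G))) :=
    fun z => (torAmpAt_iff g z G a b).1 (h z)
  have hCX : ∀ z i, flat (S.presheaf.stalk (g z))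
      (((resC (g.stalkMap z).hom).obj ((stC z).obj G)).X i) :=
    fun z i => (isFlatOverAt_iff_res g _ z).1 (hfl i z)
  have hC0 : ∀ z i, c < i → IsZero (((resC (g.stalkMap z).hom).obj ((stC z).obj G)).X i) :=
    fun z i hi => (resF _).map_isZero ((stalkModFunctor X z).map_isZero (hc i hi))
  haveI : G.IsGE a := (CochainComplex.isGE_iff G a).2 fun i hi => by
    refine (Amplitude.exactAt_iff_stalk G i).2 fun z => (exactAt_resC_iff (g.stalkMap z).hom _ i).1 ?_
    exact exactAt_of_bdd (hC z) i (Or.inl hi)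
  haveI : QuasiIso (G.πTruncGE a) := (G.quasiIso_πTruncGE_iff a).2 inferInstance
  refine ⟨G.truncGE a, fun i hi => ?_, fun i z => ?_,
    ⟨(asIso (DerivedCategory.Q.map (G.πTruncGE a))).symm⟩⟩
  · rcases hi with hi | hi
    · exact (G.truncGE a).isZero_of_isStrictlyGE a i hi
    · rcases lt_trichotomy i a with h | h | h
      · exact (G.truncGE a).isZero_of_isStrictlyGE a i h
      · subst h
        exact IsZero.of_iso (IsZero.of_epi (G.pOpcycles i) (hc i hi)) (G.truncGEXIsoOpcycles i)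
      · exact (hc i hi).of_iso (G.truncGEXIso a i h)
  · refine (isFlatOverAt_iff_res g _ z).2 ?_
    let F := stalkModFunctor X z ⋙ resF (g.stalkMap z).hom
    haveI : PreservesFiniteColimits (stalkModFunctor X z) :=
      PreservesColimitsOfSize.preservesFiniteColimits _
    haveI : PreservesFiniteLimits F := comp_preservesFiniteLimits _ _
    haveI : PreservesFiniteColimits F := comp_preservesFiniteColimits _ _
    rcases lt_trichotomy i a with h | h | h
    · exact BaseChange.good_flat.zero (F.map_isZero ((G.truncGE a).isZero_of_isStrictlyGE a i h))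
    · subst h
      let P := (resC (g.stalkMap z).hom).obj ((stC z).obj G)
      let op : P.opcycles i ≅ F.obj (G.opcycles i) := (G.sc i).mapOpcyclesIso F
      exact flat_of_iso (TorAmp.opcyclesIso P i ≪≫ op ≪≫ F.mapIso (G.truncGEXIsoOpcycles i).symm)
        (TorAmp.flat_coker P (hC0 z) (hCX z) (hC z) (a := i))
    · exact flat_of_iso (F.mapIso (G.truncGEXIso a i h).symm) (hCX z i)

set_option backward.isDefEq.respectTransparency false in
/-- Tor amplitude at a point through an open subscheme. -/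
theorem torAmpAt_of_restrict (f : X ⟶ S) (V : X.Opens) (F : CochainComplex X.Modules ℤ) {a b : ℤ}
    (x : V) (hF : DerSch.HasTorAmplitudeAt (V.ι ≫ f) a b ((DCoh.restrictCx V).obj F) x) :
    DerSch.HasTorAmplitudeAt f a b F (V.ι x) := by
  let e := TorRestrict.stalkOverRestrictIso f (V.ι ≫ f) V.ι x
    (RingHom.id (S.presheaf.stalk ((V.ι ≫ f) x))) (by
      refine Eq.trans ?_ (RingHom.comp_id _).symm
      exact congrArg (fun t => CommRingCat.Hom.hom t) (Scheme.Hom.stalkMap_comp V.ι f x))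
  let e' : Scheme.Modules.restrictFunctor V.ι ⋙ DerSch.stalkOver (V.ι ≫ f) x ≅
      DerSch.stalkOver f (V.ι x) :=
    e ≪≫ Functor.isoWhiskerLeft (DerSch.stalkOver f (V.ι x)) (ModuleCat.restrictScalarsId _) ≪≫
      Functor.rightUnitor _
  haveI : (DerSch.stalkFunctor X (V.ι x)).Additive := DerSch.additive_stalkFunctor _
  haveI : (DerSch.stalkOver f (V.ι x)).Additive :=
    inferInstanceAs (DerSch.stalkFunctor X (V.ι x) ⋙ ModuleCat.restrictScalars (f.stalkMap (V.ι x)).hom).Additive
  exact Bdd.of_iso (show Bdd (flat _) a b _ from hF) (DerivedCategory.Q.mapIso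
    ((NatIso.mapHomologicalComplex e' (ComplexShape.up ℤ)).app F))

/-- Relative tor dimension gives stalkwise tor amplitude. -/
theorem locFiniteTorAmplitudeD_of_relTorDim (f : X ⟶ S) {K : DCoh.D X}
    (hK : DCoh.LocHasFiniteRelTorDim f K) : DerSch.LocFiniteTorAmplitudeD f K := fun F hF x => by
  obtain ⟨V, a, b, hx, hV⟩ := hK x
  obtain ⟨E, hE, hfl, ⟨e⟩⟩ := hV F hF
  exact ⟨V, a, b, hx, fun x' hx' => torAmpAt_of_restrict f V F ⟨x', hx'⟩
    (torAmpAt_of_iso _ _ e (hasTorAmplitude_of_flat_terms _ E a b hE hfl _))⟩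

/-- The local statement of relative tor dimension from one representative. -/
theorem relTorDim_of_rep (f : X ⟶ S) {K : DCoh.D X} (F₀ : CochainComplex X.Modules ℤ)
    (e₀ : DCoh.toD X F₀ ≅ K)
    (h : ∀ x : X, ∃ (V : X.Opens) (a b : ℤ), x ∈ V ∧ DCoh.HasRelFlatAmplitudeIn (V.ι ≫ f) a b
      (DerivedCategory.Q.obj ((DCoh.restrictCx V).obj F₀))) :
    DCoh.LocHasFiniteRelTorDim f K := fun x => by
  obtain ⟨V, a, b, hx, E, hE, hfl, ⟨e⟩⟩ := h x
  exact ⟨V, a, b, hx, fun F' ⟨e'⟩ => ⟨E, hE, hfl,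
    ⟨e ≪≫ (RDQ V.ι F₀).symm ≪≫ (RD V.ι).mapIso (e₀ ≪≫ e'.symm) ≪≫ RDQ V.ι F'⟩⟩⟩

/-- A bounded above representative with flat stalks on an affine open. -/
theorem exists_flat_model {F : CochainComplex X.Modules ℤ}
    (hF : ∀ (m : ℤ) (x : X), PCAt m (DerivedCategory.Q.obj F) x) {V : X.Opens} (hV : IsAffineOpen V) :
    ∃ (c : ℤ) (G : CochainComplex (V : Scheme.{u}).Modules ℤ), (∀ i, c < i → IsZero (G.X i)) ∧
      (∀ i, FlatMod.IsFlat (G.X i)) ∧
      Nonempty (DerivedCategory.Q.obj ((rC V.ι).obj F) ≅ DerivedCategory.Q.obj G) := by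
  obtain ⟨c, E, hff, hc, ⟨eU⟩⟩ := FibTor.exists_free_model hF hV
  let j := hV.isoSpec.hom
  refine ⟨c, (rC j).obj (((tilde.functor Γ(X, V)).mapHomologicalComplex (ComplexShape.up ℤ)).obj E),
    fun i hi => (Scheme.Modules.restrictFunctor j).map_isZero ((tilde.functor _).map_isZero (hc i hi)),
    fun i => Perfect.FlatPerfect.isFlat_restrict j fun z => ?_,
    ⟨DerivedCategory.Q.mapIso ((rCCongr (j' := j ≫ hV.fromSpec) hV.isoSpec_hom_fromSpec.symm ≪≫
        rCComp j hV.fromSpec).app F) ≪≫ (RDQ j _).symm ≪≫ (RD j).mapIso eU ≪≫ RDQ j _⟩⟩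
  exact flat_of_iso ((TildeStalk.tildeStalkIso Γ(X, V) z).app (E.X i))
    (BaseChange.ext_flat _ _ (BaseChange.flat_of_free _ (hff i).2))

/-- Stalkwise tor amplitude of a pseudo-coherent object gives relative tor dimension. -/
theorem relTorDim_of_locFiniteTorAmplitude (f : X ⟶ S) [Flat f] {K : DCoh.D X}
    (hpc : ∀ m : ℤ, DCoh.IsPseudoCoherentD m K) (F : CochainComplex X.Modules ℤ) (e : DCoh.toD X F ≅ K)
    (hF : DerSch.LocFiniteTorAmplitude f F) : DCoh.LocHasFiniteRelTorDim f K := by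
  have hFpc : ∀ (m : ℤ) (x : X), PCAt m (DerivedCategory.Q.obj F) x := fun m x =>
    ((iff_forall m K).1 (hpc m) x).of_iso e.symm
  refine relTorDim_of_rep f F e fun x => ?_
  obtain ⟨V₀, a, b, hxV₀, hV₀⟩ := hF x
  obtain ⟨V, hV, hxV, hle⟩ := exists_isAffineOpen_mem_and_subset hxV₀
  obtain ⟨c, G, hc, hfl, ⟨eG⟩⟩ := exists_flat_model hFpc hV
  obtain ⟨E, hE, hEf, ⟨eE⟩⟩ := hasRelFlatAmplitudeIn_of_torAmp (V.ι ≫ f) G
    (fun i => isFlatOver_of_isFlat _ (hfl i)) hc (a := a) (b := b) fun z =>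
      torAmpAt_of_iso _ z eG (TorRestrict.torAmpAt_restrict f (V.ι ≫ f) V.ι (𝟙 S)
        (Category.comp_id _).symm F z (hV₀ _ (hle z.2)))
  exact ⟨V, a, c, hxV, E, hE, hEf, ⟨eE ≪≫ eG.symm⟩⟩

/-- Relative tor dimension of a pseudo-coherent object is stalkwise. -/
theorem relTorDim_iff (f : X ⟶ S) [Flat f] {K : DCoh.D X}
    (hpc : ∀ m : ℤ, DCoh.IsPseudoCoherentD m K) :
    DCoh.LocHasFiniteRelTorDim f K ↔ DerSch.LocFiniteTorAmplitudeD f K := by
  refine ⟨locFiniteTorAmplitudeD_of_relTorDim f, fun h => ?_⟩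
  let F := DerivedCategory.Q.objPreimage K
  exact relTorDim_of_locFiniteTorAmplitude f hpc F (DerivedCategory.Q.objObjPreimageIso K)
    (h F ⟨DerivedCategory.Q.objObjPreimageIso K⟩)

end Groth.Agent.H56.RelPC.RelTor
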