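import Groth.Agent.H56.RelPC.SourceRing

/-!
Relative pseudo-coherence after flat extensions given by ring maps.
-/

set_option autoImplicit false
set_option linter.style.haveILetI false

universe u

open CategoryTheory CategoryTheory.Limits
open Groth.Agent.Lib.DR
open Groth.Agent.Lib.DR.Basic Groth.Agent.Lib.DR.FiniteComplex Groth.Agent.Lib.DR.PseudoCoherent
open Groth.Agent.H54.PCRestrict

attribute [local instance] HasDerivedCategory.standard

namespace Groth.Agent.H56.RelPC

variable {R A : Type u} [CommRing R] [CommRing A]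

theorem preservesLimits_extend {D : Type u} [CommRing D] {a : A →+* D} (h : a.Flat) :
    PreservesFiniteLimits (ModuleCat.extendScalars.{u, u, u} a) :=
  letI := a.toAlgebra
  haveI : Module.Flat A D := h
  FlatBC.preservesFiniteLimits (A := A) (B := D)

theorem preservesColimits_extend {D : Type u} [CommRing D] {a : A →+* D} (h : a.Flat) :
    PreservesFiniteColimits (ModuleCat.extendScalars.{u, u, u} a) :=
  letI := a.toAlgebra
  haveI : Module.Flat A D := h
  FlatBC.preservesFiniteColimits (A := A) (B := D)

/-- The extension along `a` is pseudo-coherent relative to the base. -/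
def RelExt (ρ : R →+* A) (m : ℤ) (K : Dual.D A) {D : Type u} [CommRing D] (a : A →+* D) : Prop :=
  ∃ h : a.Flat,
    letI := (a.comp ρ).toAlgebra
    haveI := preservesLimits_extend h
    haveI := preservesColimits_extend h
    DerCA.IsRelPseudoCoherent R D m
      ((ModuleCat.extendScalars.{u, u, u} a).mapDerivedCategory.obj K)

variable {ρ : R →+* A} {m : ℤ} {K : Dual.D A}

/-- The extension along the identity. -/
theorem relExt_id_iff [Algebra R A] [Algebra.FiniteType R A] (hρ : algebraMap R A = ρ) :
    RelExt ρ m K (RingHom.id A) ↔ DerCA.IsRelPseudoCoherent R A m K := by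
  obtain ⟨n, α, hα⟩ := H54.RelPCApp.exists_pres ‹Algebra.FiniteType R A›
  have hflat : (RingHom.id A).Flat := RingHom.Flat.id A
  haveI := preservesLimits_extend hflat
  haveI := preservesColimits_extend hflat
  have halg : ((RingHom.id A).comp ρ).toAlgebra = ‹Algebra R A› :=
    Algebra.algebra_ext _ _ fun r => (RingHom.congr_fun hρ r).symm
  haveI : PreservesFiniteLimits (ModuleCat.extendScalars.{u, u, u} (algebraMap A A)) :=
    preservesLimits_extend hflat
  haveI : PreservesFiniteColimits (ModuleCat.extendScalars.{u, u, u} (algebraMap A A)) :=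
    preservesColimits_extend hflat
  obtain ⟨e⟩ := nonempty_extend_self K
  constructor
  · rintro ⟨h, hK⟩
    rw [halg] at hK
    exact (H54.RelPC.rel_iff α hα m K).2 (((H54.RelPC.rel_iff α hα m _).1 hK).of_iso
      ((DRing.restrictD α.toRingHom).mapIso e))
  · intro hK
    refine ⟨hflat, ?_⟩
    rw [halg]
    exact (H54.RelPC.rel_iff α hα m _).2 (((H54.RelPC.rel_iff α hα m _).1 hK).of_iso
      ((DRing.restrictD α.toRingHom).mapIso e.symm))

theorem rel_congr {D : Type u} [CommRing D] [Algebra R D] [Algebra.FiniteType R D] {Y Y' : Dual.D D}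
    (e : Y ≅ Y') {m : ℤ} (h : DerCA.IsRelPseudoCoherent R D m Y) :
    DerCA.IsRelPseudoCoherent R D m Y' := by
  obtain ⟨n, α, hα⟩ := H54.RelPCApp.exists_pres ‹Algebra.FiniteType R D›
  exact (H54.RelPC.rel_iff α hα m _).2
    (((H54.RelPC.rel_iff α hα m _).1 h).of_iso ((DRing.restrictD α.toRingHom).mapIso e))

/-- Extension in two steps. -/
theorem nonempty_extend_comp {C D : Type u} [CommRing C] [CommRing D] {a : A →+* C} {c : C →+* D}
    [PreservesFiniteLimits (ModuleCat.extendScalars.{u, u, u} a)]
    [PreservesFiniteColimits (ModuleCat.extendScalars.{u, u, u} a)]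
    [PreservesFiniteLimits (ModuleCat.extendScalars.{u, u, u} c)]
    [PreservesFiniteColimits (ModuleCat.extendScalars.{u, u, u} c)]
    [PreservesFiniteLimits (ModuleCat.extendScalars.{u, u, u} (c.comp a))]
    [PreservesFiniteColimits (ModuleCat.extendScalars.{u, u, u} (c.comp a))] (X : Dual.D A) :
    Nonempty ((ModuleCat.extendScalars.{u, u, u} (c.comp a)).mapDerivedCategory.obj X ≅
      (ModuleCat.extendScalars.{u, u, u} c).mapDerivedCategory.obj
        ((ModuleCat.extendScalars.{u, u, u} a).mapDerivedCategory.obj X)) := by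
  let E := ModuleCat.extendScalars.{u, u, u} a
  let F := ModuleCat.extendScalars.{u, u, u} c
  let G := ModuleCat.extendScalars.{u, u, u} (c.comp a)
  let ν : G ≅ E ⋙ F := ModuleCat.extendScalarsComp a c
  let i := DerivedCategory.Q.objObjPreimageIso X
  let Z := DerivedCategory.Q.objPreimage X
  exact ⟨G.mapDerivedCategory.mapIso i.symm ≪≫ ExactPush.mapQ G Z ≪≫
    DerivedCategory.Q.mapIso ((NatIso.mapHomologicalComplex ν _).app Z) ≪≫
    (ExactPush.mapQ F ((E.mapHomologicalComplex (ComplexShape.up ℤ)).obj Z)).symm ≪≫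
    F.mapDerivedCategory.mapIso ((ExactPush.mapQ E Z).symm ≪≫ E.mapDerivedCategory.mapIso i)⟩

/-- From a flat algebra of finite presentation to another one receiving it. -/
theorem relExt_of_hom {B D : Type u} [CommRing B] [CommRing D] {b : A →+* B} {a : A →+* D}
    {d : B →+* D} (hd : d.comp b = a) (hρ : ρ.FiniteType) (hb : b.FinitePresentation)
    (ha : a.FinitePresentation) (ha' : a.Flat) (h : RelExt ρ m K b) : RelExt ρ m K a := by
  subst hd
  obtain ⟨hb', h⟩ := h
  refine ⟨ha', ?_⟩
  letI := b.toAlgebra
  letI := d.toAlgebra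
  letI := (d.comp b).toAlgebra
  letI := (b.comp ρ).toAlgebra
  letI := ((d.comp b).comp ρ).toAlgebra
  haveI : IsScalarTower A B D := .of_algebraMap_eq' rfl
  haveI : IsScalarTower R B D := .of_algebraMap_eq' rfl
  haveI : Module.Flat A B := hb'
  haveI : Module.Flat A D := ha'
  haveI : Algebra.FinitePresentation A B := hb
  haveI : Algebra.FinitePresentation A D := ha
  haveI : Algebra.FiniteType R B := (RingHom.FiniteType.comp (RingHom.FiniteType.of_finitePresentation hb) hρ : (b.comp ρ).FiniteType)
  exact rel_extend_tower (hom_cancel (H54.FlatFP.hom_of_flat A B) (H54.FlatFP.hom_of_flat A D)) m K h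

/-- An etale covering of an algebra. -/
theorem relExt_of_etale_cover {D : Type u} [CommRing D] {a : A →+* D} (hρ : ρ.FiniteType)
    (ha : a.Flat) (ha' : a.FiniteType) {ι : Type} [Finite ι] (D' : ι → Type u) [∀ k, CommRing (D' k)]
    (e : ∀ k, D →+* D' k) (he : ∀ k, (e k).Etale)
    (hcov : ∀ p : PrimeSpectrum D, ∃ (k : ι) (q : PrimeSpectrum (D' k)), PrimeSpectrum.comap (e k) q = p)
    (h : ∀ k, RelExt ρ m K ((e k).comp a)) : RelExt ρ m K a := by
  refine ⟨ha, ?_⟩
  letI := (a.comp ρ).toAlgebra
  letI := fun k => (e k).toAlgebra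
  letI := fun k => (((e k).comp a).comp ρ).toAlgebra
  haveI : ∀ k, IsScalarTower R D (D' k) := fun k => .of_algebraMap_eq' rfl
  haveI : ∀ k, Algebra.Etale D (D' k) := fun k => he k
  haveI : ∀ k, Module.Flat D (D' k) := fun k => inferInstance
  haveI : Algebra.FiniteType R D := (RingHom.FiniteType.comp ha' hρ : (a.comp ρ).FiniteType)
  haveI := preservesLimits_extend ha
  haveI := preservesColimits_extend ha
  refine rel_of_etale_cover D' hcov fun k => ?_
  obtain ⟨hk, hK⟩ := h k
  haveI := preservesLimits_extend hk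
  haveI := preservesColimits_extend hk
  haveI : PreservesFiniteLimits (ModuleCat.extendScalars.{u, u, u} (e k)) :=
    FlatBC.preservesFiniteLimits (A := D) (B := D' k)
  haveI : PreservesFiniteColimits (ModuleCat.extendScalars.{u, u, u} (e k)) :=
    FlatBC.preservesFiniteColimits (A := D) (B := D' k)
  haveI : Algebra.FiniteType R (D' k) :=
    Algebra.FiniteType.trans ‹Algebra.FiniteType R D› inferInstance
  obtain ⟨i⟩ := nonempty_extend_comp (a := a) (c := e k) K
  exact rel_congr i hK

/-- A finite faithfully flat extension of an algebra. -/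
theorem relExt_of_finite {C D : Type u} [CommRing C] [CommRing D] {a : A →+* C} {c : C →+* D}
    (hρ : ρ.FiniteType) (ha : a.Flat) (ha' : a.FiniteType) (hfin : c.Finite)
    (hfp : c.FinitePresentation) (hff : c.FaithfullyFlat) (h : RelExt ρ m K (c.comp a)) :
    RelExt ρ m K a := by
  obtain ⟨hca, h⟩ := h
  refine ⟨ha, ?_⟩
  letI := a.toAlgebra
  letI := c.toAlgebra
  letI := (c.comp a).toAlgebra
  letI := (a.comp ρ).toAlgebra
  letI := ((c.comp a).comp ρ).toAlgebra
  haveI : IsScalarTower A C D := .of_algebraMap_eq' rfl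
  haveI : IsScalarTower R C D := .of_algebraMap_eq' rfl
  haveI : Algebra.FiniteType R C := (RingHom.FiniteType.comp ha' hρ : (a.comp ρ).FiniteType)
  haveI : Module.Flat A C := ha
  haveI : Module.Flat A D := hca
  haveI : Module.Finite C D := hfin
  haveI : Algebra.FinitePresentation C D := hfp
  haveI : Module.FaithfullyFlat C D := hff
  haveI : Algebra.FiniteType R D := Algebra.FiniteType.trans ‹Algebra.FiniteType R C› inferInstance
  letI : Algebra R A := ρ.toAlgebra
  exact rel_of_finite h

/-- Extension along a flat map of finite presentation. -/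
theorem relExt_of_flat [Algebra R A] [Algebra.FiniteType R A] {D : Type u} [CommRing D]
    {a : A →+* D} (hρ : algebraMap R A = ρ) (ha : a.FinitePresentation) (ha' : a.Flat)
    (h : DerCA.IsRelPseudoCoherent R A m K) : RelExt ρ m K a :=
  relExt_of_hom (RingHom.comp_id a)
    (hρ ▸ RingHom.finiteType_algebraMap.2 ‹Algebra.FiniteType R A›)
    (RingHom.FinitePresentation.id A) ha ha' ((relExt_id_iff hρ).2 h)

end Groth.Agent.H56.RelPC
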