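import Groth.Agent.H56.RelPC.ChartModule
import Groth.Agent.H56.RelPC.Closed
import Groth.Agent.H56.RelPC.SourceLocal

/-!
Descent of pseudo-coherence along flat quasi-compact coverings.
-/

set_option autoImplicit false
set_option linter.style.haveILetI false

universe u

open CategoryTheory Limits AlgebraicGeometry TopologicalSpace Opposite

namespace Groth.Agent.H56.RelPC

open Groth.Agent.Lib Groth.Agent.Lib.Perfect.Basic Groth.Agent.Lib.Perfect.PseudoCoh
open Groth.Agent.Lib.DR.Basic Groth.Agent.Lib.DR.FiniteComplex Groth.Agent.Lib.DR.PseudoCoherent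
open Groth.Agent.H54.PCRestrict

attribute [local instance] HasDerivedCategory.standard

variable {X X' : Scheme.{u}}

/-- Absolute pseudo-coherence on an affine open in terms of the chart module. -/
theorem IsChartModule.pcAt_iff {U : X.Opens} {hU : IsAffineOpen U}
    [PreservesFiniteLimits (tilde.functor Γ(X, U))] {K : DCoh.D X} {M : Dual.D Γ(X, U)}
    (hM : IsChartModule hU K M) (m : ℤ) :
    (∀ x ∈ U, PCAt m K x) ↔ PCn (ff Γ(X, U)) m M := by
  have hb : Function.Bijective (RingHom.id Γ(X, U)) := Function.bijective_id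
  haveI : IsIso U.toSpecΓ := by rw [← hU.isoSpec_hom]; infer_instance
  haveI := isClosedImmersion_imm hU (φ := RingHom.id Γ(X, U)) hb.surjective
  haveI : IsIso (imm U (RingHom.id Γ(X, U))) := by
    have : imm U (RingHom.id Γ(X, U)) = U.toSpecΓ := by
      rw [imm, CommRingCat.ofHom_id]
      exact (congrArg (U.toSpecΓ ≫ ·) (Spec.map_id _)).trans (Category.comp_id _)
    rw [this]
    infer_instance
  rw [← pcAt_restrict_iff U, ← pcTest_iff_restrict (pcStr_of_isIso (imm U (RingHom.id _))) U.ι m K]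
  exact ⟨fun h => pcn_of_res (pcRing_of_bijective _ hb) ((hM.ringTest_iff hb.surjective m).1 ⟨‹_›, h⟩),
    fun h => ((hM.ringTest_iff hb.surjective m).2 (pcn_res (pcRing_of_bijective _ hb) h)).2⟩

/-- Pseudo-coherence descends along flat quasi-compact surjections. -/
theorem pcAt_of_flat_cover (f : X' ⟶ X) [Flat f] [Surjective f] [QuasiCompact f] {K : DCoh.D X}
    (hK : DCoh.IsQCohD K) {m : ℤ} (h : ∀ y, PCAt m ((FPD f).obj K) y) (x : X) : PCAt m K x := by
  obtain ⟨U, hU, hxU, -⟩ := exists_isAffineOpen_mem_and_subset (X := X) (x := x) (U := ⊤) trivial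
  haveI : PreservesFiniteLimits (tilde.functor Γ(X, U)) := QCoh.Tilde.tildeFunctor_preservesFiniteLimits
  obtain ⟨M, hM⟩ := exists_chartModule hU hK
  refine (hM.pcAt_iff m).2 ?_ x hxU
  have hpre : IsCompact ((f ⁻¹ᵁ U : X'.Opens) : Set X') :=
    QuasiCompact.isCompact_preimage _ U.2 hU.isCompact
  obtain ⟨F, hF⟩ := hpre.elim_finite_subcover
    (fun V : {V : X'.affineOpens // (V : X'.Opens) ≤ f ⁻¹ᵁ U} => ((V.1 : X'.Opens) : Set X'))
    (fun V => (V.1 : X'.Opens).2) (fun y hy => by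
      obtain ⟨W, hW, hyW, hWU⟩ := exists_isAffineOpen_mem_and_subset (X := X') (x := y)
        (U := f ⁻¹ᵁ U) hy
      exact Set.mem_iUnion.2 ⟨⟨⟨W, hW⟩, hWU⟩, hyW⟩)
  let V : Fin F.card → {V : X'.affineOpens // (V : X'.Opens) ≤ f ⁻¹ᵁ U} := fun k => (F.equivFin.symm k).1
  let a : ∀ k, Γ(X, U) ⟶ Γ(X', ((V k).1 : X'.Opens)) := fun k => f.appLE U (V k).1 (V k).2
  letI := fun k => (a k).hom.toAlgebra
  haveI : ∀ k, Module.Flat Γ(X, U) Γ(X', ((V k).1 : X'.Opens)) := fun k =>
    f.flat_appLE hU (V k).1.2 (V k).2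
  have hdet : DR.Descent.Detects (A := Γ(X, U)) fun k => Γ(X', ((V k).1 : X'.Opens)) := by
    refine detects_of_cover _ fun p => ?_
    have hp : hU.fromSpec p ∈ (U : Set X) := hU.range_fromSpec.le ⟨p, rfl⟩
    obtain ⟨y, hy⟩ := f.surjective (hU.fromSpec p)
    obtain ⟨W, hWF, hyW⟩ := Set.mem_iUnion₂.1 (hF (show y ∈ ((f ⁻¹ᵁ U : X'.Opens) : Set X') by
      show f y ∈ (U : Set X)
      rw [hy]
      exact hp))
    obtain ⟨k, rfl⟩ : ∃ k, V k = W := ⟨F.equivFin ⟨W, hWF⟩, by simp [V]⟩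
    obtain ⟨q, rfl⟩ : y ∈ Set.range (V k).1.2.fromSpec := by
      rw [(V k).1.2.range_fromSpec]; exact hyW
    refine ⟨k, q, hU.fromSpec.isOpenEmbedding.injective (Eq.trans ?_ hy)⟩
    exact congr($(IsAffineOpen.SpecMap_appLE_fromSpec f hU (V k).1.2 (V k).2) q)
  refine DR.Descent.pcn_desc hdet m M fun k => ?_
  haveI : PreservesFiniteLimits (tilde.functor Γ(X', ((V k).1 : X'.Opens))) :=
    QCoh.Tilde.tildeFunctor_preservesFiniteLimits
  haveI := preservesLimits_extend (f.flat_appLE hU (V k).1.2 (V k).2)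
  haveI := preservesColimits_extend (f.flat_appLE hU (V k).1.2 (V k).2)
  exact ((hM.pullback (V k).1.2 (V k).2).pcAt_iff m).1 fun y _ => h y

end Groth.Agent.H56.RelPC
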