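import Groth.Agent.H56.RelPC.ThickPC
import Groth.Agent.Lib.Perfect.Lift2
import Groth.Agent.Lib.Perfect.Amplitude

/-!
Pseudo-coherence is detected on a finite order thickening.
-/

set_option autoImplicit false
set_option linter.style.haveILetI false

universe u

open CategoryTheory Limits CategoryTheory.Pretriangulated AlgebraicGeometry TopologicalSpace

namespace Groth.Agent.H56.RelPC.Thick

open Groth.Agent.Lib Groth.Agent.Lib.Perfect.Basic Groth.Agent.Lib.Perfect.PseudoCoh
open Groth.Agent.Lib.Modules.StalkModule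
open Groth.Agent.Lib.Perfect.Pullback (pC pCComp rCIso StalkKProj)
open Groth.Agent.H56.RelPC.Fppf (exists_pcAt_nhds exists_bound)

attribute [local instance] HasDerivedCategory.standard

variable {X X' : Scheme.{u}}

theorem stalkKProj_pC (f : X ⟶ X') {P : CochainComplex X'.Modules ℤ} (hP : StalkKProj P) :
    StalkKProj ((pC f).obj P) := fun x => by
  haveI := hP (f x)
  exact @CochainComplex.isKProjective_of_iso _ _ _ _ _
    ((NatIso.mapHomologicalComplex (DerivedOX.PullbackStalk.pullbackStalkIso f x) (ComplexShape.up ℤ)).app P)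
    (DR.BaseChangeU.isKProjective_ext (f.stalkMap x).hom ((stC X' (f x)).obj P))

theorem stalkKProj_rC (j : X ⟶ X') [IsOpenImmersion j] {P : CochainComplex X'.Modules ℤ}
    (hP : StalkKProj P) : StalkKProj ((rC j).obj P) := fun x => by
  haveI := stalkKProj_pC j hP x
  exact CochainComplex.isKProjective_of_iso ((stC X x).mapIso ((rCIso j).app P).symm)

theorem stalkKProj_mappingCone {P Q : CochainComplex X.Modules ℤ} (g : P ⟶ Q) (hP : StalkKProj P)
    (hQ : StalkKProj Q) : StalkKProj (CochainComplex.mappingCone g) := fun x => by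
  haveI := hP x
  haveI := hQ x
  haveI := Perfect.PullPC.isKProjective_mappingCone ((stC X x).map g)
  exact CochainComplex.isKProjective_of_iso
    (CochainComplex.mappingCone.mapHomologicalComplexIso g (stalkModFunctor X x)).symm

/-- Restriction commutes with inverse image of complexes. -/
noncomputable def pCRestrictIso {i : X ⟶ X'} (U : X'.Opens) (P : CochainComplex X'.Modules ℤ) :
    (pC (i ∣_ U)).obj ((rC U.ι).obj P) ≅ (rC (i ⁻¹ᵁ U).ι).obj ((pC i).obj P) :=
  (pC (i ∣_ U)).mapIso ((rCIso U.ι).app P) ≪≫ (pCComp (i ∣_ U) U.ι).app P ≪≫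
    (NatIso.mapHomologicalComplex
      (Scheme.Modules.pullbackCongr (morphismRestrict_ι i U)) (ComplexShape.up ℤ)).app P ≪≫
    ((pCComp (i ⁻¹ᵁ U).ι i).app P).symm ≪≫ ((rCIso (i ⁻¹ᵁ U).ι).app ((pC i).obj P)).symm

/-- Homology commutes with an exact functor, naturally. -/
noncomputable def homologyFDNat (F : X.Modules ⥤ X'.Modules) [F.Additive] [PreservesFiniteLimits F]
    [PreservesFiniteColimits F] (i : ℤ) :
    F.mapDerivedCategory ⋙ DerivedCategory.homologyFunctor X'.Modules i ≅
      DerivedCategory.homologyFunctor X.Modules i ⋙ F :=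
  letI : Localization.Lifting DerivedCategory.Q
      (HomologicalComplex.quasiIso X.Modules (ComplexShape.up ℤ))
      (F.mapHomologicalComplex (ComplexShape.up ℤ) ⋙
        HomologicalComplex.homologyFunctor X'.Modules (ComplexShape.up ℤ) i)
      (F.mapDerivedCategory ⋙ DerivedCategory.homologyFunctor X'.Modules i) :=
    ⟨(Functor.associator _ _ _).symm ≪≫ Functor.isoWhiskerRight F.mapDerivedCategoryFactors _ ≪≫
      Functor.associator _ _ _ ≪≫
      Functor.isoWhiskerLeft _ (DerivedCategory.homologyFunctorFactors X'.Modules i)⟩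
  letI : Localization.Lifting DerivedCategory.Q
      (HomologicalComplex.quasiIso X.Modules (ComplexShape.up ℤ))
      (HomologicalComplex.homologyFunctor X.Modules (ComplexShape.up ℤ) i ⋙ F)
      (DerivedCategory.homologyFunctor X.Modules i ⋙ F) :=
    ⟨(Functor.associator _ _ _).symm ≪≫
      Functor.isoWhiskerRight (DerivedCategory.homologyFunctorFactors X.Modules i) _⟩
  Localization.liftNatIso DerivedCategory.Q
    (HomologicalComplex.quasiIso X.Modules (ComplexShape.up ℤ))
    (F.mapHomologicalComplex (ComplexShape.up ℤ) ⋙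
      HomologicalComplex.homologyFunctor X'.Modules (ComplexShape.up ℤ) i)
    (HomologicalComplex.homologyFunctor X.Modules (ComplexShape.up ℤ) i ⋙ F) _ _
    (NatIso.ofComponents (fun K => (K.sc i).mapHomologyIso F) fun {K L} f =>
      ShortComplex.mapHomologyIso_hom_naturality
        ((HomologicalComplex.shortComplexFunctor X.Modules (ComplexShape.up ℤ) i).map f) F)

theorem isOpenMap_of_surjective (i : X ⟶ X') [IsClosedImmersion i] [Surjective i] : IsOpenMap i :=
  (i.isClosedEmbedding.isEmbedding.toHomeomorphOfSurjective i.surjective).isOpenMap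

theorem pcAt_pC_restrict {i : X ⟶ X'} {m : ℤ} {P : CochainComplex X'.Modules ℤ}
    (hpc : ∀ z, PCAt m (DerivedCategory.Q.obj ((pC i).obj P)) z) (U : X'.Opens)
    (z : (i ⁻¹ᵁ U : Scheme.{u})) :
    PCAt m (DerivedCategory.Q.obj ((pC (i ∣_ U)).obj ((rC U.ι).obj P))) z :=
  ((hpc _).restrict (i ⁻¹ᵁ U).ι z).of_iso
    (RDQ (i ⁻¹ᵁ U).ι _ ≪≫ DerivedCategory.Q.mapIso (pCRestrictIso U P).symm)

/-- Descent with a known bound. -/
theorem pcAt_of_pC_aux (m : ℤ) : ∀ (k : ℕ) {X X' : Scheme.{u}} (i : X ⟶ X') [IsClosedImmersion i]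
    [Surjective i] (_ : NilStalks i) (P : CochainComplex X'.Modules ℤ) (_ : StalkKProj P) (b : ℤ)
    [(DerivedCategory.Q.obj P).IsLE b] (y : X),
    (∀ z, PCAt m (DerivedCategory.Q.obj ((pC i).obj P)) z) → b < m + k →
      PCAt m (DerivedCategory.Q.obj P) (i y) := by
  intro k
  induction k with
  | zero =>
    intro X X' i _ _ _ P _ b _ y _ hb
    exact pcAt_of_vanish (fun j hj => DerivedCategory.isZero_of_isLE _ b j (by omega)) _
  | succ k ih =>
    intro X X' i _ _ hi P hP b _ y hpc hbk
    by_cases hbm : b < m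
    · exact pcAt_of_vanish (fun j hj => DerivedCategory.isZero_of_isLE _ b j (by omega)) _
    -- the inverse image is bounded by `b`
    have hvan : ∀ {X X' : Scheme.{u}} (i : X ⟶ X'), NilStalks i → ∀ (P : CochainComplex X'.Modules ℤ),
        StalkKProj P → (DerivedCategory.Q.obj P).IsLE b →
        (DerivedCategory.Q.obj ((pC i).obj P)).IsLE b := by
      intro X X' i hi P hP hLE
      refine (DerivedCategory.isLE_iff _ b).2 fun j hj => Modules.Stalk.isZero_iff_stalk_subsingleton.2 fun z => ?_
      haveI : (DerivedCategory.Q.obj P).IsLE j := (DerivedCategory.isLE_iff _ j).2 fun l hl =>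
        DerivedCategory.isZero_of_isLE _ b l (by omega)
      exact (subsingleton_top_iff hi hP z j).2 (Modules.Stalk.isZero_iff_stalk_subsingleton.1
        (DerivedCategory.isZero_of_isLE _ b j hj) _)
    haveI := hvan i hi P hP inferInstance
    haveI : SheafOfModules.IsFiniteType (R := X.ringCatSheaf)
        (DCoh.HD (DerivedCategory.Q.obj ((pC i).obj P)) b) :=
      Perfect.Top.isFT_top (fun z => (hpc z).mono' (by omega))
        fun j hj => DerivedCategory.isZero_of_isLE _ b j hj
    haveI := Modules.GenStalk.finite_stalk (DCoh.HD (DerivedCategory.Q.obj ((pC i).obj P)) b) y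
    obtain ⟨U, hxU, n, α, hα⟩ := TopStalk.exists_top_map (DerivedCategory.Q.obj P) b (i y)
      (finite_top hi hP y b inferInstance)
    let S := (CochainComplex.singleFunctor (U : Scheme.{u}).Modules b).obj
      (FlatMod.freeMod (U : Scheme.{u}) n)
    have hS : DCoh.IsStrictlyPerfect S := Perfect.Amplitude.isStrictlyPerfect_single
      (TensorMod.LocFree.isFinLocFree_freeMod _ n) b
    let eS := (DerivedCategory.singleFunctorIsoCompQ (U : Scheme.{u}).Modules b).app
      (FlatMod.freeMod (U : Scheme.{u}) n)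
    let α' : DerivedCategory.Q.obj S ⟶ DerivedCategory.Q.obj ((rC U.ι).obj P) :=
      eS.inv ≫ α ≫ (RDQ U.ι P).hom
    obtain ⟨V, g, hyV, hg⟩ := Perfect.Lift2.exists_map_opens hS α' (⟨i y, hxU⟩ : (U : Scheme.{u}))
    let y₁ : (i ⁻¹ᵁ U : Scheme.{u}) := ⟨y, hxU⟩
    let i₁ := i ∣_ U
    have hy₁ : i₁ y₁ = (⟨i y, hxU⟩ : (U : Scheme.{u})) := by
      apply U.ι.isOpenEmbedding.injective
      rw [← Scheme.Hom.comp_apply, morphismRestrict_ι]
      rfl
    let y₂ : (i₁ ⁻¹ᵁ V : Scheme.{u}) := ⟨y₁, show i₁ y₁ ∈ V by rw [hy₁]; exact hyV⟩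
    let i₂ := i₁ ∣_ V
    let z : (V : Scheme.{u}) := ⟨⟨i y, hxU⟩, hyV⟩
    have hy₂ : i₂ y₂ = z := by
      apply V.ι.isOpenEmbedding.injective
      rw [← Scheme.Hom.comp_apply, morphismRestrict_ι]
      exact hy₁
    haveI : IsClosedImmersion i₁ := MorphismProperty.IsStableUnderBaseChange.of_isPullback
      (isPullback_morphismRestrict i U).flip ‹IsClosedImmersion i›
    haveI : Surjective i₁ := MorphismProperty.IsStableUnderBaseChange.of_isPullback
      (isPullback_morphismRestrict i U).flip ‹Surjective i›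
    haveI : IsClosedImmersion i₂ := MorphismProperty.IsStableUnderBaseChange.of_isPullback
      (isPullback_morphismRestrict i₁ V).flip ‹IsClosedImmersion i₁›
    haveI : Surjective i₂ := MorphismProperty.IsStableUnderBaseChange.of_isPullback
      (isPullback_morphismRestrict i₁ V).flip ‹Surjective i₁›
    let S₂ := (rC V.ι).obj S
    let P₂ := (rC V.ι).obj ((rC U.ι).obj P)
    have hS₂ : DCoh.IsStrictlyPerfect S₂ := isStrictlyPerfect_map V.ι hS
    have hS₂' := Perfect.Pullback.stalkKProj_of_isStrictlyPerfect hS₂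
    have hP₂ : StalkKProj P₂ := stalkKProj_rC V.ι (stalkKProj_rC U.ι hP)
    let T := CochainComplex.mappingCone g
    have hT := stalkKProj_mappingCone g hS₂' hP₂
    have hi₂ : NilStalks i₂ := (hi.restrict U).restrict V
    have hdist := DerivedCategory.mappingCone_triangle_distinguished g
    haveI hPU : (DerivedCategory.Q.obj P₂).IsLE b := by
      haveI : ((RD U.ι).obj (DerivedCategory.Q.obj P)).IsLE b :=
        isLE_mapDerived (Scheme.Modules.restrictFunctor U.ι) b
      haveI : (DerivedCategory.Q.obj ((rC U.ι).obj P)).IsLE b :=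
        (DerivedCategory.isLE_iff _ b).2 fun j hj =>
          (DerivedCategory.isZero_of_isLE ((RD U.ι).obj (DerivedCategory.Q.obj P)) b j hj).of_iso
            ((DerivedCategory.homologyFunctor _ j).mapIso (RDQ U.ι P).symm)
      haveI : ((RD V.ι).obj (DerivedCategory.Q.obj ((rC U.ι).obj P))).IsLE b :=
        isLE_mapDerived (Scheme.Modules.restrictFunctor V.ι) b
      exact (DerivedCategory.isLE_iff _ b).2 fun j hj =>
        (DerivedCategory.isZero_of_isLE ((RD V.ι).obj (DerivedCategory.Q.obj ((rC U.ι).obj P))) b j hj).of_iso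
          ((DerivedCategory.homologyFunctor _ j).mapIso (RDQ V.ι _).symm)
    have hSz : ∀ j, j ≠ b → IsZero (DCoh.HD (DerivedCategory.Q.obj S₂) j) := fun j hj =>
      ((HomologicalComplex.exactAt_iff_isZero_homology S₂ j).1
        (ShortComplex.exact_of_isZero_X₂ _ ((Scheme.Modules.restrictFunctor V.ι).map_isZero
          (HomologicalComplex.isZero_single_obj_X (ComplexShape.up ℤ) b _ j hj)))).of_iso
        ((DerivedCategory.homologyFunctorFactors _ j).app S₂)
    haveI hTLE : (DerivedCategory.Q.obj T).IsLE b := (DerivedCategory.isLE_iff _ b).2 fun j hj =>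
      (DerivedCategory.HomologySequence.exact₃ _ hdist j (j + 1) rfl).isZero_X₂
        ((DerivedCategory.isZero_of_isLE (DerivedCategory.Q.obj P₂) b j hj).eq_of_src _ _)
        ((hSz (j + 1) (by omega)).eq_of_tgt _ _)
    -- the inverse image of `T`
    have hpcP : ∀ w, PCAt m (DerivedCategory.Q.obj ((pC i₂).obj P₂)) w :=
      pcAt_pC_restrict (pcAt_pC_restrict hpc U) V
    have hpcT : ∀ w, PCAt m (DerivedCategory.Q.obj ((pC i₂).obj T)) w := fun w =>
      (pcAt₃ (DerivedCategory.mappingCone_triangle_distinguished ((pC i₂).map g))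
        ⟨_, 𝟙 _, inferInstance, w, (rC (𝟙 _)).obj ((pC i₂).obj S₂), (RDQ (𝟙 _) _).inv, rfl,
          isStrictlyPerfect_map _ (Perfect.Pullback.isStrictlyPerfect_pC i₂ hS₂),
          Perfect.Ascent.Good.of_isIso _ _⟩ (hpcP w)).of_iso
        (DerivedCategory.Q.mapIso
          (CochainComplex.mappingCone.mapHomologicalComplexIso g (Scheme.Modules.pullback i₂))).symm
    -- the stalk of the top cohomology of `T` vanishes
    have hT0 : Subsingleton ((DCoh.HD (DerivedCategory.Q.obj T) b).presheaf.stalk z) := by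
      have he : Epi ((DerivedCategory.homologyFunctor _ b).map
          (DerivedCategory.Q.map (CochainComplex.mappingCone.inr g))) :=
        (DerivedCategory.HomologySequence.epi_homologyMap_mor₁_iff _
          (rot_of_distTriang _ hdist) b).2 ((hSz (b + 1) (by omega)).of_iso
            (((DerivedCategory.homologyFunctor (V : Scheme.{u}).Modules 0).shiftIso 1 b (b + 1)
              (by omega)).app _) |>.eq_of_tgt _ _)
      have h0 : DerivedCategory.Q.map g ≫ DerivedCategory.Q.map (CochainComplex.mappingCone.inr g) = 0 :=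
        comp_distTriang_mor_zero₁₂ _ hdist
      -- `H^b` of the restricted map is onto at `z`
      have hsurj : Function.Surjective
          (stalkMapₗ ((DerivedCategory.homologyFunctor _ b).map (DerivedCategory.Q.map g)) z) := by
        have hα' : Function.Surjective (stalkMapₗ ((DerivedCategory.homologyFunctor _ b).map α') (V.ι z)) := by
          haveI : IsIso ((DerivedCategory.homologyFunctor _ b).map (RDQ U.ι P).hom) := inferInstance
          intro w
          obtain ⟨w', rfl⟩ := (epi_iff_stalkMapₗ_surjective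
            ((DerivedCategory.homologyFunctor _ b).map (RDQ U.ι P).hom)).1 inferInstance _ w
          obtain ⟨v, rfl⟩ := hα w'
          refine ⟨stalkMapₗ ((DerivedCategory.homologyFunctor _ b).map eS.hom) _ v, ?_⟩
          simp only [α', ← LinearMap.comp_apply, ← stalkMapₗ_comp, ← Functor.map_comp,
            Iso.hom_inv_id_assoc]
          rw [Functor.map_comp, stalkMapₗ_comp]
          rfl
        have hR : Function.Surjective (stalkMapₗ
            ((Scheme.Modules.restrictFunctor V.ι).map ((DerivedCategory.homologyFunctor _ b).map α')) z) := by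
          intro w
          obtain ⟨v, hv⟩ := hα' (Modules.StalkRestrict.restrictStalkAddEquiv V.ι _ z w)
          refine ⟨(Modules.StalkRestrict.restrictStalkAddEquiv V.ι _ z).symm v,
            (Modules.StalkRestrict.restrictStalkAddEquiv V.ι _ z).injective ?_⟩
          rw [TopStalk.stalkMap_restrict, AddEquiv.apply_symm_apply, hv]
        have hnat : (DerivedCategory.homologyFunctor _ b).map ((RD V.ι).map α') ≫
            ((homologyFDNat (Scheme.Modules.restrictFunctor V.ι) b).app _).hom =
            ((homologyFDNat (Scheme.Modules.restrictFunctor V.ι) b).app _).hom ≫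
              (Scheme.Modules.restrictFunctor V.ι).map ((DerivedCategory.homologyFunctor _ b).map α') :=
          (homologyFDNat (Scheme.Modules.restrictFunctor V.ι) b).hom.naturality α'
        intro w
        haveI : IsIso ((DerivedCategory.homologyFunctor _ b).map (RDQ V.ι ((rC U.ι).obj P)).hom) := inferInstance
        obtain ⟨w', rfl⟩ := (epi_iff_stalkMapₗ_surjective
          ((DerivedCategory.homologyFunctor _ b).map (RDQ V.ι ((rC U.ι).obj P)).hom)).1 inferInstance _ w
        obtain ⟨w'', rfl⟩ := (epi_iff_stalkMapₗ_surjective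
          ((homologyFDNat (Scheme.Modules.restrictFunctor V.ι) b).app _).inv).1 inferInstance _ w'
        obtain ⟨v, rfl⟩ := hR w''
        refine ⟨stalkMapₗ (((homologyFDNat (Scheme.Modules.restrictFunctor V.ι) b).app _).inv ≫
          (DerivedCategory.homologyFunctor _ b).map (RDQ V.ι S).hom) _ v, ?_⟩
        simp only [← LinearMap.comp_apply, ← stalkMapₗ_comp, Category.assoc, ← Functor.map_comp]
        congr 2
        rw [(Iso.eq_inv_comp _).2 hnat.symm, hg]
        simp
      refine subsingleton_of_forall_eq 0 fun w => ?_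
      obtain ⟨w', rfl⟩ := (epi_iff_stalkMapₗ_surjective _).1 he z w
      obtain ⟨v, rfl⟩ := hsurj w'
      rw [← LinearMap.comp_apply, ← stalkMapₗ_comp, ← Functor.map_comp, h0, Functor.map_zero,
        stalkMapₗ_zero, LinearMap.zero_apply]
    haveI := hvan i₂ hi₂ T hT inferInstance
    haveI : SheafOfModules.IsFiniteType (R := (i₁ ⁻¹ᵁ V : Scheme.{u}).ringCatSheaf)
        (DCoh.HD (DerivedCategory.Q.obj ((pC i₂).obj T)) b) :=
      Perfect.Top.isFT_top (fun w => (hpcT w).mono' (by omega))
        fun j hj => DerivedCategory.isZero_of_isLE _ b j hj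
    let N : (i₁ ⁻¹ᵁ V : Scheme.{u}).Opens :=
      ⟨(CohB1.support (DCoh.HD (DerivedCategory.Q.obj ((pC i₂).obj T)) b))ᶜ,
        (Modules.Support.isClosed_support _).isOpen_compl⟩
    have hN : ∀ w, w ∈ N ↔ Subsingleton ((DCoh.HD (DerivedCategory.Q.obj T) b).presheaf.stalk (i₂ w)) :=
      fun w => Modules.Support.not_mem_support_iff.trans (subsingleton_top_iff hi₂ hT w b)
    have hyN : y₂ ∈ N := (hN y₂).2 (by rw [hy₂]; exact hT0)
    let W : (V : Scheme.{u}).Opens := ⟨i₂ '' (N : Set _), isOpenMap_of_surjective i₂ _ N.2⟩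
    haveI : (DerivedCategory.Q.obj ((rC W.ι).obj T)).IsLE (b - 1) :=
      (DerivedCategory.isLE_iff _ _).2 fun j hj => by
        refine IsZero.of_iso ?_ ((DerivedCategory.homologyFunctor _ j).mapIso (RDQ W.ι T).symm ≪≫
          Perfect.Coherent.homologyIso W.ι (DerivedCategory.Q.obj T) j)
        rcases eq_or_lt_of_le (show b ≤ j by omega) with rfl | hlt
        · refine Modules.Stalk.isZero_iff_stalk_subsingleton.2 fun w => ?_
          obtain ⟨v, hv, hvw⟩ := w.2
          have hvw' : i₂ v = W.ι w := hvw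
          haveI : Subsingleton ((DCoh.HD (DerivedCategory.Q.obj T) b).presheaf.stalk (W.ι w)) :=
            hvw' ▸ (hN v).1 hv
          exact (Modules.StalkRestrict.restrictStalkAddEquiv W.ι _ w).toEquiv.subsingleton
        · exact (Scheme.Modules.restrictFunctor W.ι).map_isZero
            (DerivedCategory.isZero_of_isLE _ b j hlt)
    let i₃ := i₂ ∣_ W
    haveI : IsClosedImmersion i₃ := MorphismProperty.IsStableUnderBaseChange.of_isPullback
      (isPullback_morphismRestrict i₂ W).flip ‹IsClosedImmersion i₂›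
    haveI : Surjective i₃ := MorphismProperty.IsStableUnderBaseChange.of_isPullback
      (isPullback_morphismRestrict i₂ W).flip ‹Surjective i₂›
    let y₃ : (i₂ ⁻¹ᵁ W : Scheme.{u}) := ⟨y₂, ⟨y₂, hyN, rfl⟩⟩
    have hW := ih i₃ (hi₂.restrict W) ((rC W.ι).obj T) (stalkKProj_rC W.ι hT) (b - 1) y₃
      (pcAt_pC_restrict hpcT W) (by omega)
    have hTz : PCAt m (DerivedCategory.Q.obj T) z := by
      refine PCAt.of_restrict (j := W.ι) ?_ (hW.of_iso (RDQ W.ι T).symm)
      rw [← Scheme.Hom.comp_apply, morphismRestrict_ι]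
      exact hy₂
    have hPz : PCAt m (DerivedCategory.Q.obj P₂) z := pcAt₂ hdist
      ⟨_, 𝟙 _, inferInstance, z, (rC (𝟙 _)).obj S₂, (RDQ (𝟙 _) _).inv, rfl,
        isStrictlyPerfect_map _ hS₂, Perfect.Ascent.Good.of_isIso _ _⟩ hTz
    exact PCAt.of_restrict (j := U.ι) (y := (⟨i y, hxU⟩ : (U : Scheme.{u}))) rfl
      ((PCAt.of_restrict (j := V.ι) (y := z) rfl (hPz.of_iso (RDQ V.ι _).symm)).of_iso (RDQ U.ι P).symm)

/-- Pseudo-coherence modulo a nilpotent ideal gives pseudo-coherence. -/
theorem pcAt_of_pC (i : X ⟶ X') [IsClosedImmersion i] [Surjective i] (hi : NilStalks i)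
    {P : CochainComplex X'.Modules ℤ} (hP : StalkKProj P) {m : ℤ} {y : X}
    (h : PCAt m (DerivedCategory.Q.obj ((pC i).obj P)) y) : PCAt m (DerivedCategory.Q.obj P) (i y) := by
  obtain ⟨V₁, hyV₁, hV₁⟩ := exists_pcAt_nhds h
  obtain ⟨V₂, b, hyV₂, hV₂⟩ := exists_bound h
  let U : X'.Opens := ⟨i '' ((V₁ ⊓ V₂ : X.Opens) : Set X), isOpenMap_of_surjective i _ (V₁ ⊓ V₂).2⟩
  have hmem : ∀ w, i w ∈ U → w ∈ V₁ ⊓ V₂ := by
    rintro w ⟨v, hv, hvw⟩
    rwa [← i.isClosedEmbedding.injective hvw]
  haveI : IsClosedImmersion (i ∣_ U) := MorphismProperty.IsStableUnderBaseChange.of_isPullback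
    (isPullback_morphismRestrict i U).flip ‹IsClosedImmersion i›
  haveI : Surjective (i ∣_ U) := MorphismProperty.IsStableUnderBaseChange.of_isPullback
    (isPullback_morphismRestrict i U).flip ‹Surjective i›
  haveI : (DerivedCategory.Q.obj ((rC U.ι).obj P)).IsLE b := (DerivedCategory.isLE_iff _ _).2 fun j hj => by
    refine IsZero.of_iso ?_ ((DerivedCategory.homologyFunctor _ j).mapIso (RDQ U.ι P).symm ≪≫
      Perfect.Coherent.homologyIso U.ι (DerivedCategory.Q.obj P) j)
    refine Modules.Stalk.isZero_iff_stalk_subsingleton.2 fun w => ?_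
    obtain ⟨v, hv, hvw⟩ := w.2
    have hvw' : i v = U.ι w := hvw
    haveI : Subsingleton ((DCoh.HD (DerivedCategory.Q.obj P) j).presheaf.stalk (U.ι w)) := hvw' ▸
      subsingleton_of_pullback hi hP v b (fun l hl => hV₂ v hv.2 l hl) j hj
    exact (Modules.StalkRestrict.restrictStalkAddEquiv U.ι _ w).toEquiv.subsingleton
  obtain ⟨k, hk⟩ : ∃ k : ℕ, b < m + k := ⟨(b - m).toNat + 1, by omega⟩
  have := pcAt_of_pC_aux m k (i ∣_ U) (hi.restrict U) ((rC U.ι).obj P) (stalkKProj_rC U.ι hP) b
    ⟨y, ⟨y, ⟨hyV₁, hyV₂⟩, rfl⟩⟩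
    (fun w => ((hV₁ _ (hmem _ w.2).1).restrict (i ⁻¹ᵁ U).ι w).of_iso
      (RDQ (i ⁻¹ᵁ U).ι _ ≪≫ DerivedCategory.Q.mapIso (pCRestrictIso U P).symm)) hk
  refine PCAt.of_restrict (j := U.ι) ?_ (this.of_iso (RDQ U.ι P).symm)
  rw [← Scheme.Hom.comp_apply, morphismRestrict_ι]
  rfl

end Groth.Agent.H56.RelPC.Thick
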