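import Groth.Agent.H56.RelPC.ThickTorRing
import Groth.Agent.H56.RelPC.ThickMain
import Groth.Agent.Lib.Perfect.Pullback
import Groth.Prelude.Def_MoreMor

/-!
Relative perfectness is detected on a finite order thickening of the base.
-/

set_option autoImplicit false
set_option linter.style.haveILetI false

universe u

open CategoryTheory Limits AlgebraicGeometry TopologicalSpace HomologicalComplex

attribute [local instance] HasDerivedCategory.standard

namespace Groth.Agent.H56.RelPC.ThickTor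

open Groth.Agent.Lib Groth.Agent.Lib.DerivedOX Groth.Agent.Lib.Modules.StalkModule
open Groth.Agent.Lib.BettiExact TorTensor TorBaseChange TorPull
open Groth.Agent.H56.RelPC

variable {X X' Y Y' : Scheme.{u}} {f : X ⟶ Y} {f' : X' ⟶ Y'} {i : X ⟶ X'} {j : Y ⟶ Y'}

theorem baseMap_props (sq : IsPullback i f f' j) [IsClosedImmersion j] (hn : IsNilpotent j.ker) (x : X) :
    Function.Surjective (StalkTensor.baseMap sq x) ∧
      IsNilpotent (RingHom.ker (StalkTensor.baseMap sq x)) := by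
  have hN := Thick.nilStalks j hn
  have h : j (f x) = f' (i x) := by
    rw [← Scheme.Hom.comp_apply, ← Scheme.Hom.comp_apply, sq.w]
  have he : IsIso (Y'.presheaf.stalkSpecializes (specializes_of_eq h)) :=
    (Y'.presheaf.stalkCongr (Inseparable.of_eq h.symm)).isIso_hom
  have hb := ConcreteCategory.bijective_of_isIso (Y'.presheaf.stalkSpecializes (specializes_of_eq h))
  refine ⟨(hN.surj (f x)).comp hb.2, ?_⟩
  let e : Y'.presheaf.stalk (f' (i x)) ≃+* Y'.presheaf.stalk (j (f x)) :=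
    RingEquiv.ofBijective (Y'.presheaf.stalkSpecializes (specializes_of_eq h)).hom hb
  obtain ⟨n, hk⟩ := hN.nil (f x)
  refine ⟨n, le_bot_iff.1 fun a ha => ?_⟩
  have h' : e a ∈ RingHom.ker (j.stalkMap (f x)).hom ^ n := Ideal.pow_right_mono
    ((Ideal.map_le_iff_le_comap (f := e.toRingHom) (I := RingHom.ker (StalkTensor.baseMap sq x)) (K := RingHom.ker (j.stalkMap (f x)).hom)).2 fun b hb' => hb') n (by
      rw [← Ideal.map_pow]
      exact Ideal.mem_map_of_mem e.toRingHom ha)
  rw [hk] at h'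
  exact (map_eq_zero_iff _ e.injective).1 h'

/-- The stalk map of the base change of a thickening. -/
theorem stalk_data (sq : IsPullback i f f' j) [IsClosedImmersion i] [IsClosedImmersion j]
    (hn : IsNilpotent j.ker) (x : X) :
    ∃ θ : TP (f'.stalkMap (i x)).hom (StalkTensor.baseMap sq x) →+* X.presheaf.stalk x,
      Function.Bijective θ ∧
      θ.comp (inA (f'.stalkMap (i x)).hom (StalkTensor.baseMap sq x)) = (i.stalkMap x).hom ∧
      θ.comp (inS (f'.stalkMap (i x)).hom (StalkTensor.baseMap sq x)) = (f.stalkMap x).hom := by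
  obtain ⟨θ, hθ, hA, hS⟩ := StalkTensor.exists_flat_map sq x
  let φ := (f'.stalkMap (i x)).hom
  let ψ := StalkTensor.baseMap sq x
  have hA' : θ.comp (inA φ ψ) = (i.stalkMap x).hom := hA
  have hsA := ThickTorRing.inA_surjective φ ψ (baseMap_props sq hn x).1
  haveI : Nontrivial (TP φ ψ) := RingHom.domain_nontrivial θ
  haveI : IsLocalRing (TP φ ψ) := IsLocalRing.of_surjective' (inA φ ψ) hsA
  have hs : Function.Surjective θ := fun y => by
    obtain ⟨a, rfl⟩ := i.stalkMap_surjective x y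
    exact ⟨inA φ ψ a, RingHom.congr_fun hA' a⟩
  exact ⟨θ, ThickTorRing.bijective_of_flat θ hθ hs, hA', hS⟩

theorem nilStalks_baseChange (sq : IsPullback i f f' j) [IsClosedImmersion i] [IsClosedImmersion j]
    (hn : IsNilpotent j.ker) : Thick.NilStalks i := by
  refine ⟨fun y => i.stalkMap_surjective y, fun x => ?_⟩
  obtain ⟨θ, hθ, hA, -⟩ := stalk_data sq hn x
  obtain ⟨hs, hk⟩ := baseMap_props sq hn x
  rw [← hA, show RingHom.ker (θ.comp _) = RingHom.ker (inA (f'.stalkMap (i x)).hom (StalkTensor.baseMap sq x))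
    from by ext a; exact map_eq_zero_iff θ hθ.1]
  exact ThickTorRing.isNilpotent_ker_inA _ _ hs hk

theorem torAmpAt_of_pb (sq : IsPullback i f f' j) [IsClosedImmersion i] [IsClosedImmersion j] [Flat f']
    (hn : IsNilpotent j.ker) (P : CochainComplex X'.Modules ℤ) (x : X)
    (hP : ((stC (i x)).obj P).IsKProjective) {a b : ℤ}
    (h : DerSch.HasTorAmplitudeAt f a b ((pbC i).obj P) x) :
    DerSch.HasTorAmplitudeAt f' a b P (i x) := by
  obtain ⟨θ, hθ, hA, hS⟩ := stalk_data sq hn x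
  obtain ⟨hs, hk⟩ := baseMap_props sq hn x
  haveI := hP
  refine (torAmpAt_iff f' (i x) P a b).2 (ThickTorRing.bdd_of_thick _ _ θ (Flat.stalkMap f' (i x)) hθ hs hk
    hA hS ((stC (i x)).obj P) ?_)
  exact DR.FiniteComplex.Bdd.of_iso ((torAmpAt_iff f x _ a b).1 h) (DerivedCategory.Q.mapIso
    ((resC (f.stalkMap x).hom).mapIso (stalkPbIso i x P))).symm

theorem relPerfect_of_pb (sq : IsPullback i f f' j) [Flat f'] (hj : MoreMor.IsFiniteOrderThickening j)
    [DCoh.HasLpull i] (E' : DCoh.D X') (F : CochainComplex X.Modules ℤ)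
    (eF : DCoh.toD X F ≅ (DCoh.Lpull i).obj E')
    (hpc : ∀ m : ℤ, DCoh.IsPseudoCoherentD m (DCoh.toD X F)) (hF : DerSch.LocFiniteTorAmplitude f F) :
    (∀ m : ℤ, DCoh.IsPseudoCoherentD m E') ∧ DerSch.LocFiniteTorAmplitudeD f' E' := by
  haveI := hj.1.1
  haveI := hj.1.2
  haveI : IsClosedImmersion i := MorphismProperty.of_isPullback (P := @IsClosedImmersion) sq.flip ‹_›
  haveI : Surjective i := MorphismProperty.of_isPullback (P := @Surjective) sq.flip ‹_›
  obtain ⟨P, hP, ⟨eP⟩, ⟨eL⟩⟩ := Perfect.Pullback.exists_Lpull_iso i E'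
  have hPK : Perfect.Pullback.StalkKProj P := fun x => LeftExists.isKProjective_stalk hP x
  have hn := nilStalks_baseChange sq hj.2
  refine ⟨fun m => (Perfect.PseudoCoh.iff_forall m E').2 fun x' => ?_, fun F' ⟨eF'⟩ x' => ?_⟩
  · obtain ⟨x, rfl⟩ := i.surjective x'
    exact (Thick.pcAt_of_pC i hn hPK
      (((Perfect.PseudoCoh.iff_forall m _).1 (hpc m) x).of_iso (eF ≪≫ eL))).of_iso eP
  · obtain ⟨x, rfl⟩ := i.surjective x'
    obtain ⟨V, a, b, hx, hV⟩ := hF x
    refine ⟨⟨i '' (V : Set X), Thick.isOpenMap_of_surjective i _ V.2⟩, a, b, ⟨x, hx, rfl⟩, ?_⟩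
    rintro _ ⟨w, hw, rfl⟩
    exact torAmpAt_of_iso f' _ (eP ≪≫ eF'.symm)
      (torAmpAt_of_pb sq hj.2 P w (hPK (i w)) (torAmpAt_of_iso f w (eF ≪≫ eL) (hV w hw)))

end Groth.Agent.H56.RelPC.ThickTor
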