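import Groth.Agent.H56.RelPC.FibTorRing
import Groth.Agent.H56.RelPC.AbsDesc
import Groth.Agent.H56.RelPC.ThickTor
import Groth.Agent.H56.PCSingle.QCoh
import Groth.Agent.Lib.DerivedOX.TildeStalk
import Groth.Agent.Lib.Perfect.Pullback

/-!
Tor amplitude over the base is detected on the closed fibres, for a proper morphism.
-/

set_option autoImplicit false
set_option linter.style.haveILetI false

universe u

open CategoryTheory Limits AlgebraicGeometry TopologicalSpace HomologicalComplex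

attribute [local instance] HasDerivedCategory.standard

namespace Groth.Agent.H56.RelPC.FibTor

open Groth.Agent.Lib Groth.Agent.Lib.DerivedOX Groth.Agent.Lib.Modules.StalkModule KFlatBaseChange
open Groth.Agent.Lib.BettiExact TorTensor TorBaseChange TorPull
open Groth.Agent.Lib.DR.FiniteComplex Groth.Agent.Lib.DR.PseudoCoherent
open Groth.Agent.Lib.Perfect.Basic Groth.Agent.Lib.Perfect.PseudoCoh

/-- A pseudo-coherent complex on an affine open is given by a complex of finite free modules. -/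
theorem exists_free_model {X : Scheme.{u}} {P : CochainComplex X.Modules ℤ}
    (hP : ∀ (m : ℤ) (x : X), PCAt m (DerivedCategory.Q.obj P) x) {U : X.Opens} (hU : IsAffineOpen U) :
    ∃ (c : ℤ) (E : DRing.Cx Γ(X, U)), (∀ i, ff Γ(X, U) (E.X i)) ∧ (∀ i, c < i → IsZero (E.X i)) ∧
      Nonempty (DerivedCategory.Q.obj ((rC hU.fromSpec).obj P) ≅
        DerivedCategory.Q.obj (((tilde.functor Γ(X, U)).mapHomologicalComplex (ComplexShape.up ℤ)).obj E)) := by
  haveI : PreservesFiniteLimits (tilde.functor Γ(X, U)) := QCoh.Tilde.tildeFunctor_preservesFiniteLimits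
  obtain ⟨M, hM⟩ := exists_chartModule hU (K := DerivedCategory.Q.obj P)
    fun i => H56.PCSingle.isQCoh_HD (m := i - 1) (hP (i - 1)) i (by omega)
  have hpcn : ∀ m, PCn (ff Γ(X, U)) m M := fun m => (hM.pcAt_iff m).1 fun x _ => hP m x
  obtain ⟨c, hc⟩ := (hpcn 0).exists_isLE
  obtain ⟨E, hE, hEp, ⟨eE⟩⟩ := DR.Representative.ba_ff_of_forall hpcn hc
  obtain ⟨H, ⟨eH⟩, ⟨eM⟩⟩ := hM
  let ι : Scheme.Modules.restrictFunctor U.ι ⋙ Scheme.Modules.pushforward hU.isoSpec.hom ≅
      Scheme.Modules.restrictFunctor hU.fromSpec :=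
    restrictPushIso hU ≪≫ (Scheme.Modules.restrictFunctorIsoPullback hU.fromSpec).symm
  exact ⟨c, E, hEp, hE, ⟨(RDQ hU.fromSpec P).symm ≪≫ (RD hU.fromSpec).mapIso eH.symm ≪≫
    RDQ hU.fromSpec H ≪≫
    (DerivedCategory.Q.mapIso ((NatIso.mapHomologicalComplex ι (ComplexShape.up ℤ)).app H)).symm ≪≫
    eM.symm ≪≫ (DCoh.tildeD Γ(X, U)).mapIso eE.symm ≪≫ DR.ExactPush.mapQ (tilde.functor Γ(X, U)) E⟩⟩

/-- The stalks in terms of a model on an affine chart. -/
theorem exists_stalk_model {X : Scheme.{u}} {R B : CommRingCat.{u}} (f : X ⟶ Spec R) (j : Spec B ⟶ X)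
    [IsOpenImmersion j] (φ₀ : R ⟶ B) (hφ₀ : j ≫ f = Spec.map φ₀) {P : CochainComplex X.Modules ℤ}
    {E : DRing.Cx B} (eU : DerivedCategory.Q.obj ((rC j).obj P) ≅
      DerivedCategory.Q.obj (((tilde.functor B).mapHomologicalComplex (ComplexShape.up ℤ)).obj E))
    (z : Spec B) :
    ∃ σ : B →+* X.presheaf.stalk (j z),
      (letI := σ.toAlgebra; IsLocalization.AtPrime (X.presheaf.stalk (j z)) z.asIdeal) ∧
      Ideal.comap φ₀.hom z.asIdeal = (f (j z)).asIdeal ∧
      σ.comp φ₀.hom = (f.stalkMap (j z)).hom.comp (StructureSheaf.toStalk R (f (j z))).hom ∧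
      Nonempty (DerivedCategory.Q.obj ((stC (j z)).obj P) ≅ DerivedCategory.Q.obj ((extC σ).obj E)) := by
  let jst := j.stalkMap z
  haveI : IsIso jst := inferInstance
  let γ : (Spec B).presheaf.stalk z →+* X.presheaf.stalk (j z) := (inv jst).hom
  have hγ : Function.Bijective γ := ConcreteCategory.bijective_of_isIso (inv jst)
  have hγj : γ.comp jst.hom = RingHom.id _ := by
    rw [← CommRingCat.hom_comp, IsIso.hom_inv_id, CommRingCat.hom_id]
  let σz := TildeStalk.σ B z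
  have hpt : (Spec.map φ₀) z = f (j z) := by rw [← hφ₀, Scheme.Hom.comp_apply]
  refine ⟨γ.comp σz, ?_, ?_, ?_, ?_⟩
  · letI := (γ.comp σz).toAlgebra
    letI : Algebra B ((Spec B).presheaf.stalk z) := StructureSheaf.stalkAlgebra B z
    haveI : IsLocalization.AtPrime ((Spec B).presheaf.stalk z) z.asIdeal :=
      StructureSheaf.IsLocalization.to_stalk B z
    exact IsLocalization.isLocalization_of_algEquiv z.asIdeal.primeCompl
      (AlgEquiv.ofBijective ({ γ with commutes' := fun _ => rfl } :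
        (Spec B).presheaf.stalk z →ₐ[B] X.presheaf.stalk (j z)) hγ)
  · exact congrArg PrimeSpectrum.asIdeal hpt
  · refine RingHom.ext fun r => ?_
    have h := stalkMap_toStalk_apply φ₀ z r
    show γ (σz (φ₀ r)) = f.stalkMap (j z) ((StructureSheaf.toStalk R (f (j z))) r)
    obtain ⟨y, hy⟩ : ∃ y, y = f.stalkMap (j z) ((StructureSheaf.toStalk R (f (j z))) r) := ⟨_, rfl⟩
    rw [← hy, ← RingHom.id_apply y, ← hγj, RingHom.comp_apply]
    congr 1
    rw [hy, ← CommRingCat.comp_apply, ← Scheme.Hom.stalkMap_comp, Scheme.Hom.stalkMap_congr_hom _ _ hφ₀ z]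
    refine Eq.trans h.symm (congrArg _ ?_)
    exact (TopCat.Presheaf.germ_stalkSpecializes_apply (Spec R).presheaf (U := ⊤) (show f (j z) ∈ (⊤ : (Spec R).Opens) from trivial) (specializes_of_eq hpt) _).symm
  · haveI : PreservesFiniteColimits (stalkModFunctor (Spec B) z) :=
      PreservesColimitsOfSize.preservesFiniteColimits _
    haveI : PreservesFiniteLimits (extF γ) :=
      ModuleCat.preservesFiniteLimits_extendScalars_of_flat (RingHom.Flat.of_bijective hγ)
    haveI : PreservesFiniteColimits (extF γ) :=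
      haveI : PreservesColimitsOfSize.{0, 0} (extF γ) :=
        (ModuleCat.extendRestrictScalarsAdj.{u} γ).leftAdjoint_preservesColimits
      PreservesColimitsOfSize.preservesFiniteColimits _
    let η : extF jst.hom ⋙ extF γ ≅ 𝟭 _ :=
      (ModuleCat.extendScalarsComp jst.hom γ).symm ≪≫
        eqToIso (congrArg (fun g => ModuleCat.extendScalars.{u, u, u} g) hγj) ≪≫ ModuleCat.extendScalarsId _
    let T := (stC (j z)).obj P
    let e₀ : (extC γ).obj ((extC jst.hom).obj T) ≅ T :=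
      (NatIso.mapHomologicalComplex η (ComplexShape.up ℤ)).app T ≪≫
        (Functor.mapHomologicalComplexIdIso _ _).app T
    let e₁ : (extC γ).obj ((extC σz).obj E) ≅ (extC (γ.comp σz)).obj E :=
      (NatIso.mapHomologicalComplex (ModuleCat.extendScalarsComp σz γ).symm (ComplexShape.up ℤ)).app E
    let e₂ : DerivedCategory.Q.obj ((extC jst.hom).obj T) ≅ DerivedCategory.Q.obj ((extC σz).obj E) :=
      DerivedCategory.Q.mapIso (stalkPbIso j z P ≪≫
          (stC z).mapIso ((Perfect.Pullback.rCIso j).app P).symm) ≪≫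
        (DR.ExactPush.mapQ (stalkModFunctor (Spec B) z) _).symm ≪≫
        (stalkModFunctor (Spec B) z).mapDerivedCategory.mapIso eU ≪≫
        DR.ExactPush.mapQ (stalkModFunctor (Spec B) z) _ ≪≫
        DerivedCategory.Q.mapIso
          ((NatIso.mapHomologicalComplex (TildeStalk.tildeStalkIso B z).symm (ComplexShape.up ℤ)).app E)
    exact ⟨DerivedCategory.Q.mapIso e₀.symm ≪≫ (DR.ExactPush.mapQ (extF γ) _).symm ≪≫
      (extF γ).mapDerivedCategory.mapIso e₂ ≪≫ DR.ExactPush.mapQ (extF γ) _ ≪≫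
      DerivedCategory.Q.mapIso e₁⟩

theorem atPrime_congr {R S : Type u} [CommRing R] [CommRing S] [Algebra R S] {p p' : Ideal R}
    [p.IsPrime] [p'.IsPrime] (e : p = p') (h : IsLocalization.AtPrime S p) : IsLocalization.AtPrime S p' := by
  subst e
  exact h

/-- The stalk map of a base change by a closed immersion. -/
theorem stalk_data {X X₀ Y Y₀ : Scheme.{u}} {i : X₀ ⟶ X} {f₀ : X₀ ⟶ Y₀} {f : X ⟶ Y} {ι : Y₀ ⟶ Y}
    (sq : IsPullback i f₀ f ι) [IsClosedImmersion i] [IsClosedImmersion ι] (x : X₀) :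
    Function.Surjective (StalkTensor.baseMap sq x) ∧
    ∃ θ : TP (f.stalkMap (i x)).hom (StalkTensor.baseMap sq x) →+* X₀.presheaf.stalk x,
      Function.Bijective θ ∧
      θ.comp (inA (f.stalkMap (i x)).hom (StalkTensor.baseMap sq x)) = (i.stalkMap x).hom ∧
      θ.comp (inS (f.stalkMap (i x)).hom (StalkTensor.baseMap sq x)) = (f₀.stalkMap x).hom := by
  let φ := (f.stalkMap (i x)).hom
  let ψ := StalkTensor.baseMap sq x
  have hψ : Function.Surjective ψ := by
    have h : ι (f₀ x) = f (i x) := by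
      rw [← Scheme.Hom.comp_apply, ← Scheme.Hom.comp_apply, sq.w]
    have he : IsIso (Y.presheaf.stalkSpecializes (specializes_of_eq h)) :=
      (Y.presheaf.stalkCongr (Inseparable.of_eq h.symm)).isIso_hom
    exact (ι.stalkMap_surjective (f₀ x)).comp
      (ConcreteCategory.bijective_of_isIso (Y.presheaf.stalkSpecializes (specializes_of_eq h))).2
  refine ⟨hψ, ?_⟩
  obtain ⟨θ, hθ, hA, hS⟩ := StalkTensor.exists_flat_map sq x
  have hA' : θ.comp (inA φ ψ) = (i.stalkMap x).hom := hA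
  haveI : Nontrivial (TP φ ψ) := RingHom.domain_nontrivial θ
  haveI : IsLocalRing (TP φ ψ) :=
    IsLocalRing.of_surjective' (inA φ ψ) (ThickTorRing.inA_surjective φ ψ hψ)
  have hs : Function.Surjective θ := fun y => by
    obtain ⟨a, rfl⟩ := i.stalkMap_surjective x y
    exact ⟨inA φ ψ a, RingHom.congr_fun hA' a⟩
  exact ⟨θ, ThickTorRing.bijective_of_flat θ hθ hs, hA', hS⟩

variable {X X₀ S₀ : Scheme.{u}} {R B : CommRingCat.{u}} {f : X ⟶ Spec R} {i : X₀ ⟶ X} {f₀ : X₀ ⟶ S₀}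
  {ι : S₀ ⟶ Spec R}

/-- Exactness in the fibre at a point of the closed subscheme. -/
theorem fibExact_point (sq : IsPullback i f₀ f ι) [IsClosedImmersion i] [IsClosedImmersion ι] [Flat f]
    (x₀ : X₀) {x : X} (hx : i x₀ = x) {P : CochainComplex X.Modules ℤ}
    (hP : Perfect.Pullback.StalkKProj P) (F : DRing.Cx (X.presheaf.stalk x)) {c : ℤ}
    (hFf : ∀ t, flat (X.presheaf.stalk x) (F.X t)) (hFc : ∀ t, c < t → IsZero (F.X t))
    (eT : DerivedCategory.Q.obj ((stC x).obj P) ≅ DerivedCategory.Q.obj F) {a b : ℤ}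
    (h : DerSch.HasTorAmplitudeAt f₀ a b ((pbC i).obj P) x₀) :
    ∀ k < a, ∀ w : F.X k,
      F.d k (k + 1) w ∈
        (IsLocalRing.maximalIdeal ((Spec R).presheaf.stalk (f x))).map (f.stalkMap x).hom •
          (⊤ : Submodule (X.presheaf.stalk x) _) →
      ∃ u, w - F.d (k - 1) k u ∈
        (IsLocalRing.maximalIdeal ((Spec R).presheaf.stalk (f x))).map (f.stalkMap x).hom •
          (⊤ : Submodule (X.presheaf.stalk x) _) := by
  subst hx
  intro k hk w hw
  obtain ⟨hψ, θ, hθ, hA, hS⟩ := stalk_data sq x₀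
  haveI := hP (i x₀)
  let π := (i.stalkMap x₀).hom
  haveI := DR.BaseChangeU.hasLBaseChange π
  let e' : DerivedCategory.Q.obj ((extC π).obj ((stC (i x₀)).obj P)) ≅ DerivedCategory.Q.obj ((extC π).obj F) :=
    (DR.BaseChange.bc π _).symm ≪≫ (DRing.LBaseChange π).mapIso eT ≪≫
      DR.BaseChange.bcFlat π F c hFc hFf
  have hb := (torAmpAt_iff f₀ x₀ _ a b).1 h
  exact FibTorRing.fibExact_local _ _ θ (Flat.stalkMap f (i x₀)) hθ hψ hA hS F hFf hFc
    (Bdd.of_iso hb (DerivedCategory.Q.mapIso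
        ((resC (f₀.stalkMap x₀).hom).mapIso (stalkPbIso i x₀ P).symm) ≪≫
      (DR.ExactPush.mapQ (resF (f₀.stalkMap x₀).hom) _).symm ≪≫
      (resF (f₀.stalkMap x₀).hom).mapDerivedCategory.mapIso e' ≪≫
      DR.ExactPush.mapQ (resF (f₀.stalkMap x₀).hom) _)) k hk w hw

/-- Exactness in the fibres over the closed subscheme. -/
theorem fibExact_chart (sq : IsPullback i f₀ f ι) [IsClosedImmersion i] [IsClosedImmersion ι] [Flat f]
    (j : Spec B ⟶ X) [IsOpenImmersion j] (φ₀ : R ⟶ B) (hφ₀ : j ≫ f = Spec.map φ₀)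
    {P : CochainComplex X.Modules ℤ} (hP : Perfect.Pullback.StalkKProj P) {E : DRing.Cx B} {c : ℤ}
    (hff : ∀ i, ff B (E.X i)) (hc : ∀ i, c < i → IsZero (E.X i))
    (eU : DerivedCategory.Q.obj ((rC j).obj P) ≅
      DerivedCategory.Q.obj (((tilde.functor B).mapHomologicalComplex (ComplexShape.up ℤ)).obj E))
    (z : Spec B) (x₀ : X₀) (hx₀ : i x₀ = j z) {a b : ℤ}
    (h : DerSch.HasTorAmplitudeAt f₀ a b ((pbC i).obj P) x₀) :
    letI := φ₀.hom.toAlgebra
    FibTorRing.FibExact (A := R) E a z := by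
  letI := φ₀.hom.toAlgebra
  obtain ⟨σ, hloc, hcomap, hsq, ⟨eT⟩⟩ := exists_stalk_model f j φ₀ hφ₀ eU z
  letI : Algebra B (X.presheaf.stalk (j z)) := σ.toAlgebra
  haveI : IsLocalization.AtPrime (X.presheaf.stalk (j z)) z.asIdeal := hloc
  letI : Algebra R (X.presheaf.stalk (j z)) := (σ.comp φ₀.hom).toAlgebra
  haveI : IsScalarTower R B (X.presheaf.stalk (j z)) := IsScalarTower.of_algebraMap_eq fun _ => rfl
  letI : Algebra R ((Spec R).presheaf.stalk (f (j z))) := StructureSheaf.stalkAlgebra R (f (j z))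
  haveI : IsLocalization.AtPrime ((Spec R).presheaf.stalk (f (j z)))
      (Ideal.comap (algebraMap R B) z.asIdeal) := by
    exact atPrime_congr hcomap.symm (StructureSheaf.IsLocalization.to_stalk R (f (j z)))
  exact FibTorRing.fibExact_of_stalk (f.stalkMap (j z)).hom hsq.symm E a
    (fibExact_point sq x₀ hx₀ hP ((extC σ).obj E)
      (fun t => DR.BaseChange.ext_flat σ _ (DR.BaseChange.flat_of_free _ (hff t).2))
      (fun t ht => (extF σ).map_isZero (hc t ht)) eT h)

/-- Tor amplitude at a generization. -/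
theorem torAmpAt_chart [Flat f] [LocallyOfFinitePresentation f] (j : Spec B ⟶ X) [IsOpenImmersion j]
    (φ₀ : R ⟶ B) (hφ₀ : j ≫ f = Spec.map φ₀) {P : CochainComplex X.Modules ℤ} {E : DRing.Cx B} {c : ℤ}
    (hff : ∀ i, ff B (E.X i)) (hc : ∀ i, c < i → IsZero (E.X i))
    (eU : DerivedCategory.Q.obj ((rC j).obj P) ≅
      DerivedCategory.Q.obj (((tilde.functor B).mapHomologicalComplex (ComplexShape.up ℤ)).obj E))
    {z z' : Spec B} (hz : z' ⤳ z) {a : ℤ}
    (h : letI := φ₀.hom.toAlgebra; FibTorRing.FibExact (A := R) E a z) :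
    DerSch.HasTorAmplitudeAt f a c P (j z') := by
  letI := φ₀.hom.toAlgebra
  haveI : Flat (Spec.map φ₀) := hφ₀ ▸ inferInstance
  haveI : LocallyOfFinitePresentation (Spec.map φ₀) := hφ₀ ▸ inferInstance
  haveI : Module.Flat R B := (HasRingHomProperty.Spec_iff (P := @Flat)).1 ‹Flat (Spec.map φ₀)›
  haveI : Algebra.FinitePresentation R B :=
    (HasRingHomProperty.Spec_iff (P := @LocallyOfFinitePresentation)).1 ‹_›
  obtain ⟨σ, hloc, hcomap, hsq, ⟨eT⟩⟩ := exists_stalk_model f j φ₀ hφ₀ eU z'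
  letI : Algebra B (X.presheaf.stalk (j z')) := σ.toAlgebra
  haveI : IsLocalization.AtPrime (X.presheaf.stalk (j z')) z'.asIdeal := hloc
  letI : Algebra R (X.presheaf.stalk (j z')) := (σ.comp φ₀.hom).toAlgebra
  haveI : IsScalarTower R B (X.presheaf.stalk (j z')) := IsScalarTower.of_algebraMap_eq fun _ => rfl
  letI : Algebra R ((Spec R).presheaf.stalk (f (j z'))) := StructureSheaf.stalkAlgebra R (f (j z'))
  haveI : IsLocalization.AtPrime ((Spec R).presheaf.stalk (f (j z')))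
      (Ideal.comap (algebraMap R B) z'.asIdeal) := by
    exact atPrime_congr hcomap.symm (StructureSheaf.IsLocalization.to_stalk R (f (j z')))
  have hle : z'.asIdeal ≤ z.asIdeal := (PrimeSpectrum.le_iff_specializes z' z).2 hz
  exact (torAmpAt_iff f (j z') P a c).2 (Bdd.of_iso
    (FibTorRing.bdd_of_fibExact (f.stalkMap (j z')).hom hsq.symm hle E hff hc h)
    ((DR.ExactPush.mapQ (resF (f.stalkMap (j z')).hom) _).symm ≪≫
      (resF (f.stalkMap (j z')).hom).mapDerivedCategory.mapIso eT.symm ≪≫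
      DR.ExactPush.mapQ (resF (f.stalkMap (j z')).hom) _))

/-- Widening the interval of exactness. -/
theorem fibExact_mono [Algebra R B] {E : DRing.Cx B} {a a' : ℤ} {q : PrimeSpectrum B} (h : a' ≤ a)
    (hE : FibTorRing.FibExact (A := R) E a q) : FibTorRing.FibExact (A := R) E a' q :=
  fun j hj => hE j (by omega)

/-- Tor amplitude over the base from tor amplitude over a closed subscheme meeting all closed points. -/
theorem locFiniteTorAmplitudeD_of (sq : IsPullback i f₀ f ι) [IsClosedImmersion ι] [IsProper f]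
    [Flat f] [LocallyOfFinitePresentation f]
    (hι : ∀ y : Spec R, IsClosed ({y} : Set (Spec R)) → y ∈ Set.range ι) [DCoh.HasLpull i]
    (K : DCoh.D X) (hpc : ∀ m : ℤ, DCoh.IsPseudoCoherentD m K) (F₀ : CochainComplex X₀.Modules ℤ)
    (eF : DCoh.toD X₀ F₀ ≅ (DCoh.Lpull i).obj K) (hF₀ : DerSch.LocFiniteTorAmplitude f₀ F₀) :
    DerSch.LocFiniteTorAmplitudeD f K := by
  haveI : IsClosedImmersion i := MorphismProperty.of_isPullback (P := @IsClosedImmersion) sq.flip ‹_›
  obtain ⟨P, hP, ⟨eP⟩, ⟨eL⟩⟩ := Perfect.Pullback.exists_Lpull_iso i K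
  have hPK : Perfect.Pullback.StalkKProj P := fun x => LeftExists.isKProjective_stalk hP x
  have hPpc : ∀ (m : ℤ) (x : X), PCAt m (DerivedCategory.Q.obj P) x := fun m x =>
    ((iff_forall m K).1 (hpc m) x).of_iso eP.symm
  haveI : CompactSpace X := QuasiCompact.compactSpace_of_compactSpace f
  haveI : CompactSpace X₀ := i.isClosedEmbedding.compactSpace
  -- a uniform lower bound
  choose V a b hxV hV using hF₀
  obtain ⟨t, ht⟩ := isCompact_univ.elim_finite_subcover (fun x : X₀ => (V x : Set X₀))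
    (fun x => (V x).isOpen) fun x _ => Set.mem_iUnion.2 ⟨x, hxV x⟩
  obtain ⟨a₀, ha₀⟩ := (t.image a).finite_toSet.bddBelow
  -- charts with uniform upper bound
  have hcov : ∀ x : X, ∃ U : X.Opens, IsAffineOpen U ∧ x ∈ U := fun x => by
    obtain ⟨U, hU, hx, -⟩ := exists_isAffineOpen_mem_and_subset (X := X) (x := x) (U := ⊤) trivial
    exact ⟨U, hU, hx⟩
  choose U hU hxU using hcov
  choose c E hff hc eU using fun x : X => exists_free_model hPpc (hU x)
  obtain ⟨s, hs⟩ := isCompact_univ.elim_finite_subcover (fun x : X => (U x : Set X))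
    (fun x => (U x).isOpen) fun x _ => Set.mem_iUnion.2 ⟨x, hxU x⟩
  obtain ⟨c₀, hc₀⟩ := (s.image c).finite_toSet.bddAbove
  intro F' ⟨eF'⟩ x
  refine ⟨⊤, a₀, c₀, trivial, fun x' _ => torAmpAt_of_iso f x' (eP ≪≫ eF'.symm) ?_⟩
  -- a closed point below `x'`
  obtain ⟨x₁, hx₁, hx₁c⟩ := (isClosed_closure (s := ({x'} : Set X))).exists_closed_singleton
    (Set.singleton_nonempty x').closure
  have hfx₁ : IsClosed ({f x₁} : Set (Spec R)) := by
    simpa using f.isClosedMap _ hx₁c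
  obtain ⟨y₀, hy₀⟩ := hι _ hfx₁
  obtain ⟨x₀, hx₀, -⟩ := Scheme.Pullback.exists_preimage_pullback x₁ y₀ hy₀.symm
  obtain ⟨x₀, rfl⟩ : x₁ ∈ Set.range i := by
    refine ⟨sq.isoPullback.inv x₀, ?_⟩
    rw [← Scheme.Hom.comp_apply, sq.isoPullback_inv_fst, hx₀]
  obtain ⟨p, hp, hx₀V⟩ : ∃ p ∈ t, x₀ ∈ V p := by
    simpa using ht (Set.mem_univ x₀)
  obtain ⟨q, hq, hx₁U⟩ : ∃ q ∈ s, i x₀ ∈ U q := by
    simpa using hs (Set.mem_univ (i x₀))
  have hsp : x' ⤳ i x₀ := specializes_iff_mem_closure.2 hx₁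
  have hx'U : x' ∈ U q := hsp.mem_open (U q).isOpen hx₁U
  let jq := (hU q).fromSpec
  obtain ⟨z, hz⟩ : i x₀ ∈ Set.range jq := by rw [(hU q).range_fromSpec]; exact hx₁U
  obtain ⟨z', hz'⟩ : x' ∈ Set.range jq := by rw [(hU q).range_fromSpec]; exact hx'U
  obtain ⟨φ₀, hφ₀⟩ : ∃ φ₀ : R ⟶ Γ(X, U q), jq ≫ f = Spec.map φ₀ :=
    ⟨Spec.preimage (jq ≫ f), (Spec.map_preimage _).symm⟩
  obtain ⟨eUq⟩ := eU q
  have hzz : z' ⤳ z := jq.isOpenEmbedding.isEmbedding.specializes_iff.1 (by rw [hz, hz']; exact hsp)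
  have hle : a₀ ≤ a p := ha₀ (by simpa using ⟨p, hp, rfl⟩)
  have hcle : c q ≤ c₀ := hc₀ (by simpa using ⟨q, hq, rfl⟩)
  have hcE : ∀ k, c₀ < k → IsZero ((E q).X k) := fun k hk => hc q k (by omega)
  letI := φ₀.hom.toAlgebra
  rw [← hz']
  refine torAmpAt_chart jq φ₀ hφ₀ (hff q) hcE eUq hzz (fibExact_mono hle ?_)
  exact fibExact_chart sq jq φ₀ hφ₀ hPK (hff q) hcE eUq z x₀ hz.symm
    (torAmpAt_of_iso f₀ x₀ (eF ≪≫ eL) (hV p x₀ hx₀V))

end Groth.Agent.H56.RelPC.FibTor
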