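import Groth.Agent.H56.RelPC.RelTorAffine
import Groth.Agent.H56.RelPC.FibTor

/-!
Relative perfection on affine covers.
-/

set_option autoImplicit false
set_option linter.style.haveILetI false

universe u

open CategoryTheory Limits AlgebraicGeometry HomologicalComplex TopologicalSpace

attribute [local instance] HasDerivedCategory.standard

namespace Groth.Agent.H56.RelPC.RelTorCover

open Groth.Agent.Lib Groth.Agent.Lib.DR.Basic
open Groth.Agent.Lib.Perfect.Basic Groth.Agent.Lib.Perfect.PseudoCoh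

variable {X S : Scheme.{u}}

theorem props_of_iso (f : X ⟶ S) {K L : DCoh.D X} (e : K ≅ L)
    (h : (∀ m : ℤ, DCoh.IsPseudoCoherentD m K) ∧ DCoh.LocHasFiniteRelTorDim f K) :
    (∀ m : ℤ, DCoh.IsPseudoCoherentD m L) ∧ DCoh.LocHasFiniteRelTorDim f L := by
  refine ⟨fun m => (iff_forall m L).2 fun x => ((iff_forall m K).1 (h.1 m) x).of_iso e, fun x => ?_⟩
  obtain ⟨V, a, b, hx, hV⟩ := h.2 x
  exact ⟨V, a, b, hx, fun F ⟨eF⟩ => hV F ⟨eF ≪≫ e.symm⟩⟩

noncomputable def fromSpecIso {U : X.Opens} (hU : IsAffineOpen U) (K : DCoh.D X) :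
    (RD hU.fromSpec).obj K ≅ (DCoh.restrictD hU.isoSpec.inv).obj ((DCoh.restrictD U.ι).obj K) :=
  Perfect.Triangle.RDCongr hU.isoSpec_inv_ι.symm K ≪≫ Perfect.Triangle.RDComp hU.isoSpec.inv U.ι K

theorem exists_module {U : X.Opens} (hU : IsAffineOpen U) [PreservesFiniteLimits (tilde.functor Γ(X, U))]
    {K : DCoh.D X} (hK : DCoh.IsQCohD K) :
    ∃ M : Dual.D Γ(X, U), Nonempty ((DCoh.restrictD hU.isoSpec.inv).obj ((DCoh.restrictD U.ι).obj K) ≅
      (DCoh.tildeD Γ(X, U)).obj M) := by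
  obtain ⟨M, H, ⟨eH⟩, ⟨eM⟩⟩ := exists_chartModule hU hK
  let ι : Scheme.Modules.restrictFunctor U.ι ⋙ Scheme.Modules.pushforward hU.isoSpec.hom ≅
      Scheme.Modules.restrictFunctor hU.fromSpec :=
    restrictPushIso hU ≪≫ (Scheme.Modules.restrictFunctorIsoPullback hU.fromSpec).symm
  exact ⟨M, ⟨(fromSpecIso hU K).symm ≪≫ (RD hU.fromSpec).mapIso eH.symm ≪≫ RDQ hU.fromSpec H ≪≫
    (DerivedCategory.Q.mapIso ((NatIso.mapHomologicalComplex ι (ComplexShape.up ℤ)).app H)).symm ≪≫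
    eM.symm⟩⟩

theorem isRelPerfect_of_chart (f : X ⟶ S) [Flat f] {E : DCoh.D X}
    (h : (∀ m : ℤ, DCoh.IsPseudoCoherentD m E) ∧ DCoh.LocHasFiniteRelTorDim f E)
    {U : X.Opens} (hU : IsAffineOpen U) [PreservesFiniteLimits (tilde.functor Γ(X, U))] {V : S.Opens}
    (hV : IsAffineOpen V) (hUV : U ≤ f ⁻¹ᵁ V) (M : Dual.D Γ(X, U))
    (e : (DCoh.restrictD hU.isoSpec.inv).obj ((DCoh.restrictD U.ι).obj E) ≅ (DCoh.tildeD Γ(X, U)).obj M) :
    @Dual2.IsRelPerfect Γ(S, V) Γ(X, U) _ _ (f.appLE V U hUV).hom.toAlgebra M := by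
  have w : hU.fromSpec ≫ f = Spec.map (f.appLE V U hUV) ≫ hV.fromSpec :=
    (IsAffineOpen.SpecMap_appLE_fromSpec f hV hU hUV).symm
  haveI : Flat (Spec.map (f.appLE V U hUV) ≫ hV.fromSpec) := w ▸ inferInstance
  haveI : Flat (Spec.map (f.appLE V U hUV)) :=
    MorphismProperty.of_postcomp (W := @Flat) (W' := @IsOpenImmersion) _ hV.fromSpec inferInstance ‹_›
  exact (RelTorAffine.isRelPerfect_iff (f.appLE V U hUV) M).1 (props_of_iso _ (fromSpecIso hU E ≪≫ e)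
    (RelTorAffine.chart_props f hU.fromSpec hV.fromSpec _ w h.1 h.2))

theorem of_cover (f : X ⟶ S) [Flat f] [∀ R : CommRingCat.{u}, PreservesFiniteLimits (tilde.functor R)]
    {E : DCoh.D X} (hE : DCoh.IsQCohD E)
    (h : ∀ x : X, ∃ (U : X.Opens) (hU : IsAffineOpen U) (V : S.Opens) (_ : IsAffineOpen V)
      (hUV : U ≤ f ⁻¹ᵁ V), x ∈ U ∧ ∀ M : Dual.D Γ(X, U),
        Nonempty ((DCoh.restrictD hU.isoSpec.inv).obj ((DCoh.restrictD U.ι).obj E) ≅
          (DCoh.tildeD Γ(X, U)).obj M) →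
        @Dual2.IsRelPerfect Γ(S, V) Γ(X, U) _ _ (f.appLE V U hUV).hom.toAlgebra M) :
    (∀ m : ℤ, DCoh.IsPseudoCoherentD m E) ∧ DCoh.LocHasFiniteRelTorDim f E := by
  refine RelTorAffine.of_charts f fun x => ?_
  obtain ⟨U, hU, V, hV, hUV, hxU, hM⟩ := h x
  obtain ⟨z, hz⟩ : x ∈ Set.range hU.fromSpec := by rw [hU.range_fromSpec]; exact hxU
  obtain ⟨M, ⟨e⟩⟩ := exists_module hU hE
  have w : hU.fromSpec ≫ f = Spec.map (f.appLE V U hUV) ≫ hV.fromSpec :=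
    (IsAffineOpen.SpecMap_appLE_fromSpec f hV hU hUV).symm
  haveI : Flat (Spec.map (f.appLE V U hUV) ≫ hV.fromSpec) := w ▸ inferInstance
  haveI : Flat (Spec.map (f.appLE V U hUV)) :=
    MorphismProperty.of_postcomp (W := @Flat) (W' := @IsOpenImmersion) _ hV.fromSpec inferInstance ‹_›
  exact ⟨Γ(S, V), Γ(X, U), hU.fromSpec, inferInstance, hV.fromSpec, inferInstance, f.appLE V U hUV, z, hz, w,
    props_of_iso _ (fromSpecIso hU E ≪≫ e).symm
      ((RelTorAffine.isRelPerfect_iff (f.appLE V U hUV) M).2 (hM M ⟨e⟩))⟩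

theorem result (f : X ⟶ S) [Flat f] [∀ R : CommRingCat.{u}, PreservesFiniteLimits (tilde.functor R)]
    {E : DCoh.D X} (hE : DCoh.IsQCohD E)
    (h : ∀ (U : X.Opens) (hU : IsAffineOpen U) (V : S.Opens) (_ : IsAffineOpen V) (hUV : U ≤ f ⁻¹ᵁ V)
      (M : Dual.D Γ(X, U)), Nonempty ((DCoh.restrictD hU.isoSpec.inv).obj ((DCoh.restrictD U.ι).obj E) ≅
          (DCoh.tildeD Γ(X, U)).obj M) →
        @Dual2.IsRelPerfect Γ(S, V) Γ(X, U) _ _ (f.appLE V U hUV).hom.toAlgebra M) :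
    (∀ m : ℤ, DCoh.IsPseudoCoherentD m E) ∧ DCoh.LocHasFiniteRelTorDim f E := by
  refine of_cover f hE fun x => ?_
  obtain ⟨V, hV, hxV, -⟩ := exists_isAffineOpen_mem_and_subset (X := S) (x := f x) (U := ⊤) trivial
  obtain ⟨U, hU, hxU, hUV⟩ := exists_isAffineOpen_mem_and_subset (X := X) (x := x) (U := f ⁻¹ᵁ V) hxV
  exact ⟨U, hU, V, hV, hUV, hxU, h U hU V hV hUV⟩

end Groth.Agent.H56.RelPC.RelTorCover
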