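import Groth.Agent.H56.RelPC.RelTorAffine
import Groth.Agent.H56.RelPC.RelTorCover
import Groth.Agent.S7211
import Groth.Agent.S6215
import Groth.Agent.H56.PCSingle.Basic
import Groth.Agent.Lib.Perfect.Regular
import Groth.Agent.Lib.TensorMod.FPConv

/-!
Relative perfection and bounded complexes of flat modules of finite presentation.
-/

set_option autoImplicit false
set_option linter.style.haveILetI false

universe u

open CategoryTheory Limits AlgebraicGeometry HomologicalComplex

attribute [local instance] HasDerivedCategory.standard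

namespace Groth.Agent.H56.RelPC.RelTorFP

open Groth.Agent.Lib Groth.Agent.Lib.DR Groth.Agent.Lib.DR.Basic Groth.Agent.Lib.DR.FiniteComplex
  Groth.Agent.Lib.DR.PseudoCoherent Groth.Agent.Lib.DR.BaseChange
open Groth.Agent.Lib.Perfect.Basic Groth.Agent.Lib.Perfect.PseudoCoh
open Groth.Agent.Lib.BettiExact TorPull
open Groth.Agent.Lib.DerivedOX Groth.Agent.Lib.Modules.StalkModule KFlatBaseChange

variable {X S : Scheme.{u}}

/-- Relative pseudo-coherence over a flat base is absolute. -/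
theorem rel_iff_abs (f : X ⟶ S) [Flat f] [LocallyOfFinitePresentation f] (m : ℤ)
    (F : CochainComplex X.Modules ℤ) :
    DerSch.IsPseudoCoherentRel f m (DCoh.toD X F) ↔ DCoh.IsPseudoCoherentD m (DCoh.toD X F) := by
  let e : (DerSch.pushCx (𝟙 X)).obj F ≅ F :=
    (NatIso.mapHomologicalComplex (Scheme.Modules.pushforwardId X) (ComplexShape.up ℤ)).app F ≪≫
      (Functor.mapHomologicalComplexIdIso _ _).app F
  have h := (Groth.Agent.S7211.result (𝟙 X) f m F).1
  rw [Category.id_comp] at h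
  rw [h, iff_forall, iff_forall]
  exact ⟨fun hp x => (hp x).of_iso (DerivedCategory.Q.mapIso e),
    fun hp x => (hp x).of_iso (DerivedCategory.Q.mapIso e.symm)⟩

/-- Bounded above complexes of relatively flat modules of finite presentation are pseudo-coherent. -/
theorem pc_of_terms (f : X ⟶ S) [Flat f] [LocallyOfFinitePresentation f] (G : CochainComplex X.Modules ℤ)
    (b : ℤ) (hb : ∀ i, b < i → IsZero (G.X i))
    (hG : ∀ i, CohB1.IsFP (G.X i) ∧ FlatMod.IsFlatOver f (G.X i)) (m : ℤ) :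
    DCoh.IsPseudoCoherentD m (DCoh.toD X G) := by
  refine (rel_iff_abs f m G).1 (Groth.Agent.S6215.result f G b hb (fun i => (hG i).2) (fun i => ?_) m)
  rw [rel_iff_abs, iff_forall]
  exact fun x => (PCSingle.pcAt_inD_of_isFP (hG i).1 x).of_iso
    ((DerivedCategory.singleFunctorIsoCompQ X.Modules 0).app _)

theorem isFP_restrict {U : Scheme.{u}} (j : U ⟶ X) [IsOpenImmersion j] {M : X.Modules} (h : CohB1.IsFP M) :
    CohB1.IsFP (M.restrict j) := by
  refine (PCSingle.isPseudoCoherentD_negOne_iff _).1 ((iff_forall _ _).2 fun y => ?_)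
  exact (PCAt.restrict j y ((iff_forall _ _).1 ((PCSingle.isPseudoCoherentD_negOne_iff M).2 h) (j y))).of_iso
    (Perfect.Regular.RDinD j M)

theorem isFP_tilde {A : CommRingCat.{u}} (M : ModuleCat.{u} A) [Module.FinitePresentation A M] :
    CohB1.IsFP ((tilde.functor A).obj M) := by
  haveI : PreservesFiniteLimits (tilde.functor A) := QCoh.Tilde.tildeFunctor_preservesFiniteLimits
  let e : (DCoh.tildeD A).obj ((DerivedCategory.singleFunctor (ModuleCat.{u} A) 0).obj M) ≅
      DCoh.inD (Spec A) ((tilde.functor A).obj M) :=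
    (DCoh.tildeD A).mapIso ((DerivedCategory.singleFunctorIsoCompQ _ 0).app M) ≪≫
      ExactPush.mapQ (tilde.functor A) _ ≪≫
      DerivedCategory.Q.mapIso ((singleMapHomologicalComplex (tilde.functor A) (ComplexShape.up ℤ) 0).app M) ≪≫
      ((DerivedCategory.singleFunctorIsoCompQ _ 0).app _).symm
  refine (PCSingle.isPseudoCoherentD_negOne_iff _).1 ((iff_forall _ _).2 fun x => ?_)
  have h := (DR.TopCohomology.pcn_ff_iff_fproj _ _).1 (pcn_single_of_finitePresentation M 0)
  rw [zero_sub] at h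
  exact (Perfect.TildeD.pcAt_of_pcn h x).of_iso e

theorem exists_model (f : X ⟶ S) [Flat f] {K : DCoh.D X}
    (hpc : ∀ m : ℤ, DCoh.IsPseudoCoherentD m K) (htor : DCoh.LocHasFiniteRelTorDim f K) (x : X) :
    ∃ V : X.Opens, x ∈ V ∧ ∀ F : CochainComplex X.Modules ℤ, Nonempty (DCoh.toD X F ≅ K) →
      ∃ (G : CochainComplex (V : Scheme.{u}).Modules ℤ) (a b : ℤ), DCoh.VanishesOutside G a b ∧
        (∀ i : ℤ, CohB1.IsFP (G.X i) ∧ FlatMod.IsFlatOver (V.ι ≫ f) (G.X i)) ∧
        Nonempty (DerivedCategory.Q.obj ((DCoh.restrictCx V).obj F) ≅ DerivedCategory.Q.obj G) := by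
  obtain ⟨V₀, a, b, hxV₀, hV₀⟩ := htor x
  obtain ⟨V, hV, hxV, hle⟩ := exists_isAffineOpen_mem_and_subset hxV₀
  refine ⟨V, hxV, fun F ⟨eF⟩ => ?_⟩
  have hFpc : ∀ (m : ℤ) (x : X), PCAt m (DerivedCategory.Q.obj F) x := fun m x =>
    ((iff_forall m K).1 (hpc m) x).of_iso eF.symm
  obtain ⟨c, E, hff, hc, ⟨eU⟩⟩ := FibTor.exists_free_model hFpc hV
  let j := hV.isoSpec.hom
  let T := ((tilde.functor Γ(X, V)).mapHomologicalComplex (ComplexShape.up ℤ)).obj E
  let G := (rC j).obj T
  have hGc : ∀ i, c < i → IsZero (G.X i) := fun i hi =>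
    (Scheme.Modules.restrictFunctor j).map_isZero ((tilde.functor _).map_isZero (hc i hi))
  have hGfp : ∀ i, CohB1.IsFP (G.X i) := fun i => by
    haveI : Module.Free Γ(X, V) (E.X i) := (hff i).2
    haveI : Module.Finite Γ(X, V) (E.X i) := (hff i).1
    haveI : Module.FinitePresentation Γ(X, V) (E.X i) := Module.finitePresentation_of_projective _ _
    exact isFP_restrict j (isFP_tilde _)
  have hGfl : ∀ i, FlatMod.IsFlatOver (V.ι ≫ f) (G.X i) := fun i =>
    RelTor.isFlatOver_of_isFlat _ (Perfect.FlatPerfect.isFlat_restrict j fun z =>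
      flat_of_iso ((TildeStalk.tildeStalkIso Γ(X, V) z).app (E.X i))
        (ext_flat _ _ (flat_of_free _ (hff i).2)))
  let eG : DerivedCategory.Q.obj ((rC V.ι).obj F) ≅ DerivedCategory.Q.obj G :=
    DerivedCategory.Q.mapIso ((rCCongr (j' := j ≫ hV.fromSpec) hV.isoSpec_hom_fromSpec.symm ≪≫
        rCComp j hV.fromSpec).app F) ≪≫ (RDQ j _).symm ≪≫ (RD j).mapIso eU ≪≫ RDQ j _
  have hamp : DerSch.HasTorAmplitude (V.ι ≫ f) a b G := fun z =>
    torAmpAt_of_iso _ z eG (TorRestrict.torAmpAt_restrict f (V.ι ≫ f) V.ι (𝟙 S)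
      (Category.comp_id _).symm F z (by
        obtain ⟨E₀, hE₀, hfl₀, ⟨e₀⟩⟩ := hV₀ F ⟨eF⟩
        exact RelTor.torAmpAt_of_restrict f V₀ F ⟨V.ι z, hle z.2⟩
          (torAmpAt_of_iso _ _ e₀ (hasTorAmplitude_of_flat_terms _ E₀ a b hE₀ hfl₀ _))))
  haveI : PreservesFiniteLimits (tilde.functor Γ(X, V)) := QCoh.Tilde.tildeFunctor_preservesFiniteLimits
  let Φ := tilde.functor Γ(X, V) ⋙ Scheme.Modules.restrictFunctor j
  haveI : PreservesFiniteLimits Φ := comp_preservesFiniteLimits _ _
  haveI : PreservesFiniteColimits Φ := comp_preservesFiniteColimits _ _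
  let op : G.opcycles a ≅ Φ.obj (E.opcycles a) := (E.sc a).mapOpcyclesIso Φ
  have hop : CohB1.IsFP (G.opcycles a) := by
    haveI : Module.Free Γ(X, V) (E.X a) := (hff a).2
    haveI : Module.Finite Γ(X, V) (E.X a) := (hff a).1
    haveI : Module.Finite Γ(X, V) (E.X (a - 1)) := (hff _).1
    haveI : Module.FinitePresentation Γ(X, V) (E.X a) := Module.finitePresentation_of_projective _ _
    haveI : Module.FinitePresentation Γ(X, V) (E.X a ⧸ LinearMap.range (E.d (a - 1) a).hom) :=
      Module.finitePresentation_of_surjective _ (Submodule.mkQ_surjective _) (by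
        rw [Submodule.ker_mkQ, LinearMap.range_eq_map]
        exact Module.Finite.fg_top.map _)
    haveI : Module.FinitePresentation Γ(X, V) (E.opcycles a) :=
      Module.FinitePresentation.of_equiv (TorAmp.opcyclesIso E a).toLinearEquiv
    exact (SheafOfModules.isFinitePresentation (V : Scheme.{u}).ringCatSheaf).prop_of_iso op.symm
      (isFP_restrict j (isFP_tilde _))
  haveI : G.IsGE a := (CochainComplex.isGE_iff G a).2 fun i hi => by
    refine (DerivedOX.Amplitude.exactAt_iff_stalk G i).2 fun z =>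
      (TorTensor.exactAt_resC_iff ((V.ι ≫ f).stalkMap z).hom _ i).1 ?_
    exact TorTensor.exactAt_of_bdd ((torAmpAt_iff _ z G a b).1 (hamp z)) i (Or.inl hi)
  haveI : QuasiIso (G.πTruncGE a) := (G.quasiIso_πTruncGE_iff a).2 inferInstance
  refine ⟨G.truncGE a, a, c, fun i hi => ?_, fun i => ?_, ⟨eG ≪≫ asIso (DerivedCategory.Q.map (G.πTruncGE a))⟩⟩
  · rcases hi with hi | hi
    · exact (G.truncGE a).isZero_of_isStrictlyGE a i hi
    · rcases lt_trichotomy i a with h | h | h
      · exact (G.truncGE a).isZero_of_isStrictlyGE a i h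
      · subst h
        exact IsZero.of_iso (IsZero.of_epi (G.pOpcycles i) (hGc i hi)) (G.truncGEXIsoOpcycles i)
      · exact (hGc i hi).of_iso (G.truncGEXIso a i h)
  · rcases lt_trichotomy i a with h | h | h
    · have hz := (G.truncGE a).isZero_of_isStrictlyGE a i h
      have hz' : IsZero (G.X (max c a + 1)) := hGc _ (by omega)
      exact ⟨(SheafOfModules.isFinitePresentation (V : Scheme.{u}).ringCatSheaf).prop_of_iso
          (hz'.iso hz) (hGfp _), fun z => RelTor.isFlatOverAt_iff_res _ _ z |>.2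
          (good_flat.zero ((stalkModFunctor (V : Scheme.{u}) z ⋙ resF ((V.ι ≫ f).stalkMap z).hom).map_isZero hz))⟩
    · subst h
      exact ⟨(SheafOfModules.isFinitePresentation (V : Scheme.{u}).ringCatSheaf).prop_of_iso
          (G.truncGEXIsoOpcycles i).symm hop,
        H52.Ass.FlatTensorProd.isFlatOver_of_iso (G.truncGEXIsoOpcycles i).symm
          (RelTorAffine.isFlatOver_opcycles _ G hGfl hGc hamp)⟩
    · exact ⟨(SheafOfModules.isFinitePresentation (V : Scheme.{u}).ringCatSheaf).prop_of_iso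
          (G.truncGEXIso a i h).symm (hGfp i),
        H52.Ass.FlatTensorProd.isFlatOver_of_iso (G.truncGEXIso a i h).symm (hGfl i)⟩

theorem iff_models (f : X ⟶ S) [Flat f] [LocallyOfFinitePresentation f] (K : DCoh.D X) :
    ((∀ m : ℤ, DCoh.IsPseudoCoherentD m K) ∧ DCoh.LocHasFiniteRelTorDim f K) ↔
      ∀ x : X, ∃ V : X.Opens, x ∈ V ∧ ∀ F : CochainComplex X.Modules ℤ, Nonempty (DCoh.toD X F ≅ K) →
        ∃ (G : CochainComplex (V : Scheme.{u}).Modules ℤ) (a b : ℤ), DCoh.VanishesOutside G a b ∧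
          (∀ i : ℤ, CohB1.IsFP (G.X i) ∧ FlatMod.IsFlatOver (V.ι ≫ f) (G.X i)) ∧
          Nonempty (DerivedCategory.Q.obj ((DCoh.restrictCx V).obj F) ≅ DerivedCategory.Q.obj G) := by
  refine ⟨fun h => exists_model f h.1 h.2, fun h => ?_⟩
  let F := DerivedCategory.Q.objPreimage K
  let eF : DCoh.toD X F ≅ K := DerivedCategory.Q.objObjPreimageIso K
  choose V hxV hV using h
  choose G a b hv hG hi using fun x => hV x F ⟨eF⟩
  have hpc : ∀ m : ℤ, DCoh.IsPseudoCoherentD m K := fun m => (iff_forall m K).2 fun x => by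
    obtain ⟨i⟩ := hi x
    exact PCAt.of_restrict (j := (V x).ι) (y := ⟨x, hxV x⟩) rfl
      (((iff_forall m _).1 (pc_of_terms ((V x).ι ≫ f) (G x) (b x) (fun k hk => hv x k (Or.inr hk)) (hG x) m)
        ⟨x, hxV x⟩).of_iso (i.symm ≪≫ (RDQ (V x).ι F).symm ≪≫ (RD (V x).ι).mapIso eF))
  exact ⟨hpc, RelTor.relTorDim_of_rep f F eF fun x => ⟨V x, a x, b x, hxV x, G x, hv x,
    fun k => (hG x k).2, ⟨(hi x).some.symm⟩⟩⟩

end Groth.Agent.H56.RelPC.RelTorFP
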