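import Groth.Agent.H56.RelPC.Charts
import Groth.Agent.H56.PCSingle.Induct
import Groth.Agent.H56.PCSingle.QCoh

/-!
Relative pseudo-coherence from terms, from cohomology, and quasi-coherence of cohomology.
-/

set_option autoImplicit false
set_option linter.style.haveILetI false

universe u

open CategoryTheory Limits AlgebraicGeometry TopologicalSpace

namespace Groth.Agent.H56.RelPC

open Groth.Agent.Lib Groth.Agent.Lib.Perfect.Basic Groth.Agent.Lib.Perfect.PseudoCoh

attribute [local instance] HasDerivedCategory.standard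

variable {X S : Scheme.{u}} {f : X ⟶ S}

/-- Build relative pseudo-coherence from a test on every presentation of every affine pair. -/
theorem isPseudoCoherentRel_of_forall [LocallyOfFiniteType f] {m : ℤ} {K : DCoh.D X}
    (H : ∀ (U : X.Opens) (hU : IsAffineOpen U) (V : S.Opens) (_ : IsAffineOpen V) (h : U ≤ f ⁻¹ᵁ V)
      (n : ℕ) (φ : MvPolynomial (Fin n) Γ(S, V) →+* Γ(X, U)) (hφ : Function.Surjective φ),
      φ.comp MvPolynomial.C = (f.appLE V U h).hom →
      haveI := isClosedImmersion_imm hU hφ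
      ∀ x, PCAt m ((GD (imm U φ) U.ι).obj K) x) : DerSch.IsPseudoCoherentRel f m K := by
  refine isPseudoCoherentRel_of_hasTest fun U V h => ?_
  have hft : (f.appLE (V : S.Opens) (U : X.Opens) h).hom.FiniteType :=
    LocallyOfFiniteType.finiteType_appLE f V.2 U.2 h
  algebraize [(f.appLE (V : S.Opens) (U : X.Opens) h).hom]
  obtain ⟨n, φ, hφ⟩ := Algebra.FiniteType.iff_quotient_mvPolynomial''.1 ‹_›
  have hC : φ.toRingHom.comp MvPolynomial.C = (f.appLE (V : S.Opens) (U : X.Opens) h).hom :=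
    RingHom.ext fun r => φ.commutes r
  exact ⟨_, inferInstance, φ.toRingHom, hφ, hC, isClosedImmersion_imm U.2 hφ,
    H _ U.2 _ V.2 h n φ.toRingHom hφ hC⟩

/-- The test on every presentation of every affine pair. -/
theorem pcAt_of_isPseudoCoherentRel {m : ℤ} {K : DCoh.D X}
    (hK : DerSch.IsPseudoCoherentRel f m K) {U : X.Opens} (hU : IsAffineOpen U) {V : S.Opens}
    (hV : IsAffineOpen V) {h : U ≤ f ⁻¹ᵁ V} {ι : Type} [Finite ι]
    {φ : MvPolynomial ι Γ(S, V) →+* Γ(X, U)} (hφ : Function.Surjective φ)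
    (hC : φ.comp MvPolynomial.C = (f.appLE V U h).hom) :
    haveI := isClosedImmersion_imm hU hφ
    ∀ x, PCAt m ((GD (imm U φ) U.ι).obj K) x :=
  ((hasTest_of_isPseudoCoherentRel (h := h) hK hU hV).ringTest hU hφ hC).2

theorem isPseudoCoherentRel_of_termwise (m : ℤ) (F : CochainComplex X.Modules ℤ) (b : ℤ)
    (hb : ∀ i : ℤ, b < i → IsZero (F.X i))
    (h : ∀ i : ℤ, DerSch.IsPseudoCoherentRel f (m - i) (DCoh.inD X (F.X i))) :
    DerSch.IsPseudoCoherentRel f m (DCoh.toD X F) := by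
  haveI := (h 0).1
  refine isPseudoCoherentRel_of_forall fun U hU V hV hle n φ hφ hC x => ?_
  haveI := isClosedImmersion_imm hU hφ
  refine (PCSingle.pcAt_of_termwise m x _ b (fun i hi => (G (imm U φ) U.ι).map_isZero (hb i hi))
    fun i => ?_).of_iso (FDQ (G (imm U φ) U.ι) F).symm
  exact (pcAt_of_isPseudoCoherentRel (h i) hU hV hφ hC x).of_iso (GDinD _ _ _)

theorem isPseudoCoherentRel_of_homology (m : ℤ) (E : DCoh.D X) (b : ℤ) [E.IsLE b]
    (h : ∀ i : ℤ, DerSch.IsPseudoCoherentRel f (m - i) (DCoh.inD X (DCoh.HD E i))) :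
    DerSch.IsPseudoCoherentRel f m E := by
  haveI := (h 0).1
  refine isPseudoCoherentRel_of_forall fun U hU V hV hle n φ hφ hC x => ?_
  haveI := isClosedImmersion_imm hU hφ
  haveI := isLE_mapDerived (G (imm U φ) U.ι) (K := E) b
  refine PCSingle.pcAt_of_homology m x _ b fun i => ?_
  exact (pcAt_of_isPseudoCoherentRel (h i) hU hV hφ hC x).of_iso (GDinD _ _ _ ≪≫
    (DerivedCategory.singleFunctor _ 0).mapIso (homologyGD _ _ E i).symm)

/-- Quasi-coherence is detected by direct image along a closed immersion. -/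
theorem isQCoh_of_push {Z Y : Scheme.{u}} (c : Z ⟶ Y) [IsClosedImmersion c] {M : Z.Modules}
    (h : Coh.IsQCoh ((Scheme.Modules.pushforward c).obj M)) : Coh.IsQCoh M :=
  @CohBasics.Closure.isQCoh_of_iso _ _ _ (pullPushIso c M) (@QCoh.Pullback.isQCoh_pullback _ _ c _ h)

theorem isQCoh_homology {m : ℤ} {E : DCoh.D X} (hE : DerSch.IsPseudoCoherentRel f m E) (i : ℤ)
    (hi : m < i) : Coh.IsQCoh (DCoh.HD E i) := by
  refine Modules.AlgMod.isQCoh_of_restrict fun z => ?_
  obtain ⟨V, hV, hzV, -⟩ := exists_isAffineOpen_mem_and_subset (X := S) (x := f z) (U := ⊤) trivial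
  obtain ⟨U, hU, hzU, hUV⟩ := exists_isAffineOpen_mem_and_subset (X := X) (x := z)
    (U := f ⁻¹ᵁ V) hzV
  obtain ⟨ι, _, φ, hφ, hC, -⟩ := hasTest_of_isPseudoCoherentRel (h := hUV) hE hU hV
  haveI := isClosedImmersion_imm hU hφ
  refine ⟨U, hzU, isQCoh_of_push (imm U φ) ?_⟩
  have := PCSingle.isQCoh_HD (pcAt_of_isPseudoCoherentRel hE hU hV hφ hC) i hi
  exact @CohBasics.Closure.isQCoh_of_iso _ _ _ (homologyGD _ _ E i) this

end Groth.Agent.H56.RelPC
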