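import Groth.Agent.H56.RelPC.Rules
import Mathlib.AlgebraicGeometry.Restrict

/-!
Transport of the chart test along an open immersion, local bounds, triangles.
-/

set_option autoImplicit false
set_option linter.style.haveILetI false

universe u

open CategoryTheory Limits AlgebraicGeometry TopologicalSpace CategoryTheory.Pretriangulated

namespace Groth.Agent.H56.RelPC

open Groth.Agent.Lib Groth.Agent.Lib.Perfect.Basic Groth.Agent.Lib.Perfect.PseudoCoh

attribute [local instance] HasDerivedCategory.standard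

variable {X' X S : Scheme.{u}}

/-- `GD` after restriction along an open immersion. -/
noncomputable def GDRestrictIso {Z Y : Scheme.{u}} (c : Z ⟶ Y) [IsClosedImmersion c] (j : Z ⟶ X')
    [IsOpenImmersion j] (k : X' ⟶ X) [IsOpenImmersion k] (K : DCoh.D X) :
    (GD c j).obj ((RD k).obj K) ≅ (GD c (j ≫ k)).obj K :=
  haveI : PreservesFiniteLimits (Scheme.Modules.restrictFunctor k ⋙ G c j) :=
    comp_preservesFiniteLimits _ _
  haveI : PreservesFiniteColimits (Scheme.Modules.restrictFunctor k ⋙ G c j) :=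
    comp_preservesFiniteColimits _ _
  mapDerivedComp (Scheme.Modules.restrictFunctor k) (G c j) K ≪≫
    mapDerivedCongr _ ((Functor.associator _ _ _).symm ≪≫
      Functor.isoWhiskerRight (Scheme.Modules.restrictFunctorComp j k).symm _) K

theorem toSpecΓ_resLE (f : X' ⟶ X) (U : X.Opens) (U' : X'.Opens) (e : U' ≤ f ⁻¹ᵁ U) :
    U'.toSpecΓ ≫ Spec.map (f.appLE U U' e) = f.resLE U U' e ≫ U.toSpecΓ := by
  rw [Scheme.Hom.appLE, Spec.map_comp, Scheme.Opens.toSpecΓ_SpecMap_presheaf_map_assoc,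
    Scheme.Opens.toSpecΓ_naturality, Scheme.Hom.resLE, Category.assoc]

theorem isIso_appLE (k : X' ⟶ X) [IsOpenImmersion k] {U' : X'.Opens} {U : X.Opens}
    (hUU : k ''ᵁ U' = U) (e : U' ≤ k ⁻¹ᵁ U) : IsIso (k.appLE U U' e) := by
  subst hUU
  rw [← Scheme.Hom.appIso_hom']
  infer_instance

/-- The test on an open of an open subscheme is the test on its image. -/
theorem ringTest_restrict (k : X' ⟶ X) [IsOpenImmersion k] {U' : X'.Opens} (hU' : IsAffineOpen U')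
    {U : X.Opens} (hU : IsAffineOpen U) (hUU : k ''ᵁ U' = U) {P : Type u} [CommRing P]
    {φ : P →+* Γ(X, U)} (hφ : Function.Surjective φ) {φ' : P →+* Γ(X', U')}
    (hφ' : Function.Surjective φ')
    (hcomp : φ' = (k.appLE U U' (fun x hx => hUU.le ⟨x, hx, rfl⟩)).hom.comp φ) (m : ℤ)
    (K : DCoh.D X) : RingTest m ((RD k).obj K) U' φ' ↔ RingTest m K U φ := by
  have hle : U' ≤ k ⁻¹ᵁ U := fun x hx => hUU.le ⟨x, hx, rfl⟩
  haveI := isClosedImmersion_imm hU hφ
  haveI := isClosedImmersion_imm hU' hφ'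
  let v := k.resLE U U' hle
  haveI : IsOpenImmersion (v ≫ U.ι) := by rw [Scheme.Hom.resLE_comp_ι]; infer_instance
  haveI : IsOpenImmersion v := IsOpenImmersion.of_comp v U.ι
  have H : imm U' φ' ≫ 𝟙 _ = v ≫ imm U φ := by
    rw [Category.comp_id, imm, imm, hcomp, CommRingCat.ofHom_comp, Spec.map_comp,
      CommRingCat.ofHom_hom, ← Category.assoc, toSpecΓ_resLE, Category.assoc]
  have H' : imm U φ ⁻¹ᵁ Scheme.Hom.opensRange (𝟙 (Spec (CommRingCat.of P))) = v.opensRange := by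
    refine le_antisymm (fun z _ => ?_) fun z _ => ⟨imm U φ z, rfl⟩
    obtain ⟨x, hx, hxz⟩ := hUU.ge z.2
    refine ⟨⟨x, hx⟩, Subtype.ext ?_⟩
    refine Eq.trans ?_ hxz
    exact congr($(Scheme.Hom.resLE_comp_ι k (U := U) (V := U') hle) ⟨x, hx⟩)
  have key := pcTest_square H H' (j := U.ι) (j' := U'.ι ≫ k) (Scheme.Hom.resLE_comp_ι k hle) m K
  exact ⟨fun h => ⟨‹_›, fun x => key.1 (fun y => (h.2 y).of_iso (GDRestrictIso _ _ k K)) x⟩,
    fun h => ⟨‹_›, fun y => (key.2 (fun x => h.2 _) y).of_iso (GDRestrictIso _ _ k K).symm⟩⟩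

/-- Cohomology is locally bounded above near a pseudo-coherent point. -/
theorem exists_bound_of_pcAt {m : ℤ} {K : DCoh.D X} {x : X} (h : PCAt m K x) :
    ∃ (W : X.Opens) (b : ℤ), x ∈ W ∧ ∀ k, b < k → IsZero ((DCoh.HD K k).restrict W.ι) := by
  obtain ⟨U, j, _, y, E, α, hy, ⟨⟨a, b, hv⟩, -⟩, hα⟩ := h
  refine ⟨j.opensRange, max b m, ⟨y, hy⟩, fun l hl => ?_⟩
  have := hα.1 l (lt_of_le_of_lt (le_max_right _ _) hl)
  have hU : IsZero (DCoh.HD ((RD j).obj K) l) :=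
    IsZero.of_iso (((HomologicalComplex.ExactAt.of_isZero
      (hv l (Or.inr (lt_of_le_of_lt (le_max_left _ _) hl)))).isZero_homology).of_iso
        ((DerivedCategory.homologyFunctorFactors U.Modules l).app E))
      (asIso ((DerivedCategory.homologyFunctor U.Modules l).map α)).symm
  exact ((Scheme.Modules.restrictFunctor j.isoOpensRange.inv).map_isZero
      (hU.of_iso (Perfect.Coherent.homologyIso j _ l).symm)).of_iso
    (PCSingle.restrictRangeIso j _).symm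

variable {f : X ⟶ S}

theorem exists_isLE [CompactSpace X] {m : ℤ} {E : DCoh.D X}
    (hE : DerSch.IsPseudoCoherentRel f m E) : ∃ b : ℤ, E.IsLE b := by
  have h : ∀ z : X, ∃ (O : X.Opens) (b : ℤ), z ∈ O ∧
      ∀ k, b < k → IsZero ((DCoh.HD E k).restrict O.ι) := fun z => by
    obtain ⟨V, hV, hzV, -⟩ := exists_isAffineOpen_mem_and_subset (X := S) (x := f z) (U := ⊤) trivial
    obtain ⟨U, hU, hzU, hUV⟩ := exists_isAffineOpen_mem_and_subset (X := X) (x := z)
      (U := f ⁻¹ᵁ V) hzV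
    obtain ⟨ι, _, φ, hφ, hC, -⟩ := hasTest_of_isPseudoCoherentRel (h := hUV) hE hU hV
    haveI := isClosedImmersion_imm hU hφ
    obtain ⟨W, b, hW, hb⟩ := exists_bound_of_pcAt
      (pcAt_of_isPseudoCoherentRel hE hU hV hφ hC (imm U φ ⟨z, hzU⟩))
    let q := (imm U φ ⁻¹ᵁ W).ι ≫ U.ι
    refine ⟨q.opensRange, b, ⟨⟨⟨z, hzU⟩, hW⟩, rfl⟩, fun k hk => ?_⟩
    have h0 : IsZero (((DCoh.HD E k).restrict U.ι).restrict (imm U φ ⁻¹ᵁ W).ι) :=
      isZero_of_push (imm U φ ∣_ W) (((hb k hk).of_iso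
        (((pushRestrIso (imm U φ) W).app ((DCoh.HD E k).restrict U.ι)).symm ≪≫
          (Scheme.Modules.restrictFunctor W.ι).mapIso (homologyGD _ _ E k).symm)))
    exact ((Scheme.Modules.restrictFunctor q.isoOpensRange.inv).map_isZero
      (h0.of_iso ((Scheme.Modules.restrictFunctorComp (imm U φ ⁻¹ᵁ W).ι U.ι).app _))).of_iso
      (PCSingle.restrictRangeIso q _).symm
  choose O b hz hb using h
  obtain ⟨t, ht⟩ := CompactSpace.isCompact_univ.elim_finite_subcover (fun z => (O z : Set X))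
    (fun z => (O z).2) (fun z _ => Set.mem_iUnion.2 ⟨z, hz z⟩)
  obtain ⟨B, hB⟩ := (t.finite_toSet.image b).bddAbove
  refine ⟨B, (DerivedCategory.isLE_iff E B).2 fun i hi => ?_⟩
  refine Modules.Local.isZero_of_restrict (fun x : t => O x.1) ?_ fun x => hb x.1 i ?_
  · refine eq_top_iff.2 fun z _ => ?_
    obtain ⟨x, hxt, hzx⟩ := Set.mem_iUnion₂.1 (ht (Set.mem_univ z))
    exact TopologicalSpace.Opens.mem_iSup.2 ⟨⟨x, hxt⟩, hzx⟩
  · have := hB ⟨x.1, x.2, rfl⟩
    omega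

theorem isPseudoCoherentRel_distTriang [LocallyOfFiniteType f] (n : ℤ) (T : Triangle (DCoh.D X))
    (hT : T ∈ distinguishedTriangles) :
    (DerSch.IsPseudoCoherentRel f (n + 1) T.obj₁ → DerSch.IsPseudoCoherentRel f n T.obj₂ →
        DerSch.IsPseudoCoherentRel f n T.obj₃) ∧
      (DerSch.IsPseudoCoherentRel f n T.obj₁ → DerSch.IsPseudoCoherentRel f n T.obj₃ →
        DerSch.IsPseudoCoherentRel f n T.obj₂) ∧
      (DerSch.IsPseudoCoherentRel f n T.obj₂ → DerSch.IsPseudoCoherentRel f (n - 1) T.obj₃ →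
        DerSch.IsPseudoCoherentRel f n T.obj₁) := by
  refine ⟨fun h₁ h₂ => ?_, fun h₁ h₃ => ?_, fun h₂ h₃ => ?_⟩ <;>
    refine isPseudoCoherentRel_of_forall fun U hU V hV hle k φ hφ hC x => ?_ <;>
    haveI := isClosedImmersion_imm hU hφ
  · exact pcAt₃ ((GD (imm U φ) U.ι).map_distinguished _ hT)
      (pcAt_of_isPseudoCoherentRel h₁ hU hV hφ hC x) (pcAt_of_isPseudoCoherentRel h₂ hU hV hφ hC x)
  · exact pcAt₂ ((GD (imm U φ) U.ι).map_distinguished _ hT)
      (pcAt_of_isPseudoCoherentRel h₁ hU hV hφ hC x) (pcAt_of_isPseudoCoherentRel h₃ hU hV hφ hC x)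
  · have h₂' := pcAt_of_isPseudoCoherentRel h₂ hU hV hφ hC x
    rw [show n = n - 1 + 1 by omega] at h₂' ⊢
    exact pcAt₁ ((GD (imm U φ) U.ι).map_distinguished _ hT) h₂'
      (pcAt_of_isPseudoCoherentRel h₃ hU hV hφ hC x)

/-- Restriction to an open subscheme. -/
theorem isPseudoCoherentRel_restrict {m : ℤ} {K : DCoh.D X}
    (hK : DerSch.IsPseudoCoherentRel f m K) (k : X' ⟶ X) [IsOpenImmersion k] :
    DerSch.IsPseudoCoherentRel (k ≫ f) m ((RD k).obj K) := by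
  haveI := hK.1
  refine isPseudoCoherentRel_of_hasTest fun U' V h => ?_
  have h' : k ''ᵁ (U' : X'.Opens) ≤ f ⁻¹ᵁ (V : S.Opens) := by
    rintro _ ⟨x, hx, rfl⟩
    exact h hx
  have hU := U'.2.image_of_isOpenImmersion k
  obtain ⟨ι, _, φ, hφ, hC, hT⟩ := hasTest_of_isPseudoCoherentRel (h := h') hK hU V.2
  have hle : (U' : X'.Opens) ≤ k ⁻¹ᵁ (k ''ᵁ (U' : X'.Opens)) := fun x hx => ⟨x, hx, rfl⟩
  haveI : IsIso (k.appLE (k ''ᵁ (U' : X'.Opens)) U' hle) := isIso_appLE k rfl hle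
  let φ' := (k.appLE (k ''ᵁ (U' : X'.Opens)) U' hle).hom.comp φ
  have hφ' : Function.Surjective φ' :=
    (ConcreteCategory.bijective_of_isIso (k.appLE (k ''ᵁ (U' : X'.Opens)) U' hle)).2.comp hφ
  refine ⟨ι, inferInstance, φ', hφ', ?_, (ringTest_restrict k U'.2 hU rfl hφ hφ' rfl m K).2 hT⟩
  rw [RingHom.comp_assoc, hC, ← CommRingCat.hom_comp, Scheme.Hom.appLE_comp_appLE]

/-- The notion is local on the source. -/
theorem isPseudoCoherentRel_of_openCover [LocallyOfFiniteType f] {m : ℤ} {K : DCoh.D X}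
    (H : ∀ z : X, ∃ U₀ : X.Opens, z ∈ U₀ ∧
      DerSch.IsPseudoCoherentRel (U₀.ι ≫ f) m ((RD U₀.ι).obj K)) :
    DerSch.IsPseudoCoherentRel f m K := by
  refine isPseudoCoherentRel_of_hasTest fun U V h => ?_
  have hft : (f.appLE (V : S.Opens) (U : X.Opens) h).hom.FiniteType :=
    LocallyOfFiniteType.finiteType_appLE f V.2 U.2 h
  algebraize [(f.appLE (V : S.Opens) (U : X.Opens) h).hom]
  obtain ⟨n, φ, hφ⟩ := Algebra.FiniteType.iff_quotient_mvPolynomial''.1 ‹_›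
  refine hasTest_of_locally U.2 (φ := φ.toRingHom) hφ (RingHom.ext fun r => φ.commutes r) fun z hz => ?_
  obtain ⟨U₀, hz₀, hT⟩ := H z
  obtain ⟨g, hg, hzg⟩ := U.2.exists_basicOpen_le (V := U₀) ⟨z, hz₀⟩ hz
  refine ⟨g, hzg, ?_⟩
  let U' : (U₀ : Scheme.{u}).Opens := U₀.ι ⁻¹ᵁ X.basicOpen g
  have hUU : U₀.ι ''ᵁ U' = X.basicOpen g :=
    (U₀.ι.image_preimage_eq_opensRange_inf _).trans
      (by rw [U₀.opensRange_ι]; exact inf_eq_right.2 hg)
  have hU' : IsAffineOpen U' :=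
    (U₀.ι.isAffineOpen_iff_of_isOpenImmersion).1 (hUU ▸ U.2.basicOpen g)
  have h' : U' ≤ (U₀.ι ≫ f) ⁻¹ᵁ (V : S.Opens) := fun x hx => h (X.basicOpen_le g hx)
  obtain ⟨ι, _, ψ, hψ, hψC, hψT⟩ := hasTest_of_isPseudoCoherentRel (h := h') hT hU' V.2
  haveI : IsIso (U₀.ι.appLE (X.basicOpen g) U' le_rfl) := isIso_appLE U₀.ι hUU le_rfl
  let e := asIso (U₀.ι.appLE (X.basicOpen g) U' le_rfl)
  let θ := e.inv.hom.comp ψ
  have hθ : Function.Surjective θ := (ConcreteCategory.bijective_of_isIso e.inv).2.comp hψ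
  have hψθ : ψ = (U₀.ι.appLE (X.basicOpen g) U' le_rfl).hom.comp θ := by
    refine RingHom.ext fun a => ?_
    exact (congr($(e.inv_hom_id) (ψ a))).symm
  refine ⟨ι, inferInstance, θ, hθ, ?_,
    (ringTest_restrict U₀.ι hU' (U.2.basicOpen g) hUU hθ hψ hψθ m K).1 hψT⟩
  rw [RingHom.comp_assoc, hψC, ← CommRingCat.hom_comp]
  congr 1
  rw [Iso.comp_inv_eq]
  exact (Scheme.Hom.appLE_comp_appLE _ _ _ _ _ _ _).symm

theorem isPseudoCoherentRel_of_iso {m : ℤ} {K L : DCoh.D X} (e : K ≅ L)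
    (hK : DerSch.IsPseudoCoherentRel f m K) : DerSch.IsPseudoCoherentRel f m L := by
  haveI := hK.1
  refine isPseudoCoherentRel_of_forall fun U hU V hV hle n φ hφ hC x => ?_
  haveI := isClosedImmersion_imm hU hφ
  exact (pcAt_of_isPseudoCoherentRel hK hU hV hφ hC x).of_iso ((GD (imm U φ) U.ι).mapIso e)

end Groth.Agent.H56.RelPC
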