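import Groth.Agent.H56.RelPC.RelTorFibRing
import Groth.Agent.Lib.Flat55.Localized

/-!
Tor amplitude over the total ring from that over the base and over the fibre: ring level.
-/

set_option autoImplicit false
set_option linter.style.haveILetI false

universe u

open CategoryTheory Limits HomologicalComplex
open scoped TensorProduct

attribute [local instance] HasDerivedCategory.standard

namespace Groth.Agent.H56.RelPC.RelTorPerfRing

open Groth.Agent.Lib Groth.Agent.Lib.DR Groth.Agent.Lib.DR.Basic Groth.Agent.Lib.DR.FiniteComplex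
  Groth.Agent.Lib.DR.PseudoCoherent Groth.Agent.Lib.DR.BaseChange Groth.Agent.Lib.DR.TorAmp
open Groth.Agent.Lib.DerivedOX KFlatBaseChange
open Groth.Agent.Lib.BettiExact TorTensor
open FibTorRing

/-- Transport along an isomorphism of the quotient ring. -/
theorem bdd_mk_of_surjective {A C : Type u} [CommRing A] [CommRing C] (π : A →+* C)
    (hπ : Function.Surjective π) (I : Ideal A) (hI : RingHom.ker π = I) (F : DRing.Cx A) {a b : ℤ}
    (h : Bdd (flat C) a b (DerivedCategory.Q.obj ((extC π).obj F))) :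
    Bdd (flat (A ⧸ I)) a b (DerivedCategory.Q.obj ((extC (Ideal.Quotient.mk I)).obj F)) := by
  let e : (A ⧸ I) ≃+* C := (Ideal.quotEquivOfEq hI.symm).trans (RingHom.quotientKerEquivOfSurjective hπ)
  let t : C →+* A ⧸ I := e.symm.toRingHom
  have ht : t.comp π = Ideal.Quotient.mk I := RingHom.ext fun x => by
    show e.symm (π x) = _
    rw [RingEquiv.symm_apply_eq]
    rfl
  haveI : PreservesFiniteLimits (extF t) :=
    ModuleCat.preservesFiniteLimits_extendScalars_of_flat (RingHom.Flat.of_bijective e.symm.bijective)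
  haveI : PreservesFiniteColimits (extF t) :=
    haveI : PreservesColimitsOfSize.{0, 0} (extF t) :=
      (ModuleCat.extendRestrictScalarsAdj.{u} t).leftAdjoint_preservesColimits
    PreservesColimitsOfSize.preservesFiniteColimits _
  rw [← ht]
  exact Bdd.of_iso (ExactPush.bdd_map (extF t) (fun M hM => ext_flat t M hM) h)
    (ExactPush.mapQ (extF t) _ ≪≫ DerivedCategory.Q.mapIso
      ((NatIso.mapHomologicalComplex (ModuleCat.extendScalarsComp π t).symm (ComplexShape.up ℤ)).app F))

/-- Extension to a quotient. -/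
theorem flat_quot_of_ext {A : Type u} [CommRing A] (I : Ideal A) (X : ModuleCat.{u} A)
    (h : flat (A ⧸ I) ((extF (Ideal.Quotient.mk I)).obj X)) :
    Module.Flat (A ⧸ I) (X ⧸ I • (⊤ : Submodule A X)) := by
  haveI : Module.Flat (A ⧸ I)
      ((ModuleCat.extendScalars.{u, u, u} (algebraMap A (A ⧸ I))).obj (ModuleCat.of A X) : Type u) := h
  haveI : Module.Flat (A ⧸ I) ((A ⧸ I) ⊗[A] X) :=
    Module.Flat.of_linearEquiv (DR.FlatBC.extEquiv A (A ⧸ I) X).symm
  exact Module.Flat.of_linearEquiv
    ((TensorProduct.quotTensorEquivQuotSMul X I).extendScalarsOfSurjective Ideal.Quotient.mk_surjective).symm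

variable {A B Al Bl : Type u} [CommRing A] [CommRing B] [Algebra A B] [CommRing Al] [CommRing Bl]
  [Algebra A Al] [Algebra B Bl] [Algebra A Bl] [IsScalarTower A B Bl] (φ : Al →+* Bl)
  (hφ : φ.comp (algebraMap A Al) = algebraMap A Bl)

include hφ in
/-- Tor amplitude over the localized ring. -/
theorem bdd_of_fibre [Algebra.FinitePresentation A B] [Module.Flat A B] [IsLocalRing Al] [IsLocalRing Bl]
    [hloc : IsLocalHom φ] (q : PrimeSpectrum B) [IsLocalization.AtPrime Bl q.asIdeal]
    [IsLocalization.AtPrime Al (q.asIdeal.comap (algebraMap A B))]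
    (E : DRing.Cx B) {a b c : ℤ} (hff : ∀ i, ff B (E.X i)) (hc : ∀ i, c < i → IsZero (E.X i))
    (hA : Bdd (flat Al) a b (DerivedCategory.Q.obj ((resC φ).obj ((extC (algebraMap B Bl)).obj E))))
    {b' : ℤ} {C : Type u} [CommRing C] (π : Bl →+* C) (hπ : Function.Surjective π)
    (hker : RingHom.ker π = (IsLocalRing.maximalIdeal Al).map φ)
    (hC : Bdd (flat C) a b' (DerivedCategory.Q.obj ((extC π).obj ((extC (algebraMap B Bl)).obj E)))) :
    Bdd (flat Bl) a c (DerivedCategory.Q.obj ((extC (algebraMap B Bl)).obj E)) := by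
  let F := (extC (algebraMap B Bl)).obj E
  let I := (IsLocalRing.maximalIdeal Al).map φ
  have hFc : ∀ i, c < i → IsZero (F.X i) := fun i hi => (extF _).map_isZero (hc i hi)
  have hFf : ∀ i, flat Bl (F.X i) := fun i => ext_flat _ _ (flat_of_free _ (hff i).2)
  have hφf : φ.Flat := by
    letI := φ.toAlgebra
    haveI : IsScalarTower A Al Bl := IsScalarTower.of_algebraMap_eq' hφ.symm
    haveI : Module.Flat B Bl := IsLocalization.flat Bl q.asIdeal.primeCompl
    haveI : Module.Flat A Bl := Module.Flat.trans A B Bl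
    exact (Module.flat_iff_of_isLocalization Al (q.asIdeal.comap (algebraMap A B)).primeCompl Bl).2 ‹_›
  haveI : F.IsGE a := (CochainComplex.isGE_iff F a).2 fun i hi =>
    (exactAt_resC_iff φ F i).1 (exactAt_of_bdd hA i (Or.inl hi))
  refine bdd_of_opcycles good_flat hFc (fun i _ => hFf i)
    ((DerivedCategory.isGE_Q_obj_iff F a).2 inferInstance) ?_
  let X := F.X a ⧸ LinearMap.range (F.d (a - 1) a).hom
  -- flatness over the base
  have hXA : flat Al ((resF φ).obj (ModuleCat.of Bl X)) := by
    let P := (resC φ).obj F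
    let op : P.opcycles a ≅ (resF φ).obj (F.opcycles a) := (F.sc a).mapOpcyclesIso (resF φ)
    exact good_flat.iso (opcyclesIso P a ≪≫ op ≪≫ (resF φ).mapIso (opcyclesIso F a).symm)
      (flat_coker P (fun i hi => (resF φ).map_isZero (hFc i hi))
        (fun i => LocalAmp.flat_restrict φ hφf _ (hFf i)) hA (a := a))
  -- flatness in the fibre
  have hXI : Module.Flat (Bl ⧸ I) (X ⧸ I • (⊤ : Submodule Bl X)) := by
    refine flat_quot_of_ext I (ModuleCat.of Bl X) ?_
    haveI : PreservesColimitsOfSize.{0, 0} (extF (Ideal.Quotient.mk I)) :=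
      (ModuleCat.extendRestrictScalarsAdj.{u} (Ideal.Quotient.mk I)).leftAdjoint_preservesColimits
    haveI : PreservesFiniteColimits (extF (Ideal.Quotient.mk I)) :=
      PreservesColimitsOfSize.preservesFiniteColimits _
    let P := (extC (Ideal.Quotient.mk I)).obj F
    let Φ := extF (Ideal.Quotient.mk I)
    let op : P.opcycles a ≅ Φ.obj (F.opcycles a) :=
      IsColimit.coconePointUniqueUpToIso (P.opcyclesIsCokernel (a - 1) a (by simp))
          (cokernelIsCokernel (Φ.map (F.d (a - 1) a))) ≪≫
        (PreservesCokernel.iso Φ (F.d (a - 1) a)).symm ≪≫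
        Φ.mapIso (IsColimit.coconePointUniqueUpToIso (cokernelIsCokernel (F.d (a - 1) a))
          (F.opcyclesIsCokernel (a - 1) a (by simp)))
    exact good_flat.iso (opcyclesIso P a ≪≫ op ≪≫ (extF (Ideal.Quotient.mk I)).mapIso (opcyclesIso F a).symm)
      (flat_coker P (fun i hi => (extF _).map_isZero (hFc i hi)) (fun i => ext_flat _ _ (hFf i))
        (bdd_mk_of_surjective π hπ I hker F hC) (a := a))
  letI : ∀ i, Module B (F.X i) := fun i => Module.compHom (F.X i) (algebraMap B Bl)
  haveI : ∀ i, IsScalarTower B Bl (F.X i) := fun i => IsScalarTower.of_algebraMap_smul fun _ _ => rfl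
  haveI : ∀ i, IsLocalizedModule q.asIdeal.primeCompl (locMap (Bl := Bl) E i) :=
    isLocalizedModule_locMap q E
  let g' : F.X (a - 1) →ₗ[B] F.X a := (F.d (a - 1) a).hom.restrictScalars B
  letI : Module B X := Module.compHom X (algebraMap B Bl)
  haveI : IsScalarTower B Bl X := IsScalarTower.of_algebraMap_smul fun _ _ => rfl
  let l₀ : (E.X a ⧸ LinearMap.range (E.d (a - 1) a).hom) →ₗ[B] (F.X a ⧸ LinearMap.range g') :=
    (LinearMap.range (E.d (a - 1) a).hom).mapQ (LinearMap.range g') (locMap (Bl := Bl) E a)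
      (by rintro _ ⟨v, rfl⟩; exact ⟨locMap (Bl := Bl) E (a - 1) v, rfl⟩)
  haveI hl₀ : IsLocalizedModule q.asIdeal.primeCompl l₀ :=
    FibMod.isLocalizedModule_mapQ q.asIdeal.primeCompl (locMap (Bl := Bl) E (a - 1))
      (locMap (Bl := Bl) E a) (E.d (a - 1) a).hom g' fun _ => rfl
  let e : (F.X a ⧸ LinearMap.range g') ≃ₗ[B] X :=
    { (QuotientAddGroup.congr (LinearMap.range g').toAddSubgroup (LinearMap.range (F.d (a - 1) a).hom).toAddSubgroup
        (AddEquiv.refl _) (by ext x; simp only [AddSubgroup.mem_map]; constructor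
                              · rintro ⟨_, ⟨v, rfl⟩, rfl⟩; exact ⟨v, rfl⟩
                              · rintro ⟨v, rfl⟩; exact ⟨_, ⟨v, rfl⟩, rfl⟩)) with
      map_smul' := fun r x => by
        obtain ⟨x, rfl⟩ := Submodule.Quotient.mk_surjective _ x
        rfl }
  haveI : IsLocalizedModule q.asIdeal.primeCompl (e.toLinearMap ∘ₗ l₀) :=
    IsLocalizedModule.of_linearEquiv _ l₀ e
  haveI : Module.Free B (E.X a) := (hff a).2
  haveI : Module.Finite B (E.X a) := (hff a).1
  haveI : Module.Finite B (E.X (a - 1)) := (hff _).1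
  haveI : Module.FinitePresentation B (E.X a) := Module.finitePresentation_of_projective B _
  haveI : Module.FinitePresentation B (E.X a ⧸ LinearMap.range (E.d (a - 1) a).hom) :=
    Module.finitePresentation_of_surjective _ (Submodule.mkQ_surjective _) (by
      rw [Submodule.ker_mkQ, LinearMap.range_eq_map]
      exact Module.Finite.fg_top.map _)
  letI := φ.toAlgebra
  haveI : IsLocalHom (algebraMap Al Bl) := hloc
  letI : Module Al X := Module.compHom X φ
  haveI : IsScalarTower Al Bl X := IsScalarTower.of_algebraMap_smul fun _ _ => rfl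
  haveI : Module.Flat Al X := hXA
  exact Flat55.Localized.flat_of_flat_fibre (R := A) (B := B) (C := B) (R' := Al) (B' := Bl) (C' := Bl)
    (q.asIdeal.comap (algebraMap A B)).primeCompl q.asIdeal.primeCompl q.asIdeal
    (fun r => by
      rw [← IsScalarTower.algebraMap_apply, ← hφ]
      rfl)
    (fun x => rfl) (e.toLinearMap ∘ₗ l₀) hXI

end Groth.Agent.H56.RelPC.RelTorPerfRing
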