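import Groth.Agent.H56.RelPC.RelTorFib
import Groth.Agent.H19.FlatLocus.ModelMod
import Groth.Agent.Lib.Flat55.FlatChart
import Groth.Agent.H52.Ass.FlatTensorProd
import Groth.Agent.Lib.Perfect.TildeD

/-!
Relative perfection on affine schemes and on charts.
-/

set_option autoImplicit false
set_option linter.style.haveILetI false

universe u

open CategoryTheory Limits AlgebraicGeometry HomologicalComplex TopologicalSpace

attribute [local instance] HasDerivedCategory.standard

namespace Groth.Agent.H56.RelPC.RelTorAffine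

open Groth.Agent.Lib Groth.Agent.Lib.DerivedOX Groth.Agent.Lib.Modules.StalkModule KFlatBaseChange
open Groth.Agent.Lib.BettiExact TorTensor TorPull
open Groth.Agent.Lib.DR Groth.Agent.Lib.DR.Basic Groth.Agent.Lib.DR.FiniteComplex
  Groth.Agent.Lib.DR.PseudoCoherent Groth.Agent.Lib.DR.BaseChange Groth.Agent.Lib.DR.Representative
open Groth.Agent.Lib.Perfect.Basic Groth.Agent.Lib.Perfect.PseudoCoh

variable {X S : Scheme.{u}}

/-- Flatness of the cokernel of a complex of bounded tor amplitude. -/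
theorem isFlatOver_opcycles (g : X ⟶ S) (G : CochainComplex X.Modules ℤ) {a b c : ℤ}
    (hfl : ∀ i, FlatMod.IsFlatOver g (G.X i)) (hc : ∀ i, c < i → IsZero (G.X i))
    (h : DerSch.HasTorAmplitude g a b G) : FlatMod.IsFlatOver g (G.opcycles a) := fun z => by
  refine (RelTor.isFlatOverAt_iff_res g _ z).2 ?_
  let F := stalkModFunctor X z ⋙ resF (g.stalkMap z).hom
  haveI : PreservesFiniteColimits (stalkModFunctor X z) :=
    PreservesColimitsOfSize.preservesFiniteColimits _
  haveI : PreservesFiniteLimits F := comp_preservesFiniteLimits _ _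
  haveI : PreservesFiniteColimits F := comp_preservesFiniteColimits _ _
  let P := (resC (g.stalkMap z).hom).obj ((stC z).obj G)
  let op : P.opcycles a ≅ F.obj (G.opcycles a) := (G.sc a).mapOpcyclesIso F
  exact flat_of_iso (TorAmp.opcyclesIso P a ≪≫ op)
    (TorAmp.flat_coker P (fun i hi => (resF _).map_isZero ((stalkModFunctor X z).map_isZero (hc i hi)))
      (fun i => (RelTor.isFlatOverAt_iff_res g _ z).1 (hfl i z)) ((torAmpAt_iff g z G a b).1 (h z)) (a := a))

theorem torAmpAt_mono (g : X ⟶ S) (F : CochainComplex X.Modules ℤ) (x : X) {a a' b b' : ℤ} (ha : a' ≤ a)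
    (hb : b ≤ b') (h : DerSch.HasTorAmplitudeAt g a b F x) : DerSch.HasTorAmplitudeAt g a' b' F x := by
  obtain ⟨T, hT, hTf, e⟩ := h
  exact ⟨T, fun i hi => hT i (by omega), hTf, e⟩

/-- A uniform interval on a quasi-compact scheme. -/
theorem exists_hasTorAmplitude [CompactSpace X] (g : X ⟶ S) {F : CochainComplex X.Modules ℤ}
    (hF : DerSch.LocFiniteTorAmplitude g F) : ∃ a b, DerSch.HasTorAmplitude g a b F := by
  choose V a b hxV hV using hF
  obtain ⟨t, ht⟩ := isCompact_univ.elim_finite_subcover (fun x : X => (V x : Set X))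
    (fun x => (V x).isOpen) fun x _ => Set.mem_iUnion.2 ⟨x, hxV x⟩
  obtain ⟨a₀, ha₀⟩ := (t.image a).finite_toSet.bddBelow
  obtain ⟨b₀, hb₀⟩ := (t.image b).finite_toSet.bddAbove
  refine ⟨a₀, b₀, fun x => ?_⟩
  obtain ⟨p, hp, hxp⟩ : ∃ p ∈ t, x ∈ V p := by simpa using ht (Set.mem_univ x)
  exact torAmpAt_mono g F x (ha₀ (by simpa using ⟨p, hp, rfl⟩)) (hb₀ (by simpa using ⟨p, hp, rfl⟩))
    (hV p x hxp)

variable {R A : CommRingCat.{u}} (φ : R ⟶ A)

/-- Relative perfection of a module complex on the spectrum. -/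
theorem isRelPerfect_iff [Flat (Spec.map φ)] [PreservesFiniteLimits (tilde.functor A)] (M : Dual.D A) :
    ((∀ m : ℤ, DCoh.IsPseudoCoherentD m ((DCoh.tildeD A).obj M)) ∧
      DCoh.LocHasFiniteRelTorDim (Spec.map φ) ((DCoh.tildeD A).obj M)) ↔
    @Dual2.IsRelPerfect R A _ _ φ.hom.toAlgebra M := by
  letI := φ.hom.toAlgebra
  haveI : Module.Flat R A := (HasRingHomProperty.Spec_iff (P := @Flat)).1 ‹Flat (Spec.map φ)›
  have hflE : ∀ (N : ModuleCat.{u} A), free A N → flat R ((resF (algebraMap R A)).obj N) := fun N hN => by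
    letI : Module R N := Module.compHom N (algebraMap R A)
    haveI : IsScalarTower R A N := IsScalarTower.of_algebraMap_smul fun _ _ => rfl
    haveI : Module.Free A N := hN
    exact Module.Flat.trans R A N
  have htilde : ∀ N : ModuleCat.{u} A, flat R ((resF (algebraMap R A)).obj N) →
      FlatMod.IsFlatOver (Spec.map φ) ((tilde.functor A).obj N) := fun N hN => by
    letI : Module R N := Module.compHom N (algebraMap R A)
    haveI : IsScalarTower R A N := IsScalarTower.of_algebraMap_smul fun _ _ => rfl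
    haveI : Module.Flat R N := hN
    exact H19.FlatLocus.ModelMod.isFlatOver_tilde R A N
  constructor
  · rintro ⟨hpc, htor⟩
    have hpcn : ∀ m, PCn (ff A) m M := fun m =>
      Perfect.TildeD.pcn_of_pcAt fun x => (iff_forall m _).1 (hpc m) x
    refine ⟨(DR.Representative.isPseudoCoherent'_iff_forall M).2 hpcn, ?_⟩
    obtain ⟨c, E, hc, hff, ⟨eM⟩⟩ :=
      (DR.Representative.isPseudoCoherent'_iff M).1 ((DR.Representative.isPseudoCoherent'_iff_forall M).2 hpcn)
    let G := ((tilde.functor A).mapHomologicalComplex (ComplexShape.up ℤ)).obj E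
    let eG : DCoh.toD _ G ≅ (DCoh.tildeD A).obj M :=
      (ExactPush.mapQ (tilde.functor A) E).symm ≪≫ (DCoh.tildeD A).mapIso eM
    obtain ⟨a, b, hab⟩ := exists_hasTorAmplitude (Spec.map φ)
      (RelTor.locFiniteTorAmplitudeD_of_relTorDim _ htor G ⟨eG⟩)
    have hGfl : ∀ i, FlatMod.IsFlatOver (Spec.map φ) (G.X i) := fun i => htilde _ (hflE _ (hff i).2)
    have hGc : ∀ i, c < i → IsZero (G.X i) := fun i hi => (tilde.functor A).map_isZero (hc i hi)
    obtain ⟨T, hT, -, ⟨eT⟩⟩ := RelTor.hasRelFlatAmplitudeIn_of_torAmp _ G hGfl hGc hab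
    haveI : E.IsGE a := (CochainComplex.isGE_iff E a).2 fun i hi =>
      (exactAt_iff_isZero_homology _ _).2 (Perfect.TildeD.isZero_of_tilde
        (((exactAt_iff_isZero_homology _ _).1 ((CochainComplex.isGE_iff G a).1
          ((DerivedCategory.isGE_Q_obj_iff G a).1
            (isGE_of_iso' eT (isGE_Q_of_isZero T a fun k hk => hT k (Or.inl hk)))) i hi)).of_iso
          ((E.sc i).mapHomologyIso (tilde.functor A)).symm))
    let op : G.opcycles a ≅ (tilde.functor A).obj (E.opcycles a) := (E.sc a).mapOpcyclesIso (tilde.functor A)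
    have hM₀ : FlatMod.IsFlatOver (Spec.map φ) ((tilde.functor A).obj (E.opcycles a)) :=
      H52.Ass.FlatTensorProd.isFlatOver_of_iso op (isFlatOver_opcycles _ G hGfl hGc hab)
    have hflop : flat R ((resF (algebraMap R A)).obj (E.opcycles a)) := by
      letI : Module R (E.opcycles a) := Module.compHom (E.opcycles a) (algebraMap R A)
      haveI : IsScalarTower R A (E.opcycles a) := IsScalarTower.of_algebraMap_smul fun _ _ => rfl
      exact Flat55.FlatChart.flat_of_isFlatOver_tilde R A (E.opcycles a) hM₀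
    haveI : QuasiIso (E.πTruncGE a) := (E.quasiIso_πTruncGE_iff a).2 inferInstance
    let Tc := (resC (algebraMap R A)).obj (E.truncGE a)
    refine ⟨a, c, Tc, fun i hi => (resF _).map_isZero ?_, fun i => ?_,
      ⟨(ExactPush.mapQ (resF (algebraMap R A)) _).symm ≪≫ (DRing.restrictD (algebraMap R A)).mapIso
        ((asIso (DerivedCategory.Q.map (E.πTruncGE a))).symm ≪≫ eM)⟩⟩
    · rcases hi with hi | hi
      · exact (E.truncGE a).isZero_of_isStrictlyGE a i hi
      · rcases lt_trichotomy i a with h | h | h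
        · exact (E.truncGE a).isZero_of_isStrictlyGE a i h
        · subst h
          exact IsZero.of_iso (IsZero.of_epi (E.pOpcycles i) (hc i hi)) (E.truncGEXIsoOpcycles i)
        · exact (hc i hi).of_iso (E.truncGEXIso a i h)
    · rcases lt_trichotomy i a with h | h | h
      · exact good_flat.zero ((resF _).map_isZero ((E.truncGE a).isZero_of_isStrictlyGE a i h))
      · subst h
        exact good_flat.iso ((resF _).mapIso (E.truncGEXIsoOpcycles i).symm) hflop
      · exact good_flat.iso ((resF _).mapIso (E.truncGEXIso a i h).symm) (hflE _ (hff i).2)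
  · rintro ⟨hpc, a, b, htor⟩
    have hpcn := (DR.Representative.isPseudoCoherent'_iff_forall M).1 hpc
    refine ⟨fun m => (iff_forall m _).2 fun x =>
      Perfect.TildeD.pcAt_of_pcn ((DR.TopCohomology.pcn_ff_iff_fproj _ _).1 (hpcn m)) x, ?_⟩
    obtain ⟨c, E, hc, hff, ⟨eM⟩⟩ := (DR.Representative.isPseudoCoherent'_iff M).1 hpc
    let C := (resC (algebraMap R A)).obj E
    have hC : Bdd (flat R) a b (DerivedCategory.Q.obj C) :=
      Bdd.of_iso htor ((DRing.restrictD (algebraMap R A)).mapIso eM.symm ≪≫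
        ExactPush.mapQ (resF (algebraMap R A)) E)
    have hflop : flat R ((resF (algebraMap R A)).obj (E.opcycles a)) :=
      good_flat.iso (TorAmp.opcyclesIso C a ≪≫ (E.sc a).mapOpcyclesIso (resF (algebraMap R A)))
        (TorAmp.flat_coker C (fun i hi => (resF _).map_isZero (hc i hi)) (fun i => hflE _ (hff i).2) hC
          (a := a))
    haveI : E.IsGE a := (CochainComplex.isGE_iff E a).2 fun i hi =>
      (exactAt_resC_iff (algebraMap R A) E i).1 (exactAt_of_bdd hC i (Or.inl hi))
    haveI : QuasiIso (E.πTruncGE a) := (E.quasiIso_πTruncGE_iff a).2 inferInstance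
    let T := ((tilde.functor A).mapHomologicalComplex (ComplexShape.up ℤ)).obj (E.truncGE a)
    let eT : DCoh.toD _ T ≅ (DCoh.tildeD A).obj M := (ExactPush.mapQ (tilde.functor A) _).symm ≪≫
      (DCoh.tildeD A).mapIso ((asIso (DerivedCategory.Q.map (E.πTruncGE a))).symm ≪≫ eM)
    refine RelTor.relTorDim_of_rep (Spec.map φ) T eT fun x => ⟨⊤, a, max c a, trivial,
      (DCoh.restrictCx ⊤).obj T, fun i hi => ?_, fun i => ?_, ⟨Iso.refl _⟩⟩
    · refine (Scheme.Modules.restrictFunctor _).map_isZero ((tilde.functor A).map_isZero ?_)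
      rcases hi with hi | hi
      · exact (E.truncGE a).isZero_of_isStrictlyGE a i hi
      · exact (hc i (by omega)).of_iso (E.truncGEXIso a i (by omega))
    · have hi : FlatMod.IsFlatOver (Spec.map φ) (T.X i) := htilde _ (by
        rcases lt_trichotomy i a with h | h | h
        · exact good_flat.zero ((resF _).map_isZero ((E.truncGE a).isZero_of_isStrictlyGE a i h))
        · subst h
          exact good_flat.iso ((resF _).mapIso (E.truncGEXIsoOpcycles i).symm) hflop
        · exact good_flat.iso ((resF _).mapIso (E.truncGEXIso a i h).symm) (hflE _ (hff i).2))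
      exact fun z => flat_of_iso
        ((TorRestrict.stalkOverRestrictIso (Spec.map φ) ((⊤ : (Spec A).Opens).ι ≫ Spec.map φ)
          (⊤ : (Spec A).Opens).ι z (RingHom.id _) (by
            refine Eq.trans ?_ (RingHom.comp_id _).symm
            exact congrArg (fun t => CommRingCat.Hom.hom t)
              (Scheme.Hom.stalkMap_comp (⊤ : (Spec A).Opens).ι (Spec.map φ) z))).app (T.X i)).symm
        (hi _)

/-- A pseudo-coherent object of finite relative tor dimension on a chart. -/
theorem chart_props (f : X ⟶ S) [Flat f] {B : CommRingCat.{u}} (j : Spec B ⟶ X) [IsOpenImmersion j]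
    (k : Spec R ⟶ S) [IsOpenImmersion k] (φ₀ : R ⟶ B) (w : j ≫ f = Spec.map φ₀ ≫ k) {K : DCoh.D X}
    (hpc : ∀ m : ℤ, DCoh.IsPseudoCoherentD m K) (htor : DCoh.LocHasFiniteRelTorDim f K) :
    (∀ m : ℤ, DCoh.IsPseudoCoherentD m ((RD j).obj K)) ∧
      DCoh.LocHasFiniteRelTorDim (Spec.map φ₀) ((RD j).obj K) := by
  haveI : Flat (Spec.map φ₀ ≫ k) := w ▸ inferInstance
  haveI : Flat (Spec.map φ₀) := MorphismProperty.of_postcomp (W := @Flat) (W' := @IsOpenImmersion) _ k ‹_› ‹_›
  have hpc' : ∀ m : ℤ, DCoh.IsPseudoCoherentD m ((RD j).obj K) := fun m =>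
    (iff_forall m _).2 fun z => PCAt.restrict j z ((iff_forall m K).1 (hpc m) _)
  refine ⟨hpc', ?_⟩
  let F := DerivedCategory.Q.objPreimage K
  let eF : DCoh.toD X F ≅ K := DerivedCategory.Q.objObjPreimageIso K
  refine RelTor.relTorDim_of_locFiniteTorAmplitude (Spec.map φ₀) hpc' ((rC j).obj F)
    ((RDQ j F).symm ≪≫ (RD j).mapIso eF) fun z => ?_
  obtain ⟨V, a, b, hV, hamp⟩ := RelTor.locFiniteTorAmplitudeD_of_relTorDim f htor F ⟨eF⟩ (j z)
  exact ⟨j ⁻¹ᵁ V, a, b, hV, fun z' hz' => TorRestrict.torAmpAt_restrict f (Spec.map φ₀) j k w F z' (hamp _ hz')⟩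

/-- Pseudo-coherence and finite relative tor dimension from charts. -/
theorem of_charts (f : X ⟶ S) [Flat f] {K : DCoh.D X}
    (h : ∀ x : X, ∃ (R B : CommRingCat.{u}) (j : Spec B ⟶ X) (_ : IsOpenImmersion j) (k : Spec R ⟶ S)
      (_ : IsOpenImmersion k) (φ₀ : R ⟶ B) (z : Spec B), j z = x ∧ j ≫ f = Spec.map φ₀ ≫ k ∧
        (∀ m : ℤ, DCoh.IsPseudoCoherentD m ((RD j).obj K)) ∧
        DCoh.LocHasFiniteRelTorDim (Spec.map φ₀) ((RD j).obj K)) :
    (∀ m : ℤ, DCoh.IsPseudoCoherentD m K) ∧ DCoh.LocHasFiniteRelTorDim f K := by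
  have hpc : ∀ m : ℤ, DCoh.IsPseudoCoherentD m K := fun m => (iff_forall m K).2 fun x => by
    obtain ⟨R, B, j, _, k, _, φ₀, z, hz, w, hj, -⟩ := h x
    exact PCAt.of_restrict hz ((iff_forall m _).1 (hj m) z)
  refine ⟨hpc, ?_⟩
  let F := DerivedCategory.Q.objPreimage K
  let eF : DCoh.toD X F ≅ K := DerivedCategory.Q.objObjPreimageIso K
  refine RelTor.relTorDim_of_locFiniteTorAmplitude f hpc F eF fun x => ?_
  obtain ⟨R, B, j, _, k, _, φ₀, z, hz, w, -, hj⟩ := h x
  obtain ⟨V, a, b, hV, hamp⟩ := RelTor.locFiniteTorAmplitudeD_of_relTorDim _ hj ((rC j).obj F)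
    ⟨(RDQ j F).symm ≪≫ (RD j).mapIso eF⟩ z
  refine ⟨⟨j '' V, j.isOpenEmbedding.isOpenMap _ V.2⟩, a, b, ⟨z, hV, hz⟩, ?_⟩
  rintro _ ⟨z', hz', rfl⟩
  exact RelTorFib.torAmpAt_of_chart f j k φ₀ w F z' (hamp z' hz')

end Groth.Agent.H56.RelPC.RelTorAffine
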