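import Groth.Agent.H56.RelPC.BaseChange
import Groth.Agent.H56.PCSingle.Induct

/-!
Pseudo-coherence of direct images along closed immersions, first part.
-/

set_option autoImplicit false
set_option linter.style.haveILetI false

universe u

open CategoryTheory Limits AlgebraicGeometry TopologicalSpace CategoryTheory.Pretriangulated

namespace Groth.Agent.H56.RelPC

open Groth.Agent.Lib Groth.Agent.Lib.Perfect.Basic Groth.Agent.Lib.Perfect.PseudoCoh
open Groth.Agent.Lib.Perfect.Ascent

attribute [local instance] HasDerivedCategory.standard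

section Exact

variable {X Y : Scheme.{u}} (F : X.Modules ⥤ Y.Modules) [F.Additive] [PreservesFiniteLimits F]
  [PreservesFiniteColimits F]

/-- Homology commutes with an exact functor. -/
noncomputable def homologyFD (K : DCoh.D X) (i : ℤ) :
    DCoh.HD (F.mapDerivedCategory.obj K) i ≅ F.obj (DCoh.HD K i) :=
  let e := DerivedCategory.Q.objObjPreimageIso K
  (DerivedCategory.homologyFunctor Y.Modules i).mapIso
      (F.mapDerivedCategory.mapIso e.symm ≪≫ F.mapDerivedCategoryFactors.app _) ≪≫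
    (DerivedCategory.homologyFunctorFactors Y.Modules i).app _ ≪≫
    ((DerivedCategory.Q.objPreimage K).sc i).mapHomologyIso F ≪≫
    F.mapIso (((DerivedCategory.homologyFunctorFactors X.Modules i).app _).symm ≪≫
      (DerivedCategory.homologyFunctor X.Modules i).mapIso e)

/-- An exact functor preserves `Good`. -/
theorem good_mapDerived {m : ℤ} {K L : DCoh.D X} {f : K ⟶ L} (h : Good m f) :
    Good m (F.mapDerivedCategory.map f) := by
  obtain ⟨C, g, δ, hC⟩ := distinguished_cocone_triangle f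
  refine (good_iff m _ (F.mapDerivedCategory.map_distinguished _ hC)).2 fun i hi => ?_
  exact (F.map_isZero ((good_iff m _ hC).1 h i hi)).of_iso (homologyFD F C i)

/-- An exact functor preserves the bound on the cohomology. -/
theorem isLE_mapDerived {K : DCoh.D X} (b : ℤ) [K.IsLE b] :
    (F.mapDerivedCategory.obj K).IsLE b :=
  (DerivedCategory.isLE_iff _ b).2 fun i hi =>
    (F.map_isZero (DerivedCategory.isZero_of_isLE K b i hi)).of_iso (homologyFD F K i)

/-- The image of a complex. -/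
noncomputable def FDQ (E : CochainComplex X.Modules ℤ) :
    F.mapDerivedCategory.obj (DerivedCategory.Q.obj E) ≅
      DerivedCategory.Q.obj ((F.mapHomologicalComplex _).obj E) :=
  F.mapDerivedCategoryFactors.app E

/-- The image of a module in degree zero. -/
noncomputable def FDinD (M : X.Modules) :
    F.mapDerivedCategory.obj (DCoh.inD X M) ≅ DCoh.inD Y (F.obj M) :=
  (F.mapDerivedCategorySingleFunctor 0).app M

end Exact

section Sum

variable {X : Scheme.{u}}

/-- Splitting off the first summand. -/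
noncomputable def sigmaSucc {C : Type*} [Category C] [Preadditive C]
    {n : ℕ} (f : Fin (n + 1) → C) [HasFiniteCoproducts C] [HasBinaryBiproducts C] :
    ∐ f ≅ f 0 ⊞ ∐ fun j : Fin n => f j.succ where
  hom := Sigma.desc (Fin.cases biprod.inl fun j => Sigma.ι (fun j : Fin n => f j.succ) j ≫ biprod.inr)
  inv := biprod.desc (Sigma.ι f 0) (Sigma.desc fun j => Sigma.ι f j.succ)
  hom_inv_id := by
    refine Sigma.hom_ext _ _ fun j => ?_
    cases j using Fin.cases <;> simp
  inv_hom_id := by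
    refine biprod.hom_ext' _ _ ?_ ?_
    · simp
    · rw [biprod.inr_desc_assoc, Category.comp_id]
      refine Sigma.hom_ext _ _ fun j => ?_
      simp

theorem pcAt_inD_biprod {m : ℤ} {x : X} {A B : X.Modules} (hA : PCAt m (DCoh.inD X A) x)
    (hB : PCAt m (DCoh.inD X B) x) : PCAt m (DCoh.inD X (A ⊞ B)) x := by
  haveI := preservesBinaryBiproducts_of_preservesBiproducts
    (DerivedCategory.singleFunctor X.Modules 0)
  exact (pcAt₂ (inr_fst_distinguished (DCoh.inD X A) (DCoh.inD X B)) hB hA).of_iso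
    ((DerivedCategory.singleFunctor X.Modules 0).mapBiprod A B).symm

theorem pcAt_inD_sigma {m : ℤ} {x : X} : ∀ {n : ℕ} (M : Fin n → X.Modules),
    (∀ j, PCAt m (DCoh.inD X (M j)) x) → PCAt m (DCoh.inD X (∐ M)) x
  | 0, M, _ => PCSingle.pcAt_inD_of_isZero
      ((IsZero.iff_id_eq_zero _).2 (Sigma.hom_ext _ _ fun j => j.elim0)) m x
  | n + 1, M, h => (pcAt_inD_biprod (h 0) (pcAt_inD_sigma (fun j => M j.succ) fun j => h j.succ)).of_iso
      ((DerivedCategory.singleFunctor X.Modules 0).mapIso (sigmaSucc M).symm)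

end Sum

section Push

variable {Z X : Scheme.{u}} (i : Z ⟶ X) [IsClosedImmersion i]

/-- The direct image of the structure module is pseudo-coherent. -/
def PCStr : Prop :=
  ∀ (m : ℤ) (x : X),
    PCAt m (DCoh.inD X ((Scheme.Modules.pushforward i).obj (Coh.structureModule Z))) x

/-- Direct image on derived categories. -/
noncomputable abbrev PD : DCoh.D Z ⥤ DCoh.D X := (Scheme.Modules.pushforward i).mapDerivedCategory

variable (W : X.Opens)

/-- Restriction of a direct image to an open of the target. -/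
noncomputable def restrPD (K : DCoh.D Z) :
    (RD W.ι).obj ((PD i).obj K) ≅ (PD (i ∣_ W)).obj ((RD (i ⁻¹ᵁ W).ι).obj K) :=
  let e := DerivedCategory.Q.objObjPreimageIso K
  let F := DerivedCategory.Q.objPreimage K
  (RD W.ι).mapIso ((PD i).mapIso e.symm ≪≫ FDQ _ F) ≪≫ RDQ W.ι _ ≪≫
    DerivedCategory.Q.mapIso
      ((NatIso.mapHomologicalComplex (pushRestrIso i W) (ComplexShape.up ℤ)).app F) ≪≫
    (FDQ (Scheme.Modules.pushforward (i ∣_ W)) ((rC (i ⁻¹ᵁ W).ι).obj F)).symm ≪≫
    (PD (i ∣_ W)).mapIso ((RDQ (i ⁻¹ᵁ W).ι F).symm ≪≫ (RD (i ⁻¹ᵁ W).ι).mapIso e)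

omit [IsClosedImmersion i] in
theorem PCStr.restrict (h : PCStr i) : PCStr (i ∣_ W) := fun m x =>
  (PCAt.restrict W.ι x (h m _)).of_iso (Perfect.Regular.RDinD W.ι _ ≪≫
    (DerivedCategory.singleFunctor _ 0).mapIso ((pushRestrIso i W).app _ ≪≫
      (Scheme.Modules.pushforward (i ∣_ W)).mapIso
        (Scheme.Modules.restrictUnitIso (i ⁻¹ᵁ W).ι)))

theorem pcAt_push_free (h : PCStr i) (n : ℕ) (m : ℤ) (x : X) :
    PCAt m (DCoh.inD X ((Scheme.Modules.pushforward i).obj (FlatMod.freeMod Z n))) x := by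
  haveI := preservesColimitsOfSize_shrink.{0, u, 0, u} (Scheme.Modules.pushforward i)
  exact (pcAt_inD_sigma (fun _ : Fin n =>
      (Scheme.Modules.pushforward i).obj (Coh.structureModule Z)) fun _ => h m x).of_iso
    ((DerivedCategory.singleFunctor X.Modules 0).mapIso
      (PreservesCoproduct.iso (Scheme.Modules.pushforward i)
        fun _ : Fin n => Coh.structureModule Z).symm)

/-- An open of the target trapping the fibre. -/
theorem exists_nhd (z : Z) (U : Z.Opens) (hz : z ∈ U) :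
    ∃ W : X.Opens, i z ∈ W ∧ i ⁻¹ᵁ W ≤ U := by
  obtain ⟨S, hS, hSU⟩ := i.isEmbedding.isInducing.isOpen_iff.1 U.isOpen
  exact ⟨⟨S, hS⟩, show z ∈ i ⁻¹' S from hSU ▸ hz, fun y hy => (Set.ext_iff.1 hSU y).1 hy⟩

/-- Off the image a direct image is pseudo-coherent. -/
theorem pcAt_PD_of_notMem (K : DCoh.D Z) (m : ℤ) {x : X} (hx : x ∉ Set.range i) :
    PCAt m ((PD i).obj K) x := by
  let W : X.Opens := ⟨(Set.range i)ᶜ, i.isClosedEmbedding.isClosed_range.isOpen_compl⟩
  refine PCAt.of_restrict (j := W.ι) (y := (⟨x, hx⟩ : (W : Scheme.{u}))) rfl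
    (pcAt_of_vanish (fun k _ => ?_) _)
  refine IsZero.of_iso ?_ (Perfect.Coherent.homologyIso W.ι ((PD i).obj K) k ≪≫
    (Scheme.Modules.restrictFunctor W.ι).mapIso (homologyFD _ K k))
  refine Modules.Stalk.isZero_iff_stalk.2 fun y => ?_
  exact (PushClosed.Basic.isZero_stalk_push i _ y.2).of_iso
    ((Modules.Local.restrictStalkIso W.ι y).app _)

theorem pcAt_push_locFree (h : PCStr i) {L : Z.Modules} (hL : FlatMod.IsFinLocFree L) (m : ℤ)
    (x : X) : PCAt m (DCoh.inD X ((Scheme.Modules.pushforward i).obj L)) x := by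
  by_cases hx : x ∈ Set.range i
  · obtain ⟨z, rfl⟩ := hx
    obtain ⟨U, n, hzU, -, ⟨eL⟩⟩ := Modules.Free.exists_free_le hL (W := ⊤) (x := z) trivial
    obtain ⟨W, hW, hWU⟩ := exists_nhd i z U hzU
    refine PCSingle.pcAt_inD_of_restrict W.ι (⟨i z, hW⟩ : (W : Scheme.{u})) ?_
    exact (pcAt_push_free (i ∣_ W) (h.restrict i W) n m _).of_iso
      ((DerivedCategory.singleFunctor _ 0).mapIso
        ((Scheme.Modules.pushforward (i ∣_ W)).mapIso (Modules.Free.freeOfLE hWU eL).symm ≪≫
          ((pushRestrIso i W).app L).symm))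
  · exact (pcAt_PD_of_notMem i (DCoh.inD Z L) m hx).of_iso (FDinD _ L)

theorem pcAt_push_strictlyPerfect (h : PCStr i) {E : CochainComplex Z.Modules ℤ}
    (hE : DCoh.IsStrictlyPerfect E) (m : ℤ) (x : X) :
    PCAt m ((PD i).obj (DerivedCategory.Q.obj E)) x := by
  obtain ⟨⟨a, b, hv⟩, hlf⟩ := hE
  refine (PCSingle.pcAt_of_termwise m x _ b (fun k hk => ?_) fun k => ?_).of_iso
    (FDQ (Scheme.Modules.pushforward i) E).symm
  · exact (Scheme.Modules.pushforward i).map_isZero (hv k (Or.inr hk))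
  · exact pcAt_push_locFree i h (hlf k) _ x

/-- Direct image along a closed immersion with pseudo-coherent structure module preserves
pseudo-coherence. -/
theorem pcAt_push (h : PCStr i) {K : DCoh.D Z} {m : ℤ} (hK : ∀ z, PCAt m K z) (x : X) :
    PCAt m ((PD i).obj K) x := by
  by_cases hx : x ∈ Set.range i
  swap
  · exact pcAt_PD_of_notMem i K m hx
  obtain ⟨z, rfl⟩ := hx
  obtain ⟨U, j, _, y, E, α, hy, hE, hα⟩ := hK z
  obtain ⟨W, hW, hWU⟩ := exists_nhd i z j.opensRange ⟨y, hy⟩
  let v : ((i ⁻¹ᵁ W : Z.Opens) : Scheme.{u}) ⟶ U :=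
    IsOpenImmersion.lift j (i ⁻¹ᵁ W).ι (by
      rw [Scheme.Opens.range_ι]
      exact hWU)
  have hv : v ≫ j = (i ⁻¹ᵁ W).ι := IsOpenImmersion.lift_fac _ _ _
  haveI : IsOpenImmersion (v ≫ j) := by rw [hv]; infer_instance
  haveI : IsOpenImmersion v := IsOpenImmersion.of_comp v j
  let e : (RD v).obj ((RD j).obj K) ≅ (RD (i ⁻¹ᵁ W).ι).obj K :=
    (Perfect.Triangle.RDComp v j K).symm ≪≫ Perfect.Triangle.RDCongr hv K
  let β : DerivedCategory.Q.obj ((rC v).obj E) ⟶ (RD (i ⁻¹ᵁ W).ι).obj K :=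
    (RDQ v E).inv ≫ (RD v).map α ≫ e.hom
  have hβ : Good m β :=
    (Good.of_isIso m _).comp ((good_restrict v hα).comp (Good.of_isIso m _))
  have hP := pcAt_push_strictlyPerfect (i ∣_ W) (h.restrict i W) (isStrictlyPerfect_map v hE) m
    (⟨i z, hW⟩ : (W : Scheme.{u}))
  refine PCAt.of_restrict (j := W.ι) (y := (⟨i z, hW⟩ : (W : Scheme.{u}))) rfl ?_
  obtain ⟨V, k, _, w, E', α', hw, hE', hα'⟩ := hP
  exact ⟨V, k, inferInstance, w, E',
    α' ≫ (RD k).map ((PD (i ∣_ W)).map β ≫ (restrPD i W K).inv), hw, hE',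
    hα'.comp (good_restrict k ((good_mapDerived _ hβ).comp (Good.of_isIso m _)))⟩

end Push

end Groth.Agent.H56.RelPC
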