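import Groth.Agent.H56.RelPC.ChartPush
import Groth.Agent.H54.RelPC

/-!
Relative pseudo-coherence and finite direct images.
-/

set_option autoImplicit false
set_option linter.style.haveILetI false

universe u

open CategoryTheory Limits AlgebraicGeometry TopologicalSpace Opposite

namespace Groth.Agent.H56.RelPC

open Groth.Agent.Lib Groth.Agent.Lib.Perfect.Basic Groth.Agent.Lib.Perfect.PseudoCoh

attribute [local instance] HasDerivedCategory.standard

variable {X Y S : Scheme.{u}} {p : X ⟶ S} {q : Y ⟶ S} [LocallyOfFiniteType p] [LocallyOfFiniteType q]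
  (π : X ⟶ Y) [IsFinite π] [DCoh.HasRpush π]

/-- The test over an affine open of the target. -/
theorem hasTest_push_iff (w : π ≫ q = p) {V : Y.Opens} (hV : IsAffineOpen V) {W : S.Opens}
    (hW : IsAffineOpen W) (hVW : V ≤ q ⁻¹ᵁ W) (hUW : π ⁻¹ᵁ V ≤ p ⁻¹ᵁ W) {m : ℤ} {E : DCoh.D X}
    (hE : DCoh.IsQCohD E) :
    HasTest p (π ⁻¹ᵁ V) W hUW m E ↔ HasTest q V W hVW m ((DCoh.Rpush π).obj E) := by
  subst w
  haveI : PreservesFiniteLimits (tilde.functor Γ(Y, V)) := QCoh.Tilde.tildeFunctor_preservesFiniteLimits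
  haveI : PreservesFiniteLimits (tilde.functor Γ(X, π ⁻¹ᵁ V)) :=
    QCoh.Tilde.tildeFunctor_preservesFiniteLimits
  obtain ⟨M, hM, hM'⟩ := exists_chartModule_Rpush π hV hE
  rw [hM.hasTest_iff hW hUW m, hM'.hasTest_iff hW hVW m]
  letI := (q.appLE W V hVW).hom.toAlgebra
  letI := (π.appLE V (π ⁻¹ᵁ V) le_rfl).hom.toAlgebra
  letI := ((π ≫ q).appLE W (π ⁻¹ᵁ V) hUW).hom.toAlgebra
  haveI : IsScalarTower Γ(S, W) Γ(Y, V) Γ(X, π ⁻¹ᵁ V) := .of_algebraMap_eq' (by
    show ((π ≫ q).appLE W (π ⁻¹ᵁ V) hUW).hom =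
      (π.appLE V (π ⁻¹ᵁ V) le_rfl).hom.comp (q.appLE W V hVW).hom
    rw [← CommRingCat.hom_comp, Scheme.Hom.appLE_comp_appLE])
  haveI : Algebra.FiniteType Γ(S, W) Γ(Y, V) := LocallyOfFiniteType.finiteType_appLE q hW hV hVW
  haveI : Module.Finite Γ(Y, V) Γ(X, π ⁻¹ᵁ V) := by
    have h := π.finite_app V hV
    rw [Scheme.Hom.app_eq_appLE] at h
    exact h
  exact H54.RelPC.rel_finite_iff M m

/-- Relative pseudo-coherence is inherited by and reflected along finite direct images. -/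
theorem isPseudoCoherentRel_push_iff (w : π ≫ q = p) {m : ℤ} {E : DCoh.D X} (hE : DCoh.IsQCohD E) :
    DerSch.IsPseudoCoherentRel p m E ↔ DerSch.IsPseudoCoherentRel q m ((DCoh.Rpush π).obj E) := by
  have hle : ∀ {V : Y.Opens} {W : S.Opens}, V ≤ q ⁻¹ᵁ W → π ⁻¹ᵁ V ≤ p ⁻¹ᵁ W := fun h => by
    subst w
    exact π.preimage_mono h
  constructor
  · intro hK
    refine isPseudoCoherentRel_of_hasTest fun V W hVW => ?_
    exact (hasTest_push_iff π w V.2 W.2 hVW (hle hVW) hE).1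
      (hasTest_of_isPseudoCoherentRel hK (V.2.preimage π) W.2)
  · intro hK
    refine isPseudoCoherentRel_of_hasTest fun U W hUW => ?_
    have hft : (p.appLE (W : S.Opens) (U : X.Opens) hUW).hom.FiniteType :=
      LocallyOfFiniteType.finiteType_appLE p W.2 U.2 hUW
    algebraize [(p.appLE (W : S.Opens) (U : X.Opens) hUW).hom]
    obtain ⟨n, φ, hφ⟩ := Algebra.FiniteType.iff_quotient_mvPolynomial''.1 ‹_›
    refine hasTest_of_locally U.2 (φ := φ.toRingHom) hφ (RingHom.ext fun r => φ.commutes r)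
      fun z hz => ?_
    have hzW : q (π z) ∈ (W : S.Opens) := by
      rw [← Scheme.Hom.comp_apply, w]
      exact hUW hz
    obtain ⟨V, hV, hzV, hVW⟩ := exists_isAffineOpen_mem_and_subset (X := Y) (x := π z)
      (U := q ⁻¹ᵁ (W : S.Opens)) hzW
    have hT := (hasTest_push_iff π w hV W.2 hVW (hle hVW) hE).2
      (hasTest_of_isPseudoCoherentRel hK hV W.2)
    obtain ⟨g, g', hgg, hzg⟩ := exists_basicOpen_le_affine_inter U.2 (hV.preimage π) z
      ⟨hz, (hzV : z ∈ π ⁻¹ᵁ V)⟩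
    have key : ∀ {O : X.Opens} (_ : O = X.basicOpen g) (hb : O ≤ p ⁻¹ᵁ (W : S.Opens)),
        HasTest p O W hb m E →
          HasTest p (X.basicOpen g) W ((X.basicOpen_le g).trans hUW) m E := by
      rintro _ rfl _ h
      exact h
    exact ⟨g, hzg, key hgg.symm _ (hT.basicOpen (hV.preimage π) g')⟩

end Groth.Agent.H56.RelPC
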