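import Groth.Agent.H56.RelPC.PushTilde

/-!
The chart test on an affine open and the ring-level notion.
-/

set_option autoImplicit false
set_option linter.style.haveILetI false

universe u

open CategoryTheory Limits AlgebraicGeometry TopologicalSpace Opposite

namespace Groth.Agent.H56.RelPC

open Groth.Agent.Lib Groth.Agent.Lib.Perfect.Basic Groth.Agent.Lib.Perfect.PseudoCoh
open Groth.Agent.Lib.DR.Basic Groth.Agent.Lib.DR.FiniteComplex Groth.Agent.Lib.DR.PseudoCoherent

attribute [local instance] HasDerivedCategory.standard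

variable {X : Scheme.{u}} {U : X.Opens}

set_option backward.isDefEq.respectTransparency.types false in
/-- The test against pseudo-coherence over the polynomial ring. -/
theorem ringTest_iff_pcn (hU : IsAffineOpen U) {P : Type u} [CommRing P] {φ : P →+* Γ(X, U)}
    (hφ : Function.Surjective φ) (m : ℤ) (H : CochainComplex X.Modules ℤ) (M : Dual.D Γ(X, U))
    [PreservesFiniteLimits (tilde.functor Γ(X, U))]
    (e : (DCoh.tildeD Γ(X, U)).obj M ≅
      DCoh.toD _ ((DerSch.pushCx hU.isoSpec.hom).obj ((DCoh.restrictCx U).obj H))) :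
    RingTest m (DCoh.toD X H) U φ ↔ PCn (ff P) m ((DRing.restrictD φ).obj M) := by
  haveI : PreservesFiniteLimits (tilde.functor (CommRingCat.of P)) :=
    QCoh.Tilde.tildeFunctor_preservesFiniteLimits
  let φ' : CommRingCat.of P ⟶ Γ(X, U) := CommRingCat.ofHom φ
  let c := Spec.map φ'
  haveI : IsClosedImmersion c := IsClosedImmersion.spec_of_surjective _ hφ
  haveI := isClosedImmersion_imm hU hφ
  let ν : Scheme.Modules.pushforward hU.isoSpec.hom ⋙ Scheme.Modules.pushforward c ≅
      Scheme.Modules.pushforward (imm U φ) :=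
    Scheme.Modules.pushforwardComp _ _ ≪≫
      Scheme.Modules.pushforwardCongr (by rw [hU.isoSpec_hom])
  let i : (DCoh.tildeD (CommRingCat.of P)).obj ((DRing.restrictD φ).obj M) ≅
      (GD (imm U φ) U.ι).obj (DCoh.toD X H) :=
    (pushTildeD φ' M).symm ≪≫ (PD c).mapIso e ≪≫
      DR.ExactPush.mapQ (Scheme.Modules.pushforward c) _ ≪≫
      DerivedCategory.Q.mapIso ((NatIso.mapHomologicalComplex
        (Functor.isoWhiskerLeft (Scheme.Modules.restrictFunctor U.ι) ν) _).app H) ≪≫
      (DR.ExactPush.mapQ (G (imm U φ) U.ι) H).symm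
  constructor
  · rintro ⟨_, h⟩
    exact Perfect.TildeD.pcn_of_pcAt (R := CommRingCat.of P) fun x => (h x).of_iso i.symm
  · intro h
    exact ⟨‹_›, fun x => (Perfect.TildeD.pcAt_of_pcn (R := CommRingCat.of P)
      ((DR.TopCohomology.pcn_ff_iff_fproj _ _).1 h) x).of_iso i⟩

/-- Quasi-coherence of the cohomology of the restriction to an affine open. -/
theorem isQCohD_push_restrict (hU : IsAffineOpen U) {K : DCoh.D X} (hK : DCoh.IsQCohD K)
    (H : CochainComplex X.Modules ℤ) (e : DCoh.toD X H ≅ K) :
    DCoh.IsQCohD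
      (DCoh.toD _ ((DerSch.pushCx hU.isoSpec.hom).obj ((DCoh.restrictCx U).obj H))) := fun i => by
  let F := Scheme.Modules.restrictFunctor U.ι ⋙ Scheme.Modules.pushforward hU.isoSpec.hom
  haveI : PreservesFiniteLimits F := comp_preservesFiniteLimits _ _
  haveI : PreservesFiniteColimits F := comp_preservesFiniteColimits _ _
  haveI hi : SheafOfModules.IsQuasicoherent (R := X.ringCatSheaf) (DCoh.HD K i) := hK i
  haveI : SheafOfModules.IsQuasicoherent (R := (U : Scheme.{u}).ringCatSheaf)
      ((Scheme.Modules.restrictFunctor U.ι).obj (DCoh.HD K i)) :=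
    Scheme.Modules.isQuasicoherent_restrictFunctor U.ι _
  exact @CohBasics.Closure.isQCoh_of_iso _ _ _
    ((DerivedCategory.homologyFunctor _ i).mapIso
      (F.mapDerivedCategory.mapIso e.symm ≪≫ DR.ExactPush.mapQ F H) |>.symm.trans
        (homologyFD F K i) |>.symm)
    (QCoh.Pushforward.isQCoh_pushforward hU.isoSpec.hom)

end Groth.Agent.H56.RelPC
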