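import Groth.Prelude.Def_DerSch2
import Groth.Agent.Lib.PushClosed.Basic
import Groth.Agent.Lib.Perfect.PseudoCoh
import Groth.Agent.Lib.Cyc.Dev.Scheme

/-!
The pseudo-coherence test on a chart as a property of an exact functor.
-/

set_option autoImplicit false
set_option linter.style.haveILetI false

universe u

open CategoryTheory Limits AlgebraicGeometry TopologicalSpace

namespace Groth.Agent.H56.RelPC

open Groth.Agent.Lib Groth.Agent.Lib.Perfect.Basic Groth.Agent.Lib.Perfect.PseudoCoh

attribute [local instance] HasDerivedCategory.standard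

variable {X : Scheme.{u}}

set_option backward.isDefEq.respectTransparency.types false in
/-- The immersion of a chart is a closed immersion. -/
theorem isClosedImmersion_chartImm {U : X.Opens} (hU : IsAffineOpen U) {R : Type u} [CommRing R]
    {n : ℕ} {φ : MvPolynomial (Fin n) R →+* Γ(X, U)} (hφ : Function.Surjective φ) :
    IsClosedImmersion (DerSch.chartImm U φ) := by
  have : IsClosedImmersion (Spec.map (CommRingCat.ofHom φ)) :=
    IsClosedImmersion.spec_of_surjective _ hφ
  rw [DerSch.chartImm, ← hU.isoSpec_hom]
  infer_instance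

section

variable {Z Y : Scheme.{u}} (c : Z ⟶ Y) [IsClosedImmersion c]

instance preservesFiniteColimits_push : PreservesFiniteColimits (Scheme.Modules.pushforward c) :=
  PreservesColimits.preservesFiniteColimits _

instance preservesFiniteLimits_push : PreservesFiniteLimits (Scheme.Modules.pushforward c) := by
  haveI : (Scheme.Modules.pushforward c).IsRightAdjoint :=
    (Scheme.Modules.pullbackPushforwardAdjunction c).isRightAdjoint
  infer_instance

variable (j : Z ⟶ X) [IsOpenImmersion j]

/-- Restriction to a chart followed by direct image along its immersion. -/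
noncomputable abbrev G : X.Modules ⥤ Y.Modules :=
  Scheme.Modules.restrictFunctor j ⋙ Scheme.Modules.pushforward c

instance preservesFiniteColimits_G : PreservesFiniteColimits (G c j) :=
  comp_preservesFiniteColimits _ _

instance preservesFiniteLimits_G : PreservesFiniteLimits (G c j) :=
  comp_preservesFiniteLimits _ _

instance additive_G : (G c j).Additive := inferInstance

/-- `G` on derived categories. -/
noncomputable abbrev GD : DCoh.D X ⥤ DCoh.D Y := (G c j).mapDerivedCategory

/-- Homology commutes with `GD`. -/
noncomputable def homologyGD (K : DCoh.D X) (i : ℤ) :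
    DCoh.HD ((GD c j).obj K) i ≅ (G c j).obj (DCoh.HD K i) :=
  let e := DerivedCategory.Q.objObjPreimageIso K
  (DerivedCategory.homologyFunctor Y.Modules i).mapIso
      ((GD c j).mapIso e.symm ≪≫ (G c j).mapDerivedCategoryFactors.app _) ≪≫
    (DerivedCategory.homologyFunctorFactors Y.Modules i).app _ ≪≫
    ((DerivedCategory.Q.objPreimage K).sc i).mapHomologyIso (G c j) ≪≫
    (G c j).mapIso
      (((DerivedCategory.homologyFunctorFactors X.Modules i).app _).symm ≪≫
        (DerivedCategory.homologyFunctor X.Modules i).mapIso e)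

/-- `GD` of a module in degree zero. -/
noncomputable def GDinD (M : X.Modules) :
    (GD c j).obj (DCoh.inD X M) ≅ DCoh.inD Y ((G c j).obj M) :=
  ((G c j).mapDerivedCategorySingleFunctor 0).app M

end

variable {S : Scheme.{u}} {U : X.Opens} {V : S.Opens} {n : ℕ}
  (φ : MvPolynomial (Fin n) Γ(S, V) →+* Γ(X, U)) [IsClosedImmersion (DerSch.chartImm U φ)]

/-- The chart test is pseudo-coherence of `GD`. -/
theorem chartPC_iff (m : ℤ) (K : DCoh.D X) :
    DerSch.ChartPC m K U V φ ↔ ∀ x, PCAt m ((GD (DerSch.chartImm U φ) U.ι).obj K) x := by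
  let c := DerSch.chartImm U φ
  constructor
  · intro h x
    let e := DerivedCategory.Q.objObjPreimageIso K
    exact (((iff_forall _ _).1 (h _ ⟨e⟩)) x).of_iso
      (((G c U.ι).mapDerivedCategoryFactors.app _).symm ≪≫ (GD c U.ι).mapIso e)
  · rintro h H ⟨e⟩
    exact (iff_forall _ _).2 fun x => (h x).of_iso
      ((GD c U.ι).mapIso e.symm ≪≫ (G c U.ι).mapDerivedCategoryFactors.app H)

/-- The chart test for a module in degree zero. -/
theorem chartPC_inD_iff (m : ℤ) (M : X.Modules) :
    DerSch.ChartPC m (DCoh.inD X M) U V φ ↔
      ∀ x, PCAt m (DCoh.inD _ ((G (DerSch.chartImm U φ) U.ι).obj M)) x := by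
  rw [chartPC_iff]
  exact ⟨fun h x => (h x).of_iso (GDinD _ _ M), fun h x => (h x).of_iso (GDinD _ _ M).symm⟩

end Groth.Agent.H56.RelPC
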