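import Groth.Agent.H56.RelPC.ChartModule
import Groth.Agent.Lib.DerivedOX.AffinePushTilde
import Groth.Agent.Lib.DerivedOX.KInjAdj
import Groth.Agent.Lib.DerivedOX.RestrictRpush
import Groth.Agent.Lib.DerivedOX.RightDerived

/-!
The chart module of a direct image along an affine morphism.
-/

set_option autoImplicit false
set_option linter.style.haveILetI false

universe u

open CategoryTheory Limits AlgebraicGeometry TopologicalSpace Opposite

namespace Groth.Agent.H56.RelPC

open Groth.Agent.Lib Groth.Agent.Lib.Perfect.Basic Groth.Agent.Lib.Perfect.PseudoCoh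
open Groth.Agent.Lib.DR.Basic Groth.Agent.Lib.DR.FiniteComplex Groth.Agent.Lib.DR.PseudoCoherent
open Groth.Agent.Lib.DerivedOX

attribute [local instance] HasDerivedCategory.standard

variable {X Y : Scheme.{u}} (f : X ⟶ Y)

/-- Direct image, seen on the charts. -/
noncomputable def chartPushIso {V : Y.Opens} (hV : IsAffineOpen V) (hU : IsAffineOpen (f ⁻¹ᵁ V)) :
    (Scheme.Modules.restrictFunctor (f ⁻¹ᵁ V).ι ⋙ Scheme.Modules.pushforward hU.isoSpec.hom) ⋙
        Scheme.Modules.pushforward (Spec.map (f.appLE V (f ⁻¹ᵁ V) le_rfl)) ≅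
      Scheme.Modules.pushforward f ⋙
        (Scheme.Modules.restrictFunctor V.ι ⋙ Scheme.Modules.pushforward hV.isoSpec.hom) :=
  Functor.associator _ _ _ ≪≫
    Functor.isoWhiskerLeft _ (Scheme.Modules.pushforwardComp _ _ ≪≫
      Scheme.Modules.pushforwardCongr
        (show hU.isoSpec.hom ≫ Spec.map (f.appLE V (f ⁻¹ᵁ V) le_rfl) = (f ∣_ V) ≫ hV.isoSpec.hom by
          rw [← cancel_mono hV.fromSpec, Category.assoc, IsAffineOpen.SpecMap_appLE_fromSpec f hV hU,
            Category.assoc, IsAffineOpen.isoSpec_hom_fromSpec,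
            IsAffineOpen.isoSpec_hom_fromSpec_assoc, morphismRestrict_ι]) ≪≫
      (Scheme.Modules.pushforwardComp _ _).symm) ≪≫
    (Functor.associator _ _ _).symm ≪≫
    Functor.isoWhiskerRight (RestrictRpush.pushRestrictIso f V).symm _ ≪≫
    Functor.associator _ _ _

set_option backward.isDefEq.respectTransparency.types false in
/-- The module of `Rf_*K` on an affine open is the module of `K` on its preimage, with scalars restricted. -/
theorem exists_chartModule_Rpush [IsAffineHom f] [DCoh.HasRpush f] {V : Y.Opens}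
    (hV : IsAffineOpen V) [PreservesFiniteLimits (tilde.functor Γ(Y, V))]
    [PreservesFiniteLimits (tilde.functor Γ(X, f ⁻¹ᵁ V))] {K : DCoh.D X} (hK : DCoh.IsQCohD K) :
    ∃ M, IsChartModule (hV.preimage f) K M ∧
      IsChartModule hV ((DCoh.Rpush f).obj K)
        ((DRing.restrictD (f.appLE V (f ⁻¹ᵁ V) le_rfl).hom).obj M) := by
  let U := f ⁻¹ᵁ V
  have hU : IsAffineOpen U := hV.preimage f
  obtain ⟨I, i, hI, hi⟩ := DerCat.KInjExists.hasKInjRes (DerivedCategory.Q.objPreimage K)
  haveI := hI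
  haveI := hi
  let eI : DCoh.toD X I ≅ K := (asIso (DerivedCategory.Q.map i)).symm ≪≫ DerivedCategory.Q.objObjPreimageIso K
  let J := (DerSch.pushCx hU.isoSpec.hom).obj ((DCoh.restrictCx U).obj I)
  haveI : J.IsKInjective :=
    KInjAdj.isKInjective_pushforward hU.isoSpec.hom (RestrictKInj.isKInjective_restrict U hI)
  obtain ⟨M, ⟨eM⟩⟩ := ((Groth.Agent.S0997.result Γ(X, U)).2.2 _).1 (isQCohD_push_restrict hU hK I eI)
  refine ⟨M, ⟨I, ⟨eI⟩, ⟨eM⟩⟩, ((Scheme.Modules.pushforward f).mapHomologicalComplex _).obj I, ?_, ?_⟩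
  · haveI := RightDerived.isIso_totalRightDerivedUnit_app_of_isKInjective (DCoh.pushKh f) I
    exact ⟨((DerivedCategory.quotientCompQhIso Y.Modules).symm.app _) ≪≫
      DerivedCategory.Qh.mapIso (((Scheme.Modules.pushforward f).mapHomotopyCategoryFactors
        (ComplexShape.up ℤ)).symm.app I) ≪≫
      asIso (((DCoh.pushKh f).totalRightDerivedUnit DerivedCategory.Qh
        (HomotopyCategory.quasiIso X.Modules (ComplexShape.up ℤ))).app
          ((HomotopyCategory.quotient X.Modules (ComplexShape.up ℤ)).obj I)) ≪≫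
      (DCoh.Rpush f).mapIso ((DerivedCategory.quotientCompQhIso X.Modules).app I ≪≫ eI)⟩
  · let φ := f.appLE V U le_rfl
    let C := DerivedCategory.Q.objPreimage M
    let eC : DerivedCategory.Q.obj C ≅ M := DerivedCategory.Q.objObjPreimageIso M
    let T := ((tilde.functor Γ(X, U)).mapHomologicalComplex (ComplexShape.up ℤ)).obj C
    let eT : DerivedCategory.Q.obj T ≅ DerivedCategory.Q.obj J :=
      (DR.ExactPush.mapQ (tilde.functor Γ(X, U)) C).symm ≪≫ (DCoh.tildeD Γ(X, U)).mapIso eC ≪≫ eM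
    obtain ⟨j, hj⟩ := TildeEquiv.exists_map_of_kinj eT.hom
    haveI : QuasiIso j := (DerivedCategory.isIso_Q_map_iff_quasiIso _ j).1 (hj ▸ inferInstance)
    have hq := AffinePush.quasiIso_push (Spec.map φ) j
      fun n => QCoh.Tilde.isQCoh_tildeFunctor_obj (R := Γ(X, U)) (C.X n)
    have hiso : IsIso (DerivedCategory.Q.map
        (((Scheme.Modules.pushforward (Spec.map φ)).mapHomologicalComplex (ComplexShape.up ℤ)).map j)) :=
      (DerivedCategory.isIso_Q_map_iff_quasiIso _ _).2 hq
    exact ⟨(DCoh.tildeD Γ(Y, V)).mapIso ((DRing.restrictD φ.hom).mapIso eC.symm ≪≫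
        DR.ExactPush.mapQ (ModuleCat.restrictScalars.{u} φ.hom) C) ≪≫
      DR.ExactPush.mapQ (tilde.functor Γ(Y, V)) _ ≪≫
      DerivedCategory.Q.mapIso ((NatIso.mapHomologicalComplex
        (AffinePush.pushTildeIso φ).symm (ComplexShape.up ℤ)).app C) ≪≫
      @asIso _ _ _ _ (DerivedCategory.Q.map
        (((Scheme.Modules.pushforward (Spec.map φ)).mapHomologicalComplex (ComplexShape.up ℤ)).map j)) hiso ≪≫
      DerivedCategory.Q.mapIso ((NatIso.mapHomologicalComplex (chartPushIso f hV hU)
        (ComplexShape.up ℤ)).app I)⟩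

end Groth.Agent.H56.RelPC
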