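import Groth.Agent.H56.RelPC.Test
import Mathlib.RingTheory.MvPolynomial.Localization

/-!
Charts on all affine pairs: localization on the source and on the base, and gluing.
-/

set_option autoImplicit false
set_option linter.style.haveILetI false

universe u

open CategoryTheory Limits AlgebraicGeometry TopologicalSpace

namespace Groth.Agent.H56.RelPC

open Groth.Agent.Lib Groth.Agent.Lib.Perfect.Basic Groth.Agent.Lib.Perfect.PseudoCoh

attribute [local instance] HasDerivedCategory.standard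

variable {X S : Scheme.{u}} {f : X ⟶ S} {U : X.Opens} {V : S.Opens} {h : U ≤ f ⁻¹ᵁ V} {m : ℤ}
  {K : DCoh.D X}

/-- A presentation of `Γ(X, U)` over `Γ(S, V)` on which the test holds. -/
def HasTest (f : X ⟶ S) (U : X.Opens) (V : S.Opens) (h : U ≤ f ⁻¹ᵁ V) (m : ℤ) (K : DCoh.D X) :
    Prop :=
  ∃ (ι : Type) (_ : Finite ι) (φ : MvPolynomial ι Γ(S, V) →+* Γ(X, U)), Function.Surjective φ ∧
    φ.comp MvPolynomial.C = (f.appLE V U h).hom ∧ RingTest m K U φ

theorem hasTest_of_chart (hU : IsAffineOpen U) {n : ℕ}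
    {φ : MvPolynomial (Fin n) Γ(S, V) →+* Γ(X, U)} (hφ : DerSch.IsChart f U V h φ)
    (hE : DerSch.ChartPC m K U V φ) : HasTest f U V h m K :=
  ⟨_, inferInstance, φ, hφ.1, hφ.2, (ringTest_iff_chartPC hU hφ.1 m K).1 hE⟩

theorem HasTest.ringTest (hT : HasTest f U V h m K) (hU : IsAffineOpen U) {ι : Type} [Finite ι]
    {φ : MvPolynomial ι Γ(S, V) →+* Γ(X, U)} (hφ : Function.Surjective φ)
    (hC : φ.comp MvPolynomial.C = (f.appLE V U h).hom) : RingTest m K U φ := by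
  obtain ⟨κ, _, ψ, hψ, hψC, hT⟩ := hT
  exact (ringTest_indep hU m K hψ hφ (hψC.trans hC.symm)).1 hT

theorem HasTest.exists_chart (hT : HasTest f U V h m K) (hU : IsAffineOpen U) :
    ∃ (n : ℕ) (φ : MvPolynomial (Fin n) Γ(S, V) →+* Γ(X, U)),
      DerSch.IsChart f U V h φ ∧ DerSch.ChartPC m K U V φ := by
  obtain ⟨ι, _, ψ, hψ, hψC, hT'⟩ := id hT
  obtain ⟨n, ⟨e⟩⟩ := Finite.exists_equiv_fin ι
  let φ : MvPolynomial (Fin n) Γ(S, V) →+* Γ(X, U) :=
    ψ.comp (MvPolynomial.renameEquiv _ e.symm).toRingEquiv.toRingHom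
  have hφ : Function.Surjective φ :=
    hψ.comp (MvPolynomial.renameEquiv Γ(S, V) e.symm).surjective
  have hC : φ.comp MvPolynomial.C = (f.appLE V U h).hom := by
    rw [← hψC]
    ext r
    simp [φ]
  exact ⟨n, φ, ⟨hφ, hC⟩, (ringTest_iff_chartPC hU hφ m K).2 (hT.ringTest hU hφ hC)⟩

theorem exists_chart_iff (hU : IsAffineOpen U) :
    (∃ (n : ℕ) (φ : MvPolynomial (Fin n) Γ(S, V) →+* Γ(X, U)),
      DerSch.IsChart f U V h φ ∧ DerSch.ChartPC m K U V φ) ↔ HasTest f U V h m K :=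
  ⟨fun ⟨_, _, hφ, hE⟩ => hasTest_of_chart hU hφ hE, fun hT => hT.exists_chart hU⟩

/-- A presentation of the sections over a basic open. -/
theorem exists_basicOpen_data (hU : IsAffineOpen U) {ι : Type} [Finite ι] {R : Type u} [CommRing R]
    {φ : MvPolynomial ι R →+* Γ(X, U)} (hφ : Function.Surjective φ) (g : Γ(X, U))
    {a : MvPolynomial ι R} (ha : φ a = g) (m : ℤ) (K : DCoh.D X) :
    ∃ φ' : MvPolynomial (Option ι) R →+* Γ(X, X.basicOpen g), Function.Surjective φ' ∧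
      φ'.comp MvPolynomial.C =
        (X.presheaf.map (homOfLE (X.basicOpen_le g)).op).hom.comp (φ.comp MvPolynomial.C) ∧
      (haveI := isClosedImmersion_imm hU hφ
       RingTest m K (X.basicOpen g) φ' ↔
        ∀ x ∈ PrimeSpectrum.basicOpen a, PCAt m ((GD (imm U φ) U.ι).obj K) x) := by
  let L := Localization.Away a
  let res := (X.presheaf.map (homOfLE (X.basicOpen_le g)).op).hom
  letI := hU.isLocalization_basicOpen g
  have hres : algebraMap Γ(X, U) Γ(X, X.basicOpen g) = res := rfl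
  have hu : IsUnit (res.comp φ a) := by
    rw [RingHom.comp_apply, ha]
    exact IsLocalization.Away.algebraMap_isUnit g
  let φL : L →+* Γ(X, X.basicOpen g) := IsLocalization.Away.lift a hu
  have hφL : φL.comp (algebraMap _ L) = res.comp φ := IsLocalization.Away.lift_comp a hu
  have hsurj : Function.Surjective φL := fun y => by
    obtain ⟨⟨b, ⟨_, k, rfl⟩⟩, hb⟩ := IsLocalization.surj (Submonoid.powers g) y
    obtain ⟨b', rfl⟩ := hφ b
    refine ⟨IsLocalization.mk' L b' (⟨a ^ k, k, rfl⟩ : Submonoid.powers a), ?_⟩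
    refine ((IsLocalization.Away.algebraMap_isUnit (S := Γ(X, X.basicOpen g)) g).pow k).mul_left_injective ?_
    have h1 := congrArg φL (IsLocalization.mk'_spec L b' (⟨a ^ k, k, rfl⟩ : Submonoid.powers a))
    rw [map_mul, ← RingHom.comp_apply, ← RingHom.comp_apply φL, hφL] at h1
    simp only [RingHom.comp_apply, map_pow, ha] at h1
    simp only [map_pow] at hb ⊢
    exact h1.trans hb.symm
  let π : MvPolynomial (Option ι) R →+* L := (Polynomial.aeval (IsLocalization.Away.invSelf a : L)).toRingHom.comp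
    (MvPolynomial.optionEquivLeft R ι).toRingEquiv.toRingHom
  have hπ : PCRing π := (pcRing_away (B := L) a).comp_equiv (MvPolynomial.optionEquivLeft R ι).toRingEquiv
  refine ⟨φL.comp π, hsurj.comp hπ.surjective, ?_, ?_⟩
  · ext r
    have := RingHom.congr_fun hφL (MvPolynomial.C r)
    simpa [π, res] using this
  · rw [ringTest_comp (hU.basicOpen g) m K hsurj hπ rfl]
    exact ringTest_away hU m K a hφ (hU.basicOpen g) (X.basicOpen_le g) (by rw [ha]) hsurj hφL

/-- Localization on the source. -/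
theorem HasTest.basicOpen (hT : HasTest f U V h m K) (hU : IsAffineOpen U) (g : Γ(X, U)) :
    HasTest f (X.basicOpen g) V ((X.basicOpen_le g).trans h) m K := by
  obtain ⟨ι, _, φ, hφ, hC, hT'⟩ := id hT
  obtain ⟨a, ha⟩ := hφ g
  obtain ⟨φ', h1, h2, h3⟩ := exists_basicOpen_data hU hφ g ha m K
  refine ⟨Option ι, inferInstance, φ', h1, ?_, h3.2 fun x _ => hT'.2 x⟩
  rw [h2, hC, ← CommRingCat.hom_comp, Scheme.Hom.appLE_map]

/-- Gluing on the source. -/
theorem hasTest_of_locally (hU : IsAffineOpen U) {ι : Type} [Finite ι]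
    {φ : MvPolynomial ι Γ(S, V) →+* Γ(X, U)} (hφ : Function.Surjective φ)
    (hC : φ.comp MvPolynomial.C = (f.appLE V U h).hom)
    (H : ∀ z ∈ U, ∃ g : Γ(X, U), z ∈ X.basicOpen g ∧
      HasTest f (X.basicOpen g) V ((X.basicOpen_le g).trans h) m K) :
    HasTest f U V h m K := by
  haveI := isClosedImmersion_imm hU hφ
  refine ⟨ι, inferInstance, φ, hφ, hC, this, fun x => ?_⟩
  by_cases hx : x ∈ Set.range (imm U φ)
  swap
  · exact pcAt_GD_of_notMem m K hx
  obtain ⟨⟨z, hz⟩, rfl⟩ := hx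
  obtain ⟨g, hzg, hT⟩ := H z hz
  obtain ⟨a, ha⟩ := hφ g
  obtain ⟨φ', h1, h2, h3⟩ := exists_basicOpen_data hU hφ g ha m K
  have hC' : φ'.comp MvPolynomial.C = (f.appLE V (X.basicOpen g) ((X.basicOpen_le g).trans h)).hom := by
    rw [h2, hC, ← CommRingCat.hom_comp, Scheme.Hom.appLE_map]
  refine h3.1 (hT.ringTest (hU.basicOpen g) h1 hC') _ ?_
  subst ha
  have e : imm U φ ⁻¹ᵁ PrimeSpectrum.basicOpen a = U.ι ⁻¹ᵁ X.basicOpen (φ a) :=
    (congrArg (fun O => U.toSpecΓ ⁻¹ᵁ O) (PrimeSpectrum.comap_basicOpen φ a)).trans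
      (Scheme.Opens.toSpecΓ_preimage_basicOpen U (φ a))
  exact e.ge (show (⟨z, hz⟩ : (U : Scheme.{u})) ∈ U.ι ⁻¹ᵁ X.basicOpen (φ a) from hzg)

/-- From a basic open of the base to the base. -/
theorem HasTest.of_base (hV : IsAffineOpen V) (hU : IsAffineOpen U) (r : Γ(S, V))
    (hr : U ≤ f ⁻¹ᵁ S.basicOpen r) (hT : HasTest f U (S.basicOpen r) hr m K) :
    HasTest f U V h m K := by
  obtain ⟨ι, _, φ, hφ, hC, hT'⟩ := hT
  letI := hV.isLocalization_basicOpen r
  letI : Algebra (MvPolynomial ι Γ(S, V)) (MvPolynomial ι Γ(S, S.basicOpen r)) :=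
    MvPolynomial.algebraMvPolynomial
  haveI hL := MvPolynomial.isLocalization (σ := ι) (Submonoid.powers r) Γ(S, S.basicOpen r)
  haveI : IsLocalization.Away (MvPolynomial.C r : MvPolynomial ι Γ(S, V))
      (MvPolynomial ι Γ(S, S.basicOpen r)) := by
    rw [Submonoid.map_powers] at hL
    exact hL
  let π : MvPolynomial (Option ι) Γ(S, V) →+* MvPolynomial ι Γ(S, S.basicOpen r) :=
    (Polynomial.aeval (IsLocalization.Away.invSelf (MvPolynomial.C r : MvPolynomial ι Γ(S, V)) :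
      MvPolynomial ι Γ(S, S.basicOpen r))).toRingHom.comp
      (MvPolynomial.optionEquivLeft Γ(S, V) ι).toRingEquiv.toRingHom
  have hπ : PCRing π := (pcRing_away (B := MvPolynomial ι Γ(S, S.basicOpen r))
    (MvPolynomial.C r : MvPolynomial ι Γ(S, V))).comp_equiv (MvPolynomial.optionEquivLeft Γ(S, V) ι).toRingEquiv
  refine ⟨Option ι, inferInstance, φ.comp π, hφ.comp hπ.surjective, ?_,
    (ringTest_comp hU m K hφ hπ rfl).2 hT'⟩
  have e : (f.appLE V U h).hom =
      (f.appLE (S.basicOpen r) U hr).hom.comp (S.presheaf.map (homOfLE (S.basicOpen_le r)).op).hom := by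
    rw [← CommRingCat.hom_comp, Scheme.Hom.map_appLE]
  rw [e, ← hC]
  ext x
  simp only [π, RingHom.comp_apply, RingEquiv.toRingHom_eq_coe, RingEquiv.coe_toRingHom,
    AlgHom.toRingHom_eq_coe, RingHom.coe_coe, AlgEquiv.coe_ringEquiv,
    AlgEquiv.toRingEquiv_eq_coe, MvPolynomial.optionEquivLeft_C, Polynomial.aeval_C,
    MvPolynomial.algebraMap_def, MvPolynomial.map_C]
  rfl

/-- From the base to a basic open of the base. -/
theorem HasTest.to_base (hT : HasTest f U V h m K) (hV : IsAffineOpen V) (hU : IsAffineOpen U)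
    (r : Γ(S, V)) (hr : U ≤ f ⁻¹ᵁ S.basicOpen r) : HasTest f U (S.basicOpen r) hr m K := by
  obtain ⟨ι, _, φ, hφ, hC, hT'⟩ := hT
  letI := hV.isLocalization_basicOpen r
  letI : Algebra (MvPolynomial ι Γ(S, V)) (MvPolynomial ι Γ(S, S.basicOpen r)) :=
    MvPolynomial.algebraMvPolynomial
  haveI hL := MvPolynomial.isLocalization (σ := ι) (Submonoid.powers r) Γ(S, S.basicOpen r)
  haveI : IsLocalization.Away (MvPolynomial.C r : MvPolynomial ι Γ(S, V))
      (MvPolynomial ι Γ(S, S.basicOpen r)) := by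
    rw [Submonoid.map_powers] at hL
    exact hL
  let φ' : MvPolynomial ι Γ(S, S.basicOpen r) →+* Γ(X, U) :=
    MvPolynomial.eval₂Hom (f.appLE (S.basicOpen r) U hr).hom fun i => φ (MvPolynomial.X i)
  have hcomp : φ'.comp (algebraMap (MvPolynomial ι Γ(S, V)) _) = φ := by
    refine MvPolynomial.ringHom_ext (fun x => ?_) fun i => ?_
    · have hx := RingHom.congr_fun hC x
      simp only [RingHom.comp_apply] at hx
      rw [hx, ← Scheme.Hom.map_appLE f hr (homOfLE (S.basicOpen_le r)).op]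
      simp only [φ', RingHom.comp_apply, MvPolynomial.algebraMap_def, MvPolynomial.map_C,
        MvPolynomial.eval₂Hom_C, CommRingCat.comp_apply]
      rfl
    · simp only [φ', RingHom.comp_apply, MvPolynomial.algebraMap_def, MvPolynomial.map_X,
        MvPolynomial.eval₂Hom_X']
  have hφ' : Function.Surjective φ' :=
    Function.Surjective.of_comp (f := φ') (g := algebraMap (MvPolynomial ι Γ(S, V)) _)
      (by rw [← RingHom.coe_comp, hcomp]; exact hφ)
  refine ⟨ι, inferInstance, φ', hφ', by ext x; simp [φ'], ?_⟩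
  refine (ringTest_away hU m K (MvPolynomial.C r : MvPolynomial ι Γ(S, V)) hφ hU le_rfl ?_ hφ'
    (hcomp.trans ?_)).2 fun x _ => hT'.2 x
  · rw [show φ (MvPolynomial.C r) = (f.appLE V U h).hom r from RingHom.congr_fun hC r,
      Scheme.basicOpen_appLE]
    exact (inf_eq_left.2 hr).symm
  · rw [show homOfLE (le_refl U) = 𝟙 U from rfl]
    simp

/-- The test holds for every pair of affine opens. -/
theorem hasTest_of_isPseudoCoherentRel (hK : DerSch.IsPseudoCoherentRel f m K)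
    (hU : IsAffineOpen U) (hV : IsAffineOpen V) : HasTest f U V h m K := by
  obtain ⟨_, 𝒱, h𝒱, hc⟩ := hK
  have hft : (f.appLE V U h).hom.FiniteType :=
    LocallyOfFiniteType.finiteType_appLE f hV hU h
  algebraize [(f.appLE V U h).hom]
  obtain ⟨n, φ, hφ⟩ := Algebra.FiniteType.iff_quotient_mvPolynomial''.1 ‹_›
  refine hasTest_of_locally hU (φ := φ.toRingHom) hφ (RingHom.ext fun r => φ.commutes r) fun z hz => ?_
  have hfz : f z ∈ ⨆ W ∈ 𝒱, (W : S.Opens) := h𝒱.ge trivial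
  simp only [TopologicalSpace.Opens.mem_iSup] at hfz
  obtain ⟨V', hV', hzV'⟩ := hfz
  obtain ⟨𝒰, h𝒰, hchart⟩ := hc V' hV'
  have hz' : z ∈ ⨆ W ∈ 𝒰, (W : X.Opens) := h𝒰.ge hzV'
  simp only [TopologicalSpace.Opens.mem_iSup] at hz'
  obtain ⟨U', hU', hzU'⟩ := hz'
  have hle' : (U' : X.Opens) ≤ f ⁻¹ᵁ (V' : S.Opens) :=
    h𝒰 ▸ le_iSup₂ (f := fun (W : X.affineOpens) (_ : W ∈ 𝒰) => (W : X.Opens)) U' hU'
  obtain ⟨n', φ', hφ', hE'⟩ := hchart U' hU' hle'
  have hT := hasTest_of_chart U'.2 hφ' hE'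
  obtain ⟨r, r', hrr, hzr⟩ := exists_basicOpen_le_affine_inter hV V'.2 (f z) ⟨h hz, hzV'⟩
  obtain ⟨g₀, hg₀, hzg₀⟩ := hU.exists_basicOpen_le (V := (U' : X.Opens) ⊓ f ⁻¹ᵁ S.basicOpen r)
    ⟨z, ⟨hzU', hzr⟩⟩ hz
  obtain ⟨g, g', hgg, hzg⟩ := exists_basicOpen_le_affine_inter (hU.basicOpen g₀) U'.2 z ⟨hzg₀, hzU'⟩
  obtain ⟨g₁, hg₁⟩ := hU.basicOpen_basicOpen_is_basicOpen g₀ g
  refine ⟨g₁, hg₁ ▸ hzg, ?_⟩
  have hb : X.basicOpen g' ≤ f ⁻¹ᵁ S.basicOpen r :=
    (hgg ▸ X.basicOpen_le g).trans (hg₀.trans inf_le_right)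
  have hT' : HasTest f (X.basicOpen g') (S.basicOpen r') (hrr ▸ hb) m K :=
    (hT.basicOpen U'.2 g').to_base V'.2 (U'.2.basicOpen g') r' _
  have key : ∀ {W : S.Opens} (_ : W = S.basicOpen r) (hb' : X.basicOpen g' ≤ f ⁻¹ᵁ W),
      HasTest f (X.basicOpen g') W hb' m K → HasTest f (X.basicOpen g') (S.basicOpen r) hb m K := by
    rintro W rfl hb' hW
    exact hW
  have hT'' := (key hrr.symm _ hT').of_base (h := hb.trans (f.preimage_mono (S.basicOpen_le r))) hV
    (U'.2.basicOpen g') r hb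
  have key' : ∀ {W : X.Opens} (_ : W = X.basicOpen g₁) (hb' : W ≤ f ⁻¹ᵁ V),
      HasTest f W V hb' m K → HasTest f (X.basicOpen g₁) V ((X.basicOpen_le g₁).trans h) m K := by
    rintro W rfl hb' hW
    exact hW
  exact key' (hgg.symm.trans hg₁.symm) _ hT''

theorem isPseudoCoherentRel_of_hasTest [LocallyOfFiniteType f]
    (H : ∀ (U : X.affineOpens) (V : S.affineOpens) (h : (U : X.Opens) ≤ f ⁻¹ᵁ (V : S.Opens)),
      HasTest f (U : X.Opens) (V : S.Opens) h m K) : DerSch.IsPseudoCoherentRel f m K := by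
  refine ⟨‹_›, Set.univ, eq_top_iff.2 fun s _ => ?_, fun V _ =>
    ⟨{U | (U : X.Opens) ≤ f ⁻¹ᵁ (V : S.Opens)}, le_antisymm (iSup₂_le fun _ hU => hU) fun z hz => ?_,
      fun U _ hUV => (H U V hUV).exists_chart U.2⟩⟩
  · simp only [TopologicalSpace.Opens.mem_iSup]
    obtain ⟨W, hW, hsW, -⟩ := exists_isAffineOpen_mem_and_subset (X := S) (x := s) (U := ⊤) trivial
    exact ⟨⟨W, hW⟩, trivial, hsW⟩
  · simp only [TopologicalSpace.Opens.mem_iSup]
    obtain ⟨W, hW, hzW, hWV⟩ := exists_isAffineOpen_mem_and_subset (X := X) (x := z)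
      (U := f ⁻¹ᵁ (V : S.Opens)) hz
    exact ⟨⟨W, hW⟩, hWV, hzW⟩

theorem isPseudoCoherentRel_iff [LocallyOfFiniteType f] :
    DerSch.IsPseudoCoherentRel f m K ↔
      ∀ (U : X.affineOpens) (V : S.affineOpens) (h : (U : X.Opens) ≤ f ⁻¹ᵁ (V : S.Opens)),
        HasTest f (U : X.Opens) (V : S.Opens) h m K :=
  ⟨fun hK U V _ => hasTest_of_isPseudoCoherentRel hK U.2 V.2, isPseudoCoherentRel_of_hasTest⟩

end Groth.Agent.H56.RelPC
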