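import Groth.Agent.H56.RelPC.FibTorRing
import Groth.Agent.Lib.DR.LTensorModule

/-!
Tor amplitude of a localized pseudo-coherent complex from the cohomology of its fibre.
-/

set_option autoImplicit false
set_option linter.style.haveILetI false

universe u

open CategoryTheory Limits HomologicalComplex
open scoped TensorProduct

attribute [local instance] HasDerivedCategory.standard

namespace Groth.Agent.H56.RelPC.FibBdd

open Groth.Agent.Lib Groth.Agent.Lib.DR Groth.Agent.Lib.DR.Basic Groth.Agent.Lib.DR.FiniteComplex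
  Groth.Agent.Lib.DR.PseudoCoherent Groth.Agent.Lib.DR.BaseChange Groth.Agent.Lib.DR.TorAmp
  Groth.Agent.Lib.DR.Representative
open Groth.Agent.Lib.DerivedOX KFlatBaseChange
open Groth.Agent.Lib.BettiExact TorTensor
open Groth.Agent.H56.RelPC.FibTorRing (eta eta_d eta_smul eta_surjective eta_eq_zero)

/-- An exact fibre in a degree, in terms of elements. -/
theorem exists_of_exactAt {S : Type u} [CommRing S] (m : Ideal S) (C : DRing.Cx S) (j : ℤ)
    (h : ((tens (ModuleCat.of S (S ⧸ m))).obj C).ExactAt j) (z : C.X j)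
    (hz : C.d j (j + 1) z ∈ m • (⊤ : Submodule S (C.X (j + 1)))) :
    ∃ u : C.X (j - 1), z - C.d (j - 1) j u ∈ m • (⊤ : Submodule S (C.X j)) := by
  rw [HomologicalComplex.exactAt_iff' _ (j - 1) j (j + 1) (by simp) (by simp),
    ShortComplex.ShortExact.moduleCat_exact_iff_function_exact] at h
  have hmem : ∀ (t : ℤ) (v : C.X t),
      v ∈ m • (⊤ : Submodule S (C.X t)) ↔ v ⊗ₜ[S] (1 : S ⧸ m) = 0 := fun t v => by
    rw [← (TensorProduct.comm S (C.X t) (S ⧸ m)).map_eq_zero_iff, TensorProduct.comm_tmul,
      ← LinearMap.ker_tensorProductMk]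
    rfl
  obtain ⟨w, hw⟩ := (h (z ⊗ₜ[S] (1 : S ⧸ m))).1 ((hmem _ _).1 hz)
  obtain ⟨u, hu⟩ := TensorProduct.mk_surjective S (C.X (j - 1)) (S ⧸ m) Ideal.Quotient.mk_surjective
    (TensorProduct.comm S (C.X (j - 1)) (S ⧸ m) w)
  have hu' : u ⊗ₜ[S] (1 : S ⧸ m) = w := by
    apply (TensorProduct.comm S (C.X (j - 1)) (S ⧸ m)).injective
    rw [TensorProduct.comm_tmul]
    exact hu
  refine ⟨u, (hmem _ _).2 ?_⟩
  rw [TensorProduct.sub_tmul, sub_eq_zero, ← hw, ← hu']
  rfl

/-- Multiples by an extended ideal after restriction. -/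
theorem mem_res_iff {R A : Type u} [CommRing R] [CommRing A] (φ : R →+* A) (I : Ideal R)
    (M : ModuleCat.{u} A) (v : M) :
    (show (resF φ).obj M from v) ∈ I • (⊤ : Submodule R ((resF φ).obj M)) ↔
      v ∈ I.map φ • (⊤ : Submodule A M) := by
  letI := φ.toAlgebra
  letI : Module R M := Module.compHom M φ
  haveI : IsScalarTower R A M := IsScalarTower.of_algebraMap_smul fun _ _ => rfl
  rw [show φ = algebraMap R A from rfl, ← Submodule.restrictScalars_mem R (I.map (algebraMap R A) • ⊤),
    Ideal.smul_restrictScalars, Submodule.restrictScalars_top]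
  rfl

/-- Nakayama for the bound of a pseudo-coherent complex. -/
theorem isLE_of_fibre {B : Type u} [CommRing B] [IsLocalRing B] (J : Ideal B)
    (hJ : J ≤ IsLocalRing.maximalIdeal B) (F : DRing.Cx B) {b c : ℤ} (hff : ∀ i, ff B (F.X i))
    (hc : ∀ i, c < i → IsZero (F.X i))
    (hex : ∀ j, b < j → ∀ w : F.X j, F.d j (j + 1) w ∈ J • (⊤ : Submodule B (F.X (j + 1))) →
      ∃ u : F.X (j - 1), w - F.d (j - 1) j u ∈ J • (⊤ : Submodule B (F.X j))) :
    (DerivedCategory.Q.obj F).IsLE b := by
  let π := Ideal.Quotient.mk J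
  have hπ : Function.Surjective π := Ideal.Quotient.mk_surjective
  haveI := BaseChangeU.hasLBaseChange π
  have hpcn : PCn (fproj B) b (DerivedCategory.Q.obj F) :=
    (TopCohomology.pcn_ff_iff_fproj _ _).1 (BA.pcn good_ff ⟨F, hc, hff, ⟨Iso.refl _⟩⟩ b)
  have hvan : ∀ j, b < j → IsZero ((DerivedCategory.homologyFunctor _ j).obj
      ((DRing.LBaseChange π).obj (DerivedCategory.Q.obj F))) := by
    intro j hj
    refine IsZero.of_iso ?_ ((DerivedCategory.homologyFunctor _ j).mapIso
      (bcFlat π F c hc fun i => flat_of_free _ (hff i).2) ≪≫ homologyQIso _ j)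
    rw [← HomologicalComplex.exactAt_iff_isZero_homology,
      HomologicalComplex.exactAt_iff' _ (j - 1) j (j + 1) (by simp) (by simp),
      ShortComplex.ShortExact.moduleCat_exact_iff_function_exact]
    intro z
    change ((extC π).obj F).X j at z
    refine ⟨fun hz => ?_, ?_⟩
    · change ((extC π).obj F).d j (j + 1) z = 0 at hz
      change ∃ x, ((extC π).obj F).d (j - 1) j x = z
      obtain ⟨w, rfl⟩ := eta_surjective π hπ F j z
      rw [eta_d] at hz
      have h1 := eta_eq_zero π hπ F (j + 1) hz
      rw [Ideal.mk_ker] at h1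
      obtain ⟨u, hu⟩ := hex j hj w h1
      refine ⟨eta π F (j - 1) u, ?_⟩
      rw [eta_d, eq_comm, ← sub_eq_zero, ← map_sub]
      generalize w - F.d (j - 1) j u = y at hu ⊢
      induction hu using Submodule.smul_induction_on' with
      | smul r hr v _ => rw [eta_smul, Ideal.Quotient.eq_zero_iff_mem.2 hr, zero_smul]
      | add x _ y _ hx hy => rw [map_add, hx, hy, add_zero]
    · rintro ⟨x, rfl⟩
      exact ConcreteCategory.congr_hom (((extC π).obj F).d_comp_d (j - 1) j (j + 1)) x
  suffices H : ∀ k : ℕ, (DerivedCategory.Q.obj F).IsLE (max b (c - k)) by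
    have := H (c - b).toNat
    rwa [max_eq_left (by omega)] at this
  intro k
  induction k with
  | zero =>
    exact (DerivedCategory.isLE_iff _ _).2 fun j hj =>
      ((HomologicalComplex.exactAt_iff_isZero_homology _ _).1
        (HomologicalComplex.ExactAt.of_isZero (hc j (by omega)))).of_iso (homologyQIso F j)
  | succ k ih =>
    by_cases hk : c - k ≤ b
    · rwa [max_eq_left (by omega), ← max_eq_left hk]
    rw [max_eq_right (by omega)] at ih
    let j := c - k
    have hbj : b < j := by omega
    haveI := (TopCohomology.finite_top hpcn (by omega) ih).1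
    obtain ⟨e⟩ := Nilp.nonempty_top_iso (fun _ : Fin 1 => π) 0 (DerivedCategory.Q.obj F) j ih
    have hz : IsZero ((extF π).obj ((DerivedCategory.homologyFunctor _ j).obj
        (DerivedCategory.Q.obj F))) := (hvan j hbj).of_iso e.symm
    let M := (DerivedCategory.homologyFunctor (ModuleCat.{u} B) j).obj (DerivedCategory.Q.obj F)
    have hsub : Subsingleton M := by
      letI := π.toAlgebra
      haveI : Subsingleton ((B ⧸ J) ⊗[B] M) :=
        (ModuleCat.isZero_iff_subsingleton.1 hz : Subsingleton ((extF π).obj M))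
      have htop : (⊤ : Submodule B M) ≤ J • ⊤ := fun x _ => by
        have h1 : TensorProduct.mk B (B ⧸ J) M 1 x = 0 := Subsingleton.elim _ _
        rwa [← LinearMap.mem_ker, LinearMap.ker_tensorProductMk] at h1
      have hM : Module.Finite B M := inferInstanceAs (Module.Finite B (Dual.HD B (DerivedCategory.Q.obj F) j))
      have := Submodule.eq_bot_of_le_smul_of_le_jacobson_bot J ⊤ hM.fg_top htop
        (hJ.trans (IsLocalRing.maximalIdeal_le_jacobson _))
      exact (Submodule.subsingleton_iff B).1 (subsingleton_of_bot_eq_top this.symm)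
    refine (DerivedCategory.isLE_iff _ _).2 fun i hi => ?_
    rcases eq_or_lt_of_le (show j ≤ i by omega) with rfl | hlt
    · exact ModuleCat.isZero_iff_subsingleton.2 hsub
    · exact DerivedCategory.isZero_of_isLE _ j i hlt

theorem bdd_restrict {A B : Type u} [CommRing A] [CommRing B] (f : A →+* B) (hf : f.Flat)
    {K : Dual.D B} {a b : ℤ} (h : Bdd (flat B) a b K) :
    Bdd (flat A) a b ((DRing.restrictD f).obj K) :=
  ExactPush.bdd_map (resF f) (LocalAmp.flat_restrict f hf) h

end Groth.Agent.H56.RelPC.FibBdd
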