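import Groth.Agent.H47.InjModel
import Groth.Agent.H19.FlatLocus.Basic
import Mathlib.RingTheory.Flat.Localization

/-!
Exactness in the fibre gives exactness and flatness of the cokernel at generizations: module level.
-/

set_option autoImplicit false
set_option linter.style.haveILetI false

universe u

open TensorProduct

namespace Groth.Agent.H56.RelPC.FibMod

open Groth.Agent.H47.InjCoker Groth.Agent.H47.InjFibre

variable {A B : Type u} [CommRing A] [CommRing B] [Algebra A B]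

/-- Exactness in the fibre at a prime. -/
def FibExactAt {E₁ E₂ E₃ : Type u} [AddCommGroup E₁] [Module B E₁] [AddCommGroup E₂] [Module B E₂]
    [AddCommGroup E₃] [Module B E₃] (f : E₁ →ₗ[B] E₂) (g : E₂ →ₗ[B] E₃) (q : PrimeSpectrum B) : Prop :=
  ∀ w : E₂, (∃ s ∉ q.asIdeal, s • g w ∈ pB A q • (⊤ : Submodule B E₃)) →
    ∃ s ∉ q.asIdeal, ∃ u : E₁, s • w - f u ∈ pB A q • (⊤ : Submodule B E₂)

section descend

variable {q : PrimeSpectrum B} {Bl : Type u} [CommRing Bl] [Algebra B Bl]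
  {E₁ E₂ E₃ F₁ F₂ F₃ : Type u} [AddCommGroup E₁] [Module B E₁] [AddCommGroup E₂] [Module B E₂]
  [AddCommGroup E₃] [Module B E₃] [AddCommGroup F₁] [Module B F₁] [Module Bl F₁] [IsScalarTower B Bl F₁]
  [AddCommGroup F₂] [Module B F₂] [Module Bl F₂] [IsScalarTower B Bl F₂]
  [AddCommGroup F₃] [Module B F₃] [Module Bl F₃] [IsScalarTower B Bl F₃]
  (l₁ : E₁ →ₗ[B] F₁) (l₂ : E₂ →ₗ[B] F₂) (l₃ : E₃ →ₗ[B] F₃)
  [IsLocalizedModule q.asIdeal.primeCompl l₁] [IsLocalizedModule q.asIdeal.primeCompl l₂]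
  (f : E₁ →ₗ[B] E₂) (g : E₂ →ₗ[B] E₃) (f' : F₁ →ₗ[Bl] F₂) (g' : F₂ →ₗ[Bl] F₃)
  (hf : ∀ v, f' (l₁ v) = l₂ (f v)) (hg : ∀ v, g' (l₂ v) = l₃ (g v))

include hf hg in
/-- Exactness in the fibre of the localized complex. -/
theorem fibExactAt_of_localized [IsLocalization.AtPrime Bl q.asIdeal] (J : Ideal Bl)
    (hJ : (pB A q).map (algebraMap B Bl) = J)
    (h : ∀ w : F₂, g' w ∈ J • (⊤ : Submodule Bl F₃) →
      ∃ u : F₁, w - f' u ∈ J • (⊤ : Submodule Bl F₂)) : FibExactAt (A := A) f g q := by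
  have key : ∀ {V : Type u} [AddCommGroup V] [Module B V] [Module Bl V] [IsScalarTower B Bl V] (v : V),
      v ∈ J • (⊤ : Submodule Bl V) ↔ v ∈ pB A q • (⊤ : Submodule B V) := by
    intro V _ _ _ _ v
    rw [← hJ, ← Submodule.restrictScalars_mem B, Ideal.smul_restrictScalars,
      Submodule.restrictScalars_top]
  rintro w ⟨s, hs, hsw⟩
  have hu : IsUnit (algebraMap B Bl s) := IsLocalization.map_units Bl (⟨s, hs⟩ : q.asIdeal.primeCompl)
  have h1 : g' (l₂ w) ∈ J • (⊤ : Submodule Bl F₃) := by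
    rw [← (J • (⊤ : Submodule Bl F₃)).smul_mem_iff_of_isUnit hu, algebraMap_smul, hg, ← map_smul, key]
    exact Submodule.smul_top_le_comap_smul_top _ l₃ hsw
  obtain ⟨u', hu'⟩ := h _ h1
  obtain ⟨⟨u, t⟩, ht⟩ := IsLocalizedModule.surj q.asIdeal.primeCompl l₁ u'
  have h2 : l₂ ((t : B) • w - f u) ∈ pB A q • (⊤ : Submodule B F₂) := by
    rw [map_sub, map_smul, ← hf, ← show (t : B) • u' = l₁ u from ht,
      ← algebraMap_smul Bl (t : B) u', map_smul, algebraMap_smul, ← smul_sub]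
    exact Submodule.smul_mem _ _ ((key _).1 hu')
  obtain ⟨s₁, hs₁, m, hm, hm'⟩ := exists_of_mem_smul q.asIdeal.primeCompl (pB A q) l₂ h2
  rw [← map_smul] at hm'
  obtain ⟨c, hc⟩ := IsLocalizedModule.exists_of_eq (S := q.asIdeal.primeCompl) hm'
  refine ⟨(c : B) * s₁ * (t : B),
    fun hmem => (q.isPrime.mem_or_mem hmem).elim
      (fun h' => (q.isPrime.mem_or_mem h').elim c.2 hs₁) t.2, ((c : B) * s₁) • u, ?_⟩
  rw [map_smul, mul_smul, mul_smul, mul_smul, ← smul_sub, ← smul_sub]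
  change (c : B) • (s₁ • ((t : B) • w - f u)) ∈ _
  rw [show (c : B) • (s₁ • ((t : B) • w - f u)) = (c : B) • m from hc]
  exact Submodule.smul_mem _ _ hm

end descend

section main

variable [Algebra.FinitePresentation A B] {E₁ E₂ E₃ : Type u}
  [AddCommGroup E₁] [Module B E₁] [Module.Finite B E₁]
  [AddCommGroup E₂] [Module B E₂] [Module.FinitePresentation B E₂]
  [AddCommGroup E₃] [Module A E₃] [Module B E₃] [IsScalarTower A B E₃] [Module.FinitePresentation B E₃]
  {f : E₁ →ₗ[B] E₂} {g : E₂ →ₗ[B] E₃} {q q' : PrimeSpectrum B}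

/-- Exactness at generizations and flat cokernel. -/
theorem injFlat_of_fibExactAt (hgf : g ∘ₗ f = 0)
    (hM : Module.Flat A (LocalizedModule q.asIdeal.primeCompl E₃))
    (h : FibExactAt (A := A) f g q) :
    InjFlatAt (A := A) ((LinearMap.range f).liftQ g (LinearMap.range_le_ker_iff.2 hgf)) q := by
  have : Module.FinitePresentation B (E₂ ⧸ LinearMap.range f) :=
    Module.finitePresentation_of_surjective _ (Submodule.mkQ_surjective _) (by
      rw [Submodule.ker_mkQ]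
      exact (Module.Finite.fg_top (R := B) (M := E₁)).map f |> (LinearMap.range_eq_map f ▸ ·))
  refine H47.InjModel.injFlatAt_of_fibre _ q hM ?_
  rintro z ⟨s, hs, hsz⟩
  obtain ⟨w, rfl⟩ := Submodule.Quotient.mk_surjective _ z
  obtain ⟨t, ht, u, hu⟩ := h w ⟨s, hs, hsz⟩
  refine ⟨t, ht, ?_⟩
  have h' := Submodule.smul_top_le_comap_smul_top (pB A q) (LinearMap.range f).mkQ hu
  rw [Submodule.mem_comap, map_sub, map_smul] at h'
  have hz : (LinearMap.range f).mkQ (f u) = 0 :=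
    (Submodule.Quotient.mk_eq_zero _).2 ⟨u, rfl⟩
  rw [hz, sub_zero] at h'
  exact h'

/-- Specialisation. -/
theorem flat_coker_of_fibExactAt (hgf : g ∘ₗ f = 0)
    (hM : Module.Flat A (LocalizedModule q.asIdeal.primeCompl E₃))
    (h : FibExactAt (A := A) f g q) (hle : q'.asIdeal ≤ q.asIdeal) {V : Type u} [AddCommGroup V]
    [Module A V] [Module B V] [IsScalarTower A B V] (l : (E₃ ⧸ LinearMap.range g) →ₗ[B] V)
    [IsLocalizedModule q'.asIdeal.primeCompl l] : Module.Flat A V := by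
  have h' := (injFlat_of_fibExactAt hgf hM h).2
  rw [H19.FlatLocus.flat_iff_killed q'.asIdeal.primeCompl l]
  intro J y hy
  let e := Submodule.quotEquivOfEq _ _ (Submodule.range_liftQ (LinearMap.range f) g
    (LinearMap.range_le_ker_iff.2 hgf))
  rw [H19.FlatLocus.flat_iff_killed q.asIdeal.primeCompl
    ((LocalizedModule.mkLinearMap q.asIdeal.primeCompl _).comp e.symm.toLinearMap)] at h'
  obtain ⟨s, hs, hsy⟩ := h' J y hy
  exact ⟨s, fun hs' => hs (hle hs'), hsy⟩

theorem exists_of_fibExactAt (hgf : g ∘ₗ f = 0)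
    (hM : Module.Flat A (LocalizedModule q.asIdeal.primeCompl E₃))
    (h : FibExactAt (A := A) f g q) (hle : q'.asIdeal ≤ q.asIdeal) (w : E₂) (hw : g w = 0) :
    ∃ s ∉ q'.asIdeal, ∃ u, s • w = f u := by
  obtain ⟨s, hs, hsz⟩ := (injFlat_of_fibExactAt hgf hM h).1 (Submodule.Quotient.mk w) hw
  rw [← Submodule.Quotient.mk_smul, Submodule.Quotient.mk_eq_zero] at hsz
  obtain ⟨u, hu⟩ := hsz
  exact ⟨s, fun hs' => hs (hle hs'), u, hu.symm⟩

end main

/-- A quotient of localized modules is localized. -/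
theorem isLocalizedModule_mapQ (W : Submonoid B) {E₂ E₃ F₂ F₃ : Type u} [AddCommGroup E₂] [Module B E₂]
    [AddCommGroup E₃] [Module B E₃] [AddCommGroup F₂] [Module B F₂] [AddCommGroup F₃] [Module B F₃]
    (l₂ : E₂ →ₗ[B] F₂) (l₃ : E₃ →ₗ[B] F₃) [IsLocalizedModule W l₂] [IsLocalizedModule W l₃]
    (g : E₂ →ₗ[B] E₃) (g' : F₂ →ₗ[B] F₃) (hg : ∀ v, g' (l₂ v) = l₃ (g v)) :
    IsLocalizedModule W ((LinearMap.range g).mapQ (LinearMap.range g') l₃
      (by rintro _ ⟨v, rfl⟩; exact ⟨l₂ v, hg v⟩)) where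
  map_units x := by
    rw [Module.End.isUnit_iff]
    have hx := (Module.End.isUnit_iff _).1 (IsLocalizedModule.map_units l₃ x)
    have hx₂ := (Module.End.isUnit_iff _).1 (IsLocalizedModule.map_units l₂ x)
    refine ⟨fun a b hab => ?_, fun a => ?_⟩
    · obtain ⟨a, rfl⟩ := Submodule.Quotient.mk_surjective _ a
      obtain ⟨b, rfl⟩ := Submodule.Quotient.mk_surjective _ b
      obtain ⟨c, hc⟩ := (Submodule.Quotient.eq (LinearMap.range g')).1
        (show Submodule.Quotient.mk ((x : B) • a) = Submodule.Quotient.mk ((x : B) • b) from hab)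
      obtain ⟨c', hc'⟩ := hx₂.2 c
      refine (Submodule.Quotient.eq _).2 ⟨c', hx.1 ?_⟩
      change (x : B) • g' c' = (x : B) • (a - b)
      rw [← map_smul, show (x : B) • c' = c from hc', hc, smul_sub]
    · obtain ⟨a, rfl⟩ := Submodule.Quotient.mk_surjective _ a
      obtain ⟨a', ha'⟩ := hx.2 a
      exact ⟨Submodule.Quotient.mk a', congrArg Submodule.Quotient.mk ha'⟩
  surj v := by
    obtain ⟨v, rfl⟩ := Submodule.Quotient.mk_surjective _ v
    obtain ⟨⟨e, t⟩, he⟩ := IsLocalizedModule.surj W l₃ v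
    exact ⟨⟨Submodule.Quotient.mk e, t⟩, congrArg Submodule.Quotient.mk he⟩
  exists_of_eq {a b} hab := by
    obtain ⟨a, rfl⟩ := Submodule.Quotient.mk_surjective _ a
    obtain ⟨b, rfl⟩ := Submodule.Quotient.mk_surjective _ b
    obtain ⟨c, hc⟩ := (Submodule.Quotient.eq (LinearMap.range g')).1
      (show Submodule.Quotient.mk (l₃ a) = Submodule.Quotient.mk (l₃ b) from hab)
    obtain ⟨⟨e, t⟩, he⟩ := IsLocalizedModule.surj W l₂ c
    obtain ⟨s, hs⟩ := IsLocalizedModule.exists_of_eq (S := W) (f := l₃)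
      (show l₃ (g e) = l₃ ((t : B) • (a - b)) from by
        rw [← hg, ← show (t : B) • c = l₂ e from he, map_smul, hc, map_smul, map_sub])
    refine ⟨s * t, (Submodule.Quotient.eq _).2 ⟨(s : B) • e, ?_⟩⟩
    change g ((s : B) • e) = ((s * t : W) : B) • a - ((s * t : W) : B) • b
    rw [map_smul, show (s : B) • g e = (s : B) • ((t : B) • (a - b)) from hs, Submonoid.coe_mul,
      mul_smul, mul_smul, ← smul_sub, ← smul_sub]

end Groth.Agent.H56.RelPC.FibMod
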