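import Groth.Agent.H56.RelPC.ThickTorRing
import Groth.Agent.H56.RelPC.FibMod
import Groth.Agent.Lib.DR.FlatBC
import Mathlib.RingTheory.Localization.AtPrime.Basic

/-!
Tor amplitude at generizations from tor amplitude modulo an ideal.
-/

set_option autoImplicit false
set_option linter.style.haveILetI false

universe u

open CategoryTheory Limits HomologicalComplex
open scoped TensorProduct

attribute [local instance] HasDerivedCategory.standard

namespace Groth.Agent.H56.RelPC.FibTorRing

open Groth.Agent.Lib Groth.Agent.Lib.DR Groth.Agent.Lib.DR.Basic Groth.Agent.Lib.DR.FiniteComplex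
  Groth.Agent.Lib.DR.PseudoCoherent Groth.Agent.Lib.DR.BaseChange Groth.Agent.Lib.DR.TorAmp
open Groth.Agent.Lib.DerivedOX KFlatBaseChange
open Groth.Agent.Lib.BettiExact TorTensor TorBaseChange

section Eta

variable {A L : Type u} [CommRing A] [CommRing L] (π : A →+* L)

/-- The map to the extension of scalars. -/
noncomputable def eta (E : DRing.Cx A) (i : ℤ) : E.X i →+ ((extC π).obj E).X i :=
  letI := π.toAlgebra
  (TensorProduct.mk A L (E.X i) 1).toAddMonoidHom

theorem eta_d (E : DRing.Cx A) (i j : ℤ) (v : E.X i) :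
    ((extC π).obj E).d i j (eta π E i v) = eta π E j (E.d i j v) := rfl

theorem eta_smul (E : DRing.Cx A) (i : ℤ) (r : A) (v : E.X i) :
    eta π E i (r • v) = (π r • eta π E i v : ((extC π).obj E).X i) := by
  letI := π.toAlgebra
  show (1 : L) ⊗ₜ[A] (r • v) = (π r * 1) ⊗ₜ[A] v
  rw [← TensorProduct.smul_tmul, Algebra.smul_def]
  rfl

theorem eta_surjective (hπ : Function.Surjective π) (E : DRing.Cx A) (i : ℤ) :
    Function.Surjective (eta π E i) := by
  letI := π.toAlgebra
  intro z
  change L ⊗[A] (E.X i) at z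
  exact TensorProduct.mk_surjective A (E.X i) L hπ z

theorem eta_eq_zero (hπ : Function.Surjective π) (E : DRing.Cx A) (i : ℤ) {v : E.X i}
    (hv : eta π E i v = 0) : v ∈ RingHom.ker π • (⊤ : Submodule A (E.X i)) := by
  letI := π.toAlgebra
  let e : (A ⧸ RingHom.ker π) ≃ₐ[A] L :=
    Ideal.quotientKerAlgEquivOfSurjective (f := Algebra.ofId A L) hπ
  have h : TensorProduct.mk A (A ⧸ RingHom.ker π) (E.X i) 1 v = 0 := by
    apply (TensorProduct.congr e.toLinearEquiv (LinearEquiv.refl A (E.X i))).injective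
    rw [map_zero]
    show e 1 ⊗ₜ[A] v = 0
    rw [map_one]
    exact hv
  rwa [← LinearMap.mem_ker, LinearMap.ker_tensorProductMk] at h

end Eta

/-- Fibre exactness of a complex of flat modules of bounded tor amplitude over a local ring. -/
theorem exists_of_bdd {S : Type u} [CommRing S] (m : Ideal S) (C : DRing.Cx S) {a b c : ℤ}
    (hc : ∀ i, c < i → IsZero (C.X i)) (hf : ∀ i, flat S (C.X i))
    (h : Bdd (flat S) a b (DerivedCategory.Q.obj C)) (j : ℤ) (hj : j < a) (z : C.X j)
    (hz : C.d j (j + 1) z ∈ m • (⊤ : Submodule S (C.X (j + 1)))) :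
    ∃ u : C.X (j - 1), z - C.d (j - 1) j u ∈ m • (⊤ : Submodule S (C.X j)) := by
  have hex := exactAt_tens_of_bdd (ModuleCat.of S (S ⧸ m)) C hc hf h j hj
  rw [HomologicalComplex.exactAt_iff' _ (j - 1) j (j + 1) (by simp) (by simp),
    ShortComplex.ShortExact.moduleCat_exact_iff_function_exact] at hex
  have hmem : ∀ (t : ℤ) (v : C.X t),
      v ∈ m • (⊤ : Submodule S (C.X t)) ↔ v ⊗ₜ[S] (1 : S ⧸ m) = 0 := fun t v => by
    rw [← (TensorProduct.comm S (C.X t) (S ⧸ m)).map_eq_zero_iff, TensorProduct.comm_tmul,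
      ← LinearMap.ker_tensorProductMk]
    rfl
  obtain ⟨w, hw⟩ := (hex (z ⊗ₜ[S] (1 : S ⧸ m))).1 ((hmem _ _).1 hz)
  obtain ⟨u, hu⟩ := TensorProduct.mk_surjective S (C.X (j - 1)) (S ⧸ m) Ideal.Quotient.mk_surjective
    (TensorProduct.comm S (C.X (j - 1)) (S ⧸ m) w)
  have hu' : u ⊗ₜ[S] (1 : S ⧸ m) = w := by
    apply (TensorProduct.comm S (C.X (j - 1)) (S ⧸ m)).injective
    rw [TensorProduct.comm_tmul]
    exact hu
  refine ⟨u, (hmem _ _).2 ?_⟩
  rw [TensorProduct.sub_tmul, sub_eq_zero, ← hw, ← hu']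
  rfl

section Local

variable {R A S L : Type u} [CommRing R] [CommRing A] [CommRing S] [CommRing L]
  (φ : R →+* A) (ψ : R →+* S) (θ : TP φ ψ →+* L)

/-- The base change isomorphism. -/
noncomputable def bcThick (hθ : Function.Bijective θ) :
    extF (θ.comp (inA φ ψ)) ⋙ resF (θ.comp (inS φ ψ)) ≅ resF φ ⋙ extF ψ :=
  haveI := ThickTorRing.isIso_unit θ hθ
  Functor.isoWhiskerRight (ModuleCat.extendScalarsComp (inA φ ψ) θ) _ ≪≫
    Functor.associator _ _ _ ≪≫
    Functor.isoWhiskerLeft _
      (Functor.isoWhiskerLeft _ (ModuleCat.restrictScalarsComp'.{u} (inS φ ψ) θ _ rfl) ≪≫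
        (Functor.associator _ _ _).symm ≪≫
        Functor.isoWhiskerRight (asIso (ModuleCat.extendRestrictScalarsAdj.{u} θ).unit).symm _ ≪≫
        Functor.leftUnitor _) ≪≫
    bcIso φ ψ

variable [IsLocalRing R] [IsLocalRing S]

/-- Exactness in the fibre at the closed point. -/
theorem fibExact_local (hφ : φ.Flat) (hθ : Function.Bijective θ) (hs : Function.Surjective ψ)
    {π : A →+* L} (hπ : θ.comp (inA φ ψ) = π) {πS : S →+* L} (hπS : θ.comp (inS φ ψ) = πS)
    (E : DRing.Cx A) (hE : ∀ i, flat A (E.X i)) {a b c : ℤ} (hc : ∀ i, c < i → IsZero (E.X i))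
    (hb : Bdd (flat S) a b (DerivedCategory.Q.obj ((resC πS).obj ((extC π).obj E))))
    (j : ℤ) (hj : j < a) (w : E.X j)
    (hw : E.d j (j + 1) w ∈ (IsLocalRing.maximalIdeal R).map φ • (⊤ : Submodule A (E.X (j + 1)))) :
    ∃ u : E.X (j - 1),
      w - E.d (j - 1) j u ∈ (IsLocalRing.maximalIdeal R).map φ • (⊤ : Submodule A (E.X j)) := by
  subst hπ hπS
  let π := θ.comp (inA φ ψ)
  let πS := θ.comp (inS φ ψ)
  let C : DRing.Cx S := (resC πS).obj ((extC π).obj E)
  let m := IsLocalRing.maximalIdeal R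
  let n := IsLocalRing.maximalIdeal S
  haveI : IsLocalHom ψ := Function.Surjective.isLocalHom _ hs
  have hCf : ∀ i, flat S (C.X i) := fun i => good_flat.iso ((bcThick φ ψ θ hθ).app (E.X i)).symm
    (ext_flat ψ _ (LocalAmp.flat_restrict φ hφ _ (hE i)))
  have hCc : ∀ i, c < i → IsZero (C.X i) := fun i hi =>
    (resF πS).map_isZero ((extF π).map_isZero (hc i hi))
  have hπs : Function.Surjective π := hθ.2.comp (ThickTorRing.inA_surjective φ ψ hs)
  have hker : RingHom.ker π ≤ m.map φ := by
    intro x hx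
    refine Ideal.map_mono (IsLocalRing.le_maximalIdeal (RingHom.ker_ne_top ψ))
      (ThickTorRing.ker_inA_le φ ψ hs ?_)
    exact (map_eq_zero_iff θ hθ.1).1 hx
  have hcomm : ∀ r : R, πS (ψ r) = π (φ r) := by
    intro r
    letI := φ.toAlgebra
    letI := ψ.toAlgebra
    show θ ((1 : A) ⊗ₜ[R] algebraMap R S r) = θ (algebraMap R A r ⊗ₜ[R] (1 : S))
    rw [Algebra.algebraMap_eq_smul_one, Algebra.algebraMap_eq_smul_one, TensorProduct.smul_tmul]
  have hsmul : ∀ (t : ℤ) (r : R) (v : E.X t),
      (ψ r • (show C.X t from eta π E t v) : C.X t) = eta π E t (φ r • v) := fun t r v => by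
    rw [eta_smul, ← hcomm]
    rfl
  -- images of `m E` lie in `n C`
  have hfwd : ∀ (t : ℤ) (v : E.X t), v ∈ m.map φ • (⊤ : Submodule A (E.X t)) →
      (show C.X t from eta π E t v) ∈ n • (⊤ : Submodule S (C.X t)) := by
    intro t v hv
    induction hv using Submodule.smul_induction_on' with
    | smul x hx v _ =>
      rw [show m.map φ = Ideal.span (φ '' (m : Set R)) from rfl] at hx
      induction hx using Submodule.span_induction generalizing v with
      | mem x hx =>
        obtain ⟨r, hr, rfl⟩ := hx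
        rw [← hsmul]
        exact Submodule.smul_mem_smul (map_nonunit ψ r hr) Submodule.mem_top
      | zero => rw [zero_smul, map_zero]; exact Submodule.zero_mem _
      | add x y _ _ hx hy =>
        rw [add_smul, map_add]
        exact Submodule.add_mem _ (hx v trivial) (hy v trivial)
      | smul a x _ hx =>
        rw [smul_eq_mul, mul_comm, mul_smul]
        exact hx _ trivial
    | add x _ y _ hx hy =>
      rw [map_add]
      exact Submodule.add_mem _ hx hy
  -- elements of `n C` lift to `m E`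
  have hbwd : ∀ (t : ℤ) (z : C.X t), z ∈ n • (⊤ : Submodule S (C.X t)) →
      ∃ v ∈ m.map φ • (⊤ : Submodule A (E.X t)), (show C.X t from eta π E t v) = z := by
    intro t z hz
    induction hz using Submodule.smul_induction_on' with
    | smul s hs' z _ =>
      obtain ⟨r, rfl⟩ := hs s
      obtain ⟨v, hv⟩ := eta_surjective π hπs E t z
      refine ⟨φ r • v, Submodule.smul_mem_smul (Ideal.mem_map_of_mem φ ?_) Submodule.mem_top, ?_⟩
      · exact fun hu => hs' (hu.map ψ)
      · rw [← hsmul, ← hv]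
    | add x _ y _ hx hy =>
      obtain ⟨v, hv, rfl⟩ := hx
      obtain ⟨v', hv', rfl⟩ := hy
      exact ⟨v + v', Submodule.add_mem _ hv hv', map_add _ _ _⟩
  obtain ⟨z, hz⟩ := exists_of_bdd n C hCc hCf hb j hj (eta π E j w) (hfwd _ _ hw)
  obtain ⟨u, rfl⟩ := eta_surjective π hπs E (j - 1) z
  obtain ⟨v, hv, hv'⟩ := hbwd _ _ hz
  refine ⟨u, ?_⟩
  have h0 : eta π E j (w - E.d (j - 1) j u - v) = 0 := by
    rw [map_sub, map_sub, ← eta_d, sub_eq_zero]
    exact hv'.symm
  have h1 := Submodule.smul_mono_left hker (eta_eq_zero π hπs E j h0)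
  simpa using Submodule.add_mem _ h1 hv

end Local

section Chart

open FibMod

variable {A B : Type u} [CommRing A] [CommRing B] [Algebra A B]

/-- Exactness in the fibre below a degree. -/
def FibExact (E : DRing.Cx B) (a : ℤ) (q : PrimeSpectrum B) : Prop :=
  ∀ j, j < a → FibExactAt (A := A) (E.d (j - 1) j).hom (E.d j (j + 1)).hom q

variable {Al Bl : Type u} [CommRing Al] [CommRing Bl] [Algebra A Al] [Algebra B Bl] [Algebra A Bl]
  [IsScalarTower A B Bl] (φ : Al →+* Bl) (hφ : φ.comp (algebraMap A Al) = algebraMap A Bl)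

/-- The map to the localized complex, linearly. -/
noncomputable def locMap (E : DRing.Cx B) (i : ℤ) :
    letI := Module.compHom (((extC (algebraMap B Bl)).obj E).X i) (algebraMap B Bl)
    E.X i →ₗ[B] ((extC (algebraMap B Bl)).obj E).X i :=
  letI := Module.compHom (((extC (algebraMap B Bl)).obj E).X i) (algebraMap B Bl)
  { toFun := eta (algebraMap B Bl) E i
    map_add' := map_add _
    map_smul' := fun r v => eta_smul _ E i r v }

theorem isLocalizedModule_locMap (q : PrimeSpectrum B) [IsLocalization.AtPrime Bl q.asIdeal]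
    (E : DRing.Cx B) (i : ℤ) :
    letI := Module.compHom (((extC (algebraMap B Bl)).obj E).X i) (algebraMap B Bl)
    IsLocalizedModule q.asIdeal.primeCompl (locMap (Bl := Bl) E i) := by
  letI := Module.compHom (((extC (algebraMap B Bl)).obj E).X i) (algebraMap B Bl)
  haveI : IsScalarTower B Bl (((extC (algebraMap B Bl)).obj E).X i) :=
    IsScalarTower.of_algebraMap_smul fun _ _ => rfl
  rw [isLocalizedModule_iff_isBaseChange q.asIdeal.primeCompl Bl]
  refine IsBaseChange.of_equiv
    (DR.FlatBC.extEquiv B Bl (E.X i)).symm fun _ => rfl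

include hφ in
/-- Exactness in the fibre from that of the stalk. -/
theorem fibExact_of_stalk [IsLocalRing Al] {q : PrimeSpectrum B}
    [IsLocalization.AtPrime Bl q.asIdeal]
    [IsLocalization.AtPrime Al (q.asIdeal.comap (algebraMap A B))] (E : DRing.Cx B) (a : ℤ)
    (h : ∀ j < a, ∀ w : ((extC (algebraMap B Bl)).obj E).X j,
      ((extC (algebraMap B Bl)).obj E).d j (j + 1) w ∈
        (IsLocalRing.maximalIdeal Al).map φ • (⊤ : Submodule Bl _) →
      ∃ u, w - ((extC (algebraMap B Bl)).obj E).d (j - 1) j u ∈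
        (IsLocalRing.maximalIdeal Al).map φ • (⊤ : Submodule Bl _)) :
    FibExact (A := A) E a q := by
  intro j hj
  let F := (extC (algebraMap B Bl)).obj E
  letI : ∀ i, Module B (F.X i) := fun i => Module.compHom (F.X i) (algebraMap B Bl)
  haveI : ∀ i, IsScalarTower B Bl (F.X i) := fun i => IsScalarTower.of_algebraMap_smul fun _ _ => rfl
  haveI : ∀ i, IsLocalizedModule q.asIdeal.primeCompl (locMap (Bl := Bl) E i) :=
    isLocalizedModule_locMap q E
  refine fibExactAt_of_localized (locMap (Bl := Bl) E (j - 1)) (locMap (Bl := Bl) E j)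
    (locMap (Bl := Bl) E (j + 1)) _ _ (F.d (j - 1) j).hom (F.d j (j + 1)).hom
    (fun _ => rfl) (fun _ => rfl) ((IsLocalRing.maximalIdeal Al).map φ) ?_ (h j hj)
  rw [H47.InjFibre.pB, Ideal.map_map, ← IsScalarTower.algebraMap_eq,
    ← IsLocalization.AtPrime.map_eq_maximalIdeal (q.asIdeal.comap (algebraMap A B)) Al,
    Ideal.map_map, hφ]

theorem flat_extend_obj {C D : Type u} [CommRing C] [CommRing D] (σ : C →+* D) {M : ModuleCat.{u} C}
    (h : flat C M) : flat D ((extF σ).obj M) := ext_flat σ M h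

include hφ in
/-- Tor amplitude at generizations. -/
theorem bdd_of_fibExact [Algebra.FinitePresentation A B] [Module.Flat A B] {q q' : PrimeSpectrum B}
    (hle : q'.asIdeal ≤ q.asIdeal) [IsLocalization.AtPrime Bl q'.asIdeal]
    [IsLocalization.AtPrime Al (q'.asIdeal.comap (algebraMap A B))] (E : DRing.Cx B) {a c : ℤ}
    (hff : ∀ i, ff B (E.X i)) (hc : ∀ i, c < i → IsZero (E.X i)) (h : FibExact (A := A) E a q) :
    Bdd (flat Al) a c (DerivedCategory.Q.obj ((resC φ).obj ((extC (algebraMap B Bl)).obj E))) := by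
  let F := (extC (algebraMap B Bl)).obj E
  let C := (resC φ).obj F
  haveI : Module.Flat A Al := IsLocalization.flat Al (q'.asIdeal.comap (algebraMap A B)).primeCompl
  haveI : Module.Flat A Bl :=
    haveI : Module.Flat B Bl := IsLocalization.flat Bl q'.asIdeal.primeCompl
    Module.Flat.trans A B Bl
  have hφflat : φ.Flat := by
    letI := φ.toAlgebra
    haveI : IsScalarTower A Al Bl := IsScalarTower.of_algebraMap_eq' hφ.symm
    show Module.Flat Al Bl
    exact (Module.flat_iff_of_isLocalization Al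
      (q'.asIdeal.comap (algebraMap A B)).primeCompl Bl).2 ‹_›
  letI : ∀ i, Module B (F.X i) := fun i => Module.compHom (F.X i) (algebraMap B Bl)
  letI : ∀ i, Module A (F.X i) := fun i => Module.compHom (F.X i) (algebraMap A Bl)
  haveI : ∀ i, IsScalarTower B Bl (F.X i) := fun i => IsScalarTower.of_algebraMap_smul fun _ _ => rfl
  haveI : ∀ i, IsScalarTower A B (F.X i) := fun i => IsScalarTower.of_algebraMap_smul fun r v => by
    show algebraMap B Bl (algebraMap A B r) • v = algebraMap A Bl r • v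
    rw [← IsScalarTower.algebraMap_apply]
  haveI : ∀ i, IsLocalizedModule q'.asIdeal.primeCompl (locMap (Bl := Bl) E i) :=
    isLocalizedModule_locMap q' E
  letI : ∀ i, Module A (E.X i) := fun i => Module.compHom (E.X i) (algebraMap A B)
  haveI : ∀ i, IsScalarTower A B (E.X i) := fun i => IsScalarTower.of_algebraMap_smul fun _ _ => rfl
  haveI : ∀ i, Module.Free B (E.X i) := fun i => (hff i).2
  haveI : ∀ i, Module.Finite B (E.X i) := fun i => (hff i).1
  haveI : ∀ i, Module.FinitePresentation B (E.X i) := fun i => Module.finitePresentation_of_projective B _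
  have hflatE : ∀ i, Module.Flat A (LocalizedModule q.asIdeal.primeCompl (E.X i)) := fun i => by
    haveI : Module.Flat A (E.X i) := Module.Flat.trans A B (E.X i)
    rw [H19.FlatLocus.flat_iff_killed q.asIdeal.primeCompl (LocalizedModule.mkLinearMap _ (E.X i))]
    intro J y hy
    exact ⟨1, Submonoid.one_mem _, by
      rw [one_smul]
      exact Module.Flat.lTensor_preserves_injective_linearMap (M := E.X i) J.subtype
        J.injective_subtype (hy.trans (map_zero _).symm)⟩
  have hdd : ∀ i, (E.d i (i + 1)).hom ∘ₗ (E.d (i - 1) i).hom = 0 := fun i =>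
    congrArg ModuleCat.Hom.hom (E.d_comp_d (i - 1) i (i + 1))
  refine TorAmp.bdd_of_opcycles (E := C) good_flat
    (fun i hi => (resF φ).map_isZero ((extF _).map_isZero (hc i hi)))
    (fun i _ => LocalAmp.flat_restrict φ hφflat _ (ext_flat _ _ (flat_of_free _ (hff i).2))) ?_ ?_
  · refine (DerivedCategory.isGE_iff _ a).2 fun j hj =>
      ((HomologicalComplex.exactAt_iff_isZero_homology _ _).1 ?_).of_iso (homologyQIso _ j)
    rw [HomologicalComplex.exactAt_iff' _ (j - 1) j (j + 1) (by simp) (by simp),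
      ShortComplex.ShortExact.moduleCat_exact_iff_function_exact]
    intro z
    change F.X j at z
    refine ⟨fun hz => ?_, ?_⟩
    · change F.d j (j + 1) z = 0 at hz
      change ∃ x, F.d (j - 1) j x = z
      obtain ⟨⟨w, t⟩, hw⟩ := IsLocalizedModule.surj q'.asIdeal.primeCompl (locMap (Bl := Bl) E j) z
      have hw' : algebraMap B Bl (t : B) • z = eta (algebraMap B Bl) E j w := hw
      have h0 : locMap (Bl := Bl) E (j + 1) (E.d j (j + 1) w) = 0 := by
        show eta _ E (j + 1) (E.d j (j + 1) w) = 0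
        rw [← eta_d, ← hw', map_smul, hz, smul_zero]
      obtain ⟨s₀, hs₀⟩ :=
        (IsLocalizedModule.eq_zero_iff q'.asIdeal.primeCompl (locMap (Bl := Bl) E (j + 1))).1 h0
      obtain ⟨s, hs, u, hu⟩ := exists_of_fibExactAt (q' := q') (hdd j) (hflatE (j + 1))
        (h j hj) hle ((s₀ : B) • w) (by rw [map_smul]; exact hs₀)
      have hunit : IsUnit (algebraMap B Bl (s * s₀ * t)) := IsLocalization.map_units Bl
        (⟨_, mul_mem (mul_mem (show s ∈ q'.asIdeal.primeCompl from hs) s₀.2) t.2⟩ : q'.asIdeal.primeCompl)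
      obtain ⟨v, hv⟩ := hunit.exists_left_inv
      refine ⟨v • eta (algebraMap B Bl) E (j - 1) u, ?_⟩
      rw [map_smul, eta_d, ← show s • (s₀ : B) • w = E.d (j - 1) j u from hu, eta_smul, eta_smul,
        ← hw', smul_smul, smul_smul, smul_smul,
        show v * algebraMap B Bl s * algebraMap B Bl (s₀ : B) * algebraMap B Bl (t : B) = 1 from by
          rw [← hv, map_mul, map_mul]; ring, one_smul]
    · rintro ⟨x, rfl⟩
      exact ConcreteCategory.congr_hom (C.d_comp_d (j - 1) j (j + 1)) x
  · -- the cokernel is flat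
    have hgf : (E.d (a - 1) a).hom ∘ₗ (E.d (a - 1 - 1) (a - 1)).hom = 0 :=
      congrArg ModuleCat.Hom.hom (E.d_comp_d (a - 1 - 1) (a - 1) a)
    have hfa : FibExactAt (A := A) (E.d (a - 1 - 1) (a - 1)).hom (E.d (a - 1) a).hom q := by
      have h' := h (a - 1) (by omega)
      rwa [sub_add_cancel] at h'
    let g' : F.X (a - 1) →ₗ[B] F.X a :=
      { toFun := F.d (a - 1) a
        map_add' := map_add _
        map_smul' := fun r v => map_smul (F.d (a - 1) a).hom (algebraMap B Bl r) v }
    let l : (E.X a ⧸ LinearMap.range (E.d (a - 1) a).hom) →ₗ[B] (F.X a ⧸ LinearMap.range g') :=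
      (LinearMap.range (E.d (a - 1) a).hom).mapQ (LinearMap.range g') (locMap (Bl := Bl) E a)
        (by rintro _ ⟨v, rfl⟩; exact ⟨locMap (Bl := Bl) E (a - 1) v, rfl⟩)
    haveI hl : IsLocalizedModule q'.asIdeal.primeCompl l := isLocalizedModule_mapQ q'.asIdeal.primeCompl (locMap (Bl := Bl) E (a - 1))
      (locMap (Bl := Bl) E a) (E.d (a - 1) a).hom g' fun _ => rfl
    have hV : Module.Flat A (F.X a ⧸ LinearMap.range g') :=
      flat_coker_of_fibExactAt (q' := q') hgf (hflatE a) hfa hle l
    let eAdd : (C.X a ⧸ LinearMap.range (C.d (a - 1) a).hom) ≃+ (F.X a ⧸ LinearMap.range g') :=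
      QuotientAddGroup.congr _ _ (AddEquiv.refl _) (by
        ext x
        simp only [AddSubgroup.mem_map]
        constructor
        · rintro ⟨_, ⟨v, rfl⟩, rfl⟩
          exact ⟨v, rfl⟩
        · rintro ⟨v, rfl⟩
          exact ⟨_, ⟨v, rfl⟩, rfl⟩)
    let M := C.X a ⧸ LinearMap.range (C.d (a - 1) a).hom
    letI : Module A M := Module.compHom M (algebraMap A Al)
    haveI : IsScalarTower A Al M := IsScalarTower.of_algebraMap_smul fun _ _ => rfl
    let e : M ≃ₗ[A] (F.X a ⧸ LinearMap.range g') :=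
      { eAdd with
        map_smul' := fun r x => by
          obtain ⟨x, rfl⟩ := Submodule.Quotient.mk_surjective _ x
          show Submodule.Quotient.mk ((φ (algebraMap A Al r) • (show F.X a from x) : F.X a)) =
            Submodule.Quotient.mk ((algebraMap A Bl r • (show F.X a from x) : F.X a))
          rw [← RingHom.comp_apply, hφ] }
    haveI : Module.Flat A M := Module.Flat.of_linearEquiv e
    exact (Module.flat_iff_of_isLocalization Al
      (q'.asIdeal.comap (algebraMap A B)).primeCompl M).2 ‹_›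

end Chart

end Groth.Agent.H56.RelPC.FibTorRing
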