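import Groth.Agent.H56.RelPC.FinitePush
import Groth.Agent.H56.RelPC.Closed
import Groth.Agent.Lib.TensorMod.QCohInv

/-!
Absolute pseudo-coherence and finite direct images.
-/

set_option autoImplicit false
set_option linter.style.haveILetI false

universe u

open CategoryTheory Limits AlgebraicGeometry TopologicalSpace Opposite

namespace Groth.Agent.H56.RelPC

open Groth.Agent.Lib Groth.Agent.Lib.Perfect.Basic Groth.Agent.Lib.Perfect.PseudoCoh

attribute [local instance] HasDerivedCategory.standard

variable {X Y : Scheme.{u}} (f : X ⟶ Y)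

/-- The unit complex has quasi-coherent terms. -/
theorem isQCoh_unitCx (n : ℤ) : Coh.IsQCoh ((DerSch.unitCx X).X n) := by
  by_cases hn : n = 0
  · subst hn
    exact @CohBasics.Closure.isQCoh_of_iso _ _ _
      (HomologicalComplex.singleObjXSelf (ComplexShape.up ℤ) 0 (Coh.structureModule X)).symm
      (show Coh.IsQCoh (Coh.structureModule X) from
        TensorMod.QCohInv.isQCoh_structureModule X)
  · exact (WayOut.Scheme.qc X).prop_of_isZero (HomologicalComplex.isZero_single_obj_X _ _ _ _ hn)

/-- A finite morphism with pseudo-coherent direct image of the structure sheaf is pseudo-coherent. -/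
theorem pcBase_of_finite [IsFinite f] [DCoh.HasRpush f]
    (hO : ∀ m : ℤ, DCoh.IsPseudoCoherentD m
      (DCoh.inD Y ((Scheme.Modules.pushforward f).obj (Coh.structureModule X)))) : PCBase f := by
  refine pcBase_of_isNPseudoCoherent fun n => ?_
  let F := DerSch.unitCx X
  have hq : DCoh.IsQCohD (DCoh.toD X F) := fun i => (WayOut.Scheme.qc X).prop_of_iso ((DerivedCategory.homologyFunctorFactors X.Modules i).app F).symm (WayOut.Scheme.qc_homology F isQCoh_unitCx i)
  refine (isPseudoCoherentRel_push_iff f (q := 𝟙 Y) (p := f) (Category.comp_id f) hq).2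
    ((isPseudoCoherentD_iff_rel (pcBase_of_flat (𝟙 Y)) n _).1
      ((iff_forall _ _).2 fun y => ((iff_forall _ _).1 (hO n) y).of_iso ?_))
  haveI := DerivedOX.AffinePush.isIso_unit f F isQCoh_unitCx
  exact ((DerivedCategory.singleFunctorIsoCompQ Y.Modules 0).app _) ≪≫
    DerivedCategory.Q.mapIso ((HomologicalComplex.singleMapHomologicalComplex
      (Scheme.Modules.pushforward f) (ComplexShape.up ℤ) 0).symm.app (Coh.structureModule X)) ≪≫
    ((DerivedCategory.quotientCompQhIso Y.Modules).symm.app _) ≪≫
    DerivedCategory.Qh.mapIso (((Scheme.Modules.pushforward f).mapHomotopyCategoryFactors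
      (ComplexShape.up ℤ)).symm.app F) ≪≫
    asIso (((DCoh.pushKh f).totalRightDerivedUnit DerivedCategory.Qh
      (HomotopyCategory.quasiIso X.Modules (ComplexShape.up ℤ))).app
        ((HomotopyCategory.quotient X.Modules (ComplexShape.up ℤ)).obj F)) ≪≫
    (DCoh.Rpush f).mapIso ((DerivedCategory.quotientCompQhIso X.Modules).app F)

/-- Pseudo-coherence along a pseudo-coherent finite morphism. -/
theorem isPseudoCoherentD_finite_push_iff [IsFinite f] [DCoh.HasRpush f]
    (hO : ∀ m : ℤ, DCoh.IsPseudoCoherentD m
      (DCoh.inD Y ((Scheme.Modules.pushforward f).obj (Coh.structureModule X))))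
    (m : ℤ) {E : DCoh.D X} (hE : DCoh.IsQCohD E) :
    DCoh.IsPseudoCoherentD m E ↔ DCoh.IsPseudoCoherentD m ((DCoh.Rpush f).obj E) := by
  rw [isPseudoCoherentD_iff_rel (pcBase_of_finite f hO) m E,
    isPseudoCoherentD_iff_rel (pcBase_of_flat (𝟙 Y)) m]
  exact isPseudoCoherentRel_push_iff f (Category.comp_id f) hE

end Groth.Agent.H56.RelPC
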