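import Groth.Agent.H56.RelPC.LevelRing
import Groth.Agent.H54.PCBaseChange

/-!
Flat base change of presentations pseudo-coherent at one level.
-/

set_option autoImplicit false
set_option linter.style.haveILetI false

universe u

open CategoryTheory Limits AlgebraicGeometry
open Groth.Agent.Lib.DR
open Groth.Agent.Lib.DR.Basic Groth.Agent.Lib.DR.FiniteComplex Groth.Agent.Lib.DR.PseudoCoherent
open Groth.Agent.H54.PCRestrict
open scoped TensorProduct

attribute [local instance] HasDerivedCategory.standard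

namespace Groth.Agent.H56.RelPC

attribute [local instance] MvPolynomial.algebraMvPolynomial in
theorem pcn_flat_baseChange {R R' A A' : Type u} [CommRing R] [CommRing R'] [CommRing A] [CommRing A']
    [Algebra R R'] [Algebra R A] [Algebra R A'] [Algebra R' A'] [Algebra A A'] [IsScalarTower R R' A']
    [IsScalarTower R A A'] [hP : Algebra.IsPushout R R' A A'] [Module.Flat R R'] {n : ℕ}
    (α : MvPolynomial (Fin n) R →ₐ[R] A) (hα : Function.Surjective α) {m : ℤ}
    (h : PCn (ff (MvPolynomial (Fin n) R)) m ((sgl _ 0).obj ((res α.toRingHom).obj (ModuleCat.of A A)))) :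
    ∃ β : MvPolynomial (Fin n) R' →ₐ[R'] A', Function.Surjective β ∧
      PCn (ff (MvPolynomial (Fin n) R')) m
        ((sgl _ 0).obj ((res β.toRingHom).obj (ModuleCat.of A' A'))) := by
  let β : MvPolynomial (Fin n) R' →ₐ[R'] A' :=
    MvPolynomial.aeval fun i => algebraMap A A' (α (MvPolynomial.X i))
  letI : Algebra (MvPolynomial (Fin n) R) A := α.toRingHom.toAlgebra
  letI : Algebra (MvPolynomial (Fin n) R') A' := β.toRingHom.toAlgebra
  letI : Algebra (MvPolynomial (Fin n) R) A' := ((algebraMap A A').comp α.toRingHom).toAlgebra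
  haveI : IsScalarTower R (MvPolynomial (Fin n) R) A :=
    .of_algebraMap_eq fun r => (α.commutes r).symm
  haveI : IsScalarTower (MvPolynomial (Fin n) R) A A' := .of_algebraMap_eq fun _ => rfl
  haveI : IsScalarTower R' (MvPolynomial (Fin n) R') A' :=
    .of_algebraMap_eq fun r => (β.commutes r).symm
  haveI : IsScalarTower R (MvPolynomial (Fin n) R') A' := .of_algebraMap_eq fun r => by
    rw [IsScalarTower.algebraMap_apply R R' (MvPolynomial (Fin n) R'),
      IsScalarTower.algebraMap_apply R R' A']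
    exact (β.commutes _).symm
  haveI : IsScalarTower (MvPolynomial (Fin n) R) (MvPolynomial (Fin n) R') A' := by
    refine .of_algebraMap_eq' (MvPolynomial.ringHom_ext (fun r => ?_) fun i => ?_)
    · show algebraMap A A' (α (MvPolynomial.C r)) = β (MvPolynomial.map _ (MvPolynomial.C r))
      rw [MvPolynomial.map_C, ← MvPolynomial.algebraMap_eq, ← MvPolynomial.algebraMap_eq,
        α.commutes, β.commutes, ← IsScalarTower.algebraMap_apply, ← IsScalarTower.algebraMap_apply]
    · show algebraMap A A' (α (MvPolynomial.X i)) = β (MvPolynomial.map _ (MvPolynomial.X i))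
      rw [MvPolynomial.map_X]
      exact (MvPolynomial.aeval_X (R := R') (fun i => algebraMap A A' (α (MvPolynomial.X i))) i).symm
  haveI hQ : Algebra.IsPushout R (MvPolynomial (Fin n) R) R' (MvPolynomial (Fin n) R') := inferInstance
  haveI : Module.Flat (MvPolynomial (Fin n) R) (MvPolynomial (Fin n) R') :=
    Module.Flat.isBaseChange (R := R) (S := MvPolynomial (Fin n) R) (M := R')
      (MvPolynomial (Fin n) R') hQ.out
  haveI : Algebra.IsPushout (MvPolynomial (Fin n) R) (MvPolynomial (Fin n) R') A A' :=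
    (Algebra.IsPushout.comp_iff R (MvPolynomial (Fin n) R) R' (MvPolynomial (Fin n) R') (T := A) (T' := A')).1
      hP.symm |>.symm
  let e := Algebra.IsPushout.equiv (MvPolynomial (Fin n) R) (MvPolynomial (Fin n) R') A A'
  refine ⟨β, fun y => ?_, ?_⟩
  · obtain ⟨p, hp⟩ := Algebra.TensorProduct.includeLeft_surjective (R := MvPolynomial (Fin n) R)
      (T := A) (MvPolynomial (Fin n) R') (MvPolynomial (Fin n) R') hα (e.symm y)
    exact ⟨p, ((e.commutes p).symm.trans (congrArg e hp)).trans (e.apply_symm_apply y)⟩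
  · have h' : DRing.IsPseudoCoherentModule (MvPolynomial (Fin n) R) m A :=
      (isPseudoCoherent_iff _ _).2
        (h.of_iso ((sgl _ 0).mapIso (FlatBC.resEquiv (MvPolynomial (Fin n) R) A).toModuleIso))
    exact ((isPseudoCoherent_iff _ _).1
      ((Groth.Agent.S7000.result (B := MvPolynomial (Fin n) R') m A).1 h')).of_iso
        ((sgl _ 0).mapIso ((e.toLinearEquiv.trans
          (FlatBC.resEquiv (MvPolynomial (Fin n) R') A').symm).toModuleIso))

end Groth.Agent.H56.RelPC

namespace Groth.Agent.H56.RelPC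

open Groth.Agent.Lib Groth.Agent.Lib.Perfect.Basic Groth.Agent.Lib.Perfect.PseudoCoh

/-- The test for the structure module at one level. -/
theorem ringTest_unit_iff {X : Scheme.{u}} {U : X.Opens} (hU : IsAffineOpen U) {P : Type u}
    [CommRing P] {φ : P →+* Γ(X, U)} (hφ : Function.Surjective φ) (s : ℤ) :
    RingTest s (DCoh.toD X (DerSch.unitCx X)) U φ ↔
      PCn (ff P) s ((sgl P 0).obj ((res φ).obj (ModuleCat.of Γ(X, U) Γ(X, U)))) := by
  rw [← pcStrAt_spec_iff φ hφ s]
  haveI := isClosedImmersion_imm hU hφ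
  haveI : IsClosedImmersion (Spec.map (CommRingCat.ofHom φ)) :=
    IsClosedImmersion.spec_of_surjective _ hφ
  haveI : IsIso U.toSpecΓ := by rw [← hU.isoSpec_hom]; infer_instance
  let hi : DCoh.inD X (Coh.structureModule X) ≅ DCoh.toD X (DerSch.unitCx X) :=
    (DerivedCategory.singleFunctorIsoCompQ X.Modules 0).app (Coh.structureModule X)
  let i := (GD (imm U φ) U.ι).mapIso hi.symm ≪≫ GDinD _ _ _ ≪≫
    (DerivedCategory.singleFunctor _ 0).mapIso
      ((Scheme.Modules.pushforward (imm U φ)).mapIso (Scheme.Modules.restrictUnitIso U.ι))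
  constructor
  · rintro ⟨_, h⟩
    exact (PCStrAt.comp (fun x => pcStr_of_isIso (inv U.toSpecΓ) s x)
      (show PCStrAt s (imm U φ) from fun x => (h x).of_iso i)).of_eq (IsIso.inv_hom_id_assoc _ _)
  · intro h
    exact ⟨‹_›, fun x =>
      (PCStrAt.comp (fun x => pcStr_of_isIso U.toSpecΓ s x) h x).of_iso i.symm⟩

theorem hasTest_congr {X S : Scheme.{u}} {f : X ⟶ S} {U U' : X.Opens} {V : S.Opens} (e : U = U')
    {h : U ≤ f ⁻¹ᵁ V} {h' : U' ≤ f ⁻¹ᵁ V} {m : ℤ} {K : DCoh.D X} (hT : HasTest f U V h m K) :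
    HasTest f U' V h' m K := by
  subst e
  exact hT

/-- Flat base change of morphisms pseudo-coherent at one level. -/
theorem isNPseudoCoherent_baseChange {X S X' S' : Scheme.{u}} {f : X ⟶ S} {f' : X' ⟶ S'}
    {g' : X' ⟶ X} {g : S' ⟶ S} [LocallyOfFiniteType f] [Flat g] (hc : IsPullback g' f' f g) {n : ℤ}
    (hf : DerSch.IsNPseudoCoherent f n) : DerSch.IsNPseudoCoherent f' n := by
  haveI : LocallyOfFiniteType f' :=
    MorphismProperty.of_isPullback (P := @LocallyOfFiniteType) hc inferInstance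
  refine isPseudoCoherentRel_of_hasTest fun U' V' hle => ?_
  have hft : (f'.appLE (V' : S'.Opens) (U' : X'.Opens) hle).hom.FiniteType :=
    LocallyOfFiniteType.finiteType_appLE f' V'.2 U'.2 hle
  algebraize [(f'.appLE (V' : S'.Opens) (U' : X'.Opens) hle).hom]
  obtain ⟨k, φ, hφ⟩ := Algebra.FiniteType.iff_quotient_mvPolynomial''.1 ‹_›
  refine hasTest_of_locally U'.2 (φ := φ.toRingHom) hφ (RingHom.ext fun r => φ.commutes r)
    fun z hz => ?_
  obtain ⟨W, hW, hzW, -⟩ :=
    exists_isAffineOpen_mem_and_subset (X := S) (x := g (f' z)) (U := ⊤) trivial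
  obtain ⟨r, hr, hzr⟩ := V'.2.exists_basicOpen_le (V := g ⁻¹ᵁ W) ⟨f' z, hzW⟩ (hle hz)
  have hxW : f (g' z) ∈ W := by
    rw [← Scheme.Hom.comp_apply, hc.w, Scheme.Hom.comp_apply]
    exact hzW
  obtain ⟨U, hU, hzU, hUW⟩ :=
    exists_isAffineOpen_mem_and_subset (X := X) (x := g' z) (U := f ⁻¹ᵁ W) hxW
  let UY := g' ⁻¹ᵁ U ⊓ f' ⁻¹ᵁ S'.basicOpen r
  have hp := Scheme.Hom.isPullback_resLE hc hr hUW (rfl : UY = _)
  have hUY : IsAffineOpen UY := by
    haveI : IsAffine W.toScheme := hW
    haveI : IsAffine (S'.basicOpen r).toScheme := V'.2.basicOpen r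
    haveI : IsAffine U.toScheme := hU
    exact .of_isIso hp.isoPullback.hom
  have hT : HasTest f' UY (S'.basicOpen r) inf_le_right n (DCoh.toD X' (DerSch.unitCx X')) := by
    obtain ⟨l, α₀, hαC, hα⟩ := pcBaseAt_of_isNPseudoCoherent hf U W hU hW hUW
    have hpush := (isIso_pushoutSection_iff hc hr hUW (rfl : UY = _)).mp
      (isIso_pushoutSection_of_isAffineOpen hc hr hUW rfl hW (V'.2.basicOpen r) hU)
    have hflat := g.flat_appLE hW (V'.2.basicOpen r) hr
    let a := (f.appLE W U hUW).hom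
    let b := (g.appLE W (S'.basicOpen r) hr).hom
    let c := (g'.appLE U UY inf_le_left).hom
    let d := (f'.appLE (S'.basicOpen r) UY inf_le_right).hom
    letI := a.toAlgebra
    letI := b.toAlgebra
    letI := c.toAlgebra
    letI := d.toAlgebra
    letI := (c.comp a).toAlgebra
    haveI : IsScalarTower Γ(S, W) Γ(X, U) Γ(X', UY) := .of_algebraMap_eq' rfl
    haveI : Module.Flat Γ(S, W) Γ(S', S'.basicOpen r) := hflat
    haveI : IsScalarTower Γ(S, W) Γ(S', S'.basicOpen r) Γ(X', UY) :=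
      .of_algebraMap_eq' (congrArg CommRingCat.Hom.hom hpush.w)
    haveI : Algebra.IsPushout Γ(S, W) Γ(S', S'.basicOpen r) Γ(X, U) Γ(X', UY) :=
      CommRingCat.isPushout_iff_isPushout.mp hpush.flip
    let α : MvPolynomial (Fin l) Γ(S, W) →ₐ[Γ(S, W)] Γ(X, U) :=
      { α₀ with commutes' := fun r => RingHom.congr_fun hαC r }
    obtain ⟨β, hβ, hβ'⟩ := pcn_flat_baseChange (R' := Γ(S', S'.basicOpen r)) (A' := Γ(X', UY)) α
      hα.surjective ((pcStrAt_spec_iff _ hα.surjective n).1 hα.pcStr)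
    exact ⟨Fin l, inferInstance, β.toRingHom, hβ, RingHom.ext fun r => β.commutes r,
      (ringTest_unit_iff hUY hβ n).2 hβ'⟩
  obtain ⟨a₁, a₂, haa, hza⟩ :=
    exists_basicOpen_le_affine_inter U'.2 hUY z ⟨hz, ⟨hzU, hzr⟩⟩
  refine ⟨a₁, hza, ?_⟩
  exact (hasTest_congr haa.symm (h' := fun x hx => ((haa ▸ X'.basicOpen_le a₂ :
    X'.basicOpen a₁ ≤ UY) hx).2) (hT.basicOpen hUY a₂)).of_base V'.2 (U'.2.basicOpen a₁) r _

end Groth.Agent.H56.RelPC
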