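import Groth.Agent.H56.RelPC.FlatChart

/-!
Flat base change of relative pseudo-coherence.
-/

set_option autoImplicit false
set_option linter.style.haveILetI false

universe u

open CategoryTheory Limits AlgebraicGeometry TopologicalSpace Opposite

namespace Groth.Agent.H56.RelPC

open Groth.Agent.Lib Groth.Agent.Lib.Perfect.Basic Groth.Agent.Lib.Perfect.PseudoCoh
open Groth.Agent.Lib.Perfect.Ascent

attribute [local instance] HasDerivedCategory.standard

set_option backward.isDefEq.respectTransparency.types false in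
attribute [local instance] MvPolynomial.algebraMvPolynomial in
/-- The base change of a presentation. -/
theorem exists_pres_baseChange {R R' A A' : CommRingCat.{u}} {a : R ⟶ A} {b : R ⟶ R'} {c : A ⟶ A'}
    {d : R' ⟶ A'} (h : IsPushout b a d c) {n : ℕ} {α : MvPolynomial (Fin n) R →+* A}
    (hα : Function.Surjective α) (hC : α.comp MvPolynomial.C = a.hom) :
    ∃ β : MvPolynomial (Fin n) R' →+* A', Function.Surjective β ∧
      β.comp MvPolynomial.C = d.hom ∧
      IsPushout (CommRingCat.ofHom (MvPolynomial.map (σ := Fin n) b.hom)) (CommRingCat.ofHom α)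
        (CommRingCat.ofHom β) c := by
  let P := MvPolynomial (Fin n) R
  let P' := MvPolynomial (Fin n) R'
  let βh : P' →+* A' := MvPolynomial.eval₂Hom d.hom fun i => c.hom (α (MvPolynomial.X i))
  have hβC : βh.comp MvPolynomial.C = d.hom := MvPolynomial.eval₂Hom_comp_C _ _
  letI := a.hom.toAlgebra
  letI := b.hom.toAlgebra
  letI := c.hom.toAlgebra
  letI := d.hom.toAlgebra
  letI := (c.hom.comp a.hom).toAlgebra
  letI : Algebra P A := α.toAlgebra
  letI : Algebra P' A' := βh.toAlgebra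
  letI : Algebra P A' := (c.hom.comp α).toAlgebra
  haveI : IsScalarTower R A A' := .of_algebraMap_eq' rfl
  haveI : IsScalarTower R R' A' := .of_algebraMap_eq' (congrArg CommRingCat.Hom.hom h.w).symm
  haveI hP : Algebra.IsPushout R R' A A' := CommRingCat.isPushout_iff_isPushout.mp h
  haveI : IsScalarTower R P A := .of_algebraMap_eq' hC.symm
  haveI : IsScalarTower P A A' := .of_algebraMap_eq' rfl
  haveI : IsScalarTower R' P' A' := .of_algebraMap_eq' hβC.symm
  haveI : IsScalarTower R P' A' := .of_algebraMap_eq fun r => by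
    rw [IsScalarTower.algebraMap_apply R R' P', ← IsScalarTower.algebraMap_apply R' P' A',
      ← IsScalarTower.algebraMap_apply R R' A']
  haveI : IsScalarTower P P' A' := by
    refine .of_algebraMap_eq' (MvPolynomial.ringHom_ext (fun r => ?_) fun i => ?_)
    · show c.hom (α (MvPolynomial.C r)) = βh (MvPolynomial.map _ (MvPolynomial.C r))
      rw [MvPolynomial.map_C, MvPolynomial.eval₂Hom_C]
      exact (congrArg c.hom (RingHom.congr_fun hC r)).trans
        (RingHom.congr_fun (congrArg CommRingCat.Hom.hom h.w) r).symm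
    · show c.hom (α (MvPolynomial.X i)) = βh (MvPolynomial.map _ (MvPolynomial.X i))
      rw [MvPolynomial.map_X, MvPolynomial.eval₂Hom_X']
  haveI hQ : Algebra.IsPushout R P R' P' := inferInstance
  haveI hPA : Algebra.IsPushout P P' A A' :=
    (Algebra.IsPushout.comp_iff R P R' P' (T := A) (T' := A')).1 hP.symm |>.symm
  refine ⟨βh, fun y => ?_, hβC, CommRingCat.isPushout_of_isPushout P P' A A'⟩
  let e := Algebra.IsPushout.equiv P P' A A'
  obtain ⟨p, hp⟩ := Algebra.TensorProduct.includeLeft_surjective (R := P) (T := A) P' P' hα (e.symm y)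
  exact ⟨p, ((e.commutes p).symm.trans (congrArg e hp)).trans (e.apply_symm_apply y)⟩

attribute [local instance] MvPolynomial.algebraMvPolynomial in
theorem flat_spec_map {R R' : CommRingCat.{u}} {b : R ⟶ R'} (hb : b.hom.Flat) (n : ℕ) :
    Flat (Spec.map (CommRingCat.ofHom (MvPolynomial.map (σ := Fin n) b.hom))) := by
  letI := b.hom.toAlgebra
  haveI : Module.Flat R R' := hb
  haveI hQ : Algebra.IsPushout R (MvPolynomial (Fin n) R) R' (MvPolynomial (Fin n) R') := inferInstance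
  exact Flat.SpecMap_iff.2 (RingHom.flat_algebraMap_iff.2
    (Module.Flat.isBaseChange (R := R) (S := MvPolynomial (Fin n) R) (M := R')
      (MvPolynomial (Fin n) R') hQ.out))

variable {X S X' S' : Scheme.{u}} {f : X ⟶ S} {f' : X' ⟶ S'} {g' : X' ⟶ X} {g : S' ⟶ S}

theorem flat_of_isPullback [Flat g] (hc : IsPullback g' f' f g) : Flat g' :=
  MorphismProperty.of_isPullback (P := @Flat) hc.flip ‹Flat g›

/-- The base change of a pair of charts. -/
structure BCData (hc : IsPullback g' f' f g) (U : X.Opens) (W : S.Opens) (V : S'.Opens)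
    (α : Σ n : ℕ, MvPolynomial (Fin n) Γ(S, W) →+* Γ(X, U)) : Prop where
  affine : IsAffineOpen (g' ⁻¹ᵁ U ⊓ f' ⁻¹ᵁ V)
  exists_pres : ∀ hVW : V ≤ g ⁻¹ᵁ W, ∃ β : MvPolynomial (Fin α.1) Γ(S', V) →+* Γ(X', g' ⁻¹ᵁ U ⊓ f' ⁻¹ᵁ V),
    Function.Surjective β ∧ β.comp MvPolynomial.C = (f'.appLE V _ inf_le_right).hom ∧
      IsPushout (CommRingCat.ofHom (MvPolynomial.map (σ := Fin α.1) (g.appLE W V hVW).hom))
        (CommRingCat.ofHom α.2) (CommRingCat.ofHom β)
        (g'.appLE U (g' ⁻¹ᵁ U ⊓ f' ⁻¹ᵁ V) inf_le_left)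

theorem exists_bcData (hc : IsPullback g' f' f g) {U : X.Opens} {W : S.Opens} {V : S'.Opens}
    (hU : IsAffineOpen U) (hW : IsAffineOpen W) (hV : IsAffineOpen V) (hVW : V ≤ g ⁻¹ᵁ W)
    (hUW : U ≤ f ⁻¹ᵁ W) {n : ℕ} {α : MvPolynomial (Fin n) Γ(S, W) →+* Γ(X, U)}
    (hα : Function.Surjective α) (hC : α.comp MvPolynomial.C = (f.appLE W U hUW).hom) :
    BCData hc U W V ⟨n, α⟩ := by
  let UY := g' ⁻¹ᵁ U ⊓ f' ⁻¹ᵁ V
  have hp := Scheme.Hom.isPullback_resLE hc hVW hUW (rfl : UY = _)
  refine ⟨?_, fun hVW' => ?_⟩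
  · haveI : IsAffine W.toScheme := hW
    haveI : IsAffine V.toScheme := hV
    haveI : IsAffine U.toScheme := hU
    exact .of_isIso hp.isoPullback.hom
  · have hpush := (isIso_pushoutSection_iff hc hVW hUW (rfl : UY = _)).mp
      (isIso_pushoutSection_of_isAffineOpen hc hVW hUW rfl hW hV hU)
    exact exists_pres_baseChange hpush.flip hα hC

/-- Cohomology restricted to a chart is quasi-coherent. -/
theorem isQCoh_restrict {K : DCoh.D X} {i : ℤ} (h : Coh.IsQCoh (DCoh.HD K i)) (U : X.Opens) :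
    Coh.IsQCoh ((Scheme.Modules.restrictFunctor U.ι).obj (DCoh.HD K i)) :=
  @Scheme.Modules.isQuasicoherent_restrictFunctor _ _ U.ι _ _ h

/-- Flat base change. -/
theorem isPseudoCoherentRel_baseChange [LocallyOfFiniteType f] [Flat g] (hc : IsPullback g' f' f g)
    [Flat g'] {m : ℤ} {K : DCoh.D X} (hK : DerSch.IsPseudoCoherentRel f m K) :
    DerSch.IsPseudoCoherentRel f' m ((FPD g').obj K) := by
  haveI : LocallyOfFiniteType f' :=
    MorphismProperty.of_isPullback (P := @LocallyOfFiniteType) hc inferInstance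
  refine isPseudoCoherentRel_of_hasTest fun U' V' hle => ?_
  have hft : (f'.appLE (V' : S'.Opens) (U' : X'.Opens) hle).hom.FiniteType :=
    LocallyOfFiniteType.finiteType_appLE f' V'.2 U'.2 hle
  algebraize [(f'.appLE (V' : S'.Opens) (U' : X'.Opens) hle).hom]
  obtain ⟨k, φ, hφ⟩ := Algebra.FiniteType.iff_quotient_mvPolynomial''.1 ‹_›
  refine hasTest_of_locally U'.2 (φ := φ.toRingHom) hφ (RingHom.ext fun r => φ.commutes r)
    fun z hz => ?_
  obtain ⟨W, hW, hzW, -⟩ :=
    exists_isAffineOpen_mem_and_subset (X := S) (x := g (f' z)) (U := ⊤) trivial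
  obtain ⟨r, hr, hzr⟩ := V'.2.exists_basicOpen_le (V := g ⁻¹ᵁ W) ⟨f' z, hzW⟩ (hle hz)
  have hxW : f (g' z) ∈ W := by
    rw [← Scheme.Hom.comp_apply, hc.w, Scheme.Hom.comp_apply]
    exact hzW
  obtain ⟨U, hU, hzU, hUW⟩ :=
    exists_isAffineOpen_mem_and_subset (X := X) (x := g' z) (U := f ⁻¹ᵁ W) hxW
  let UY := g' ⁻¹ᵁ U ⊓ f' ⁻¹ᵁ S'.basicOpen r
  have hftU : (f.appLE W U hUW).hom.FiniteType := LocallyOfFiniteType.finiteType_appLE f hW hU hUW
  algebraize [(f.appLE W U hUW).hom]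
  obtain ⟨n, α₀, hα⟩ := Algebra.FiniteType.iff_quotient_mvPolynomial''.1 hftU
  let α : MvPolynomial (Fin n) Γ(S, W) →+* Γ(X, U) := α₀.toRingHom
  have hC : α.comp MvPolynomial.C = (f.appLE W U hUW).hom := RingHom.ext fun r => α₀.commutes r
  obtain ⟨hUY, hpres⟩ := exists_bcData hc hU hW (V'.2.basicOpen r) hr hUW hα hC
  obtain ⟨β, hβ, hβC, hp⟩ := hpres hr
  haveI : Flat (Spec.map (CommRingCat.ofHom (MvPolynomial.map (σ := Fin n)
      (g.appLE W (S'.basicOpen r) hr).hom))) :=
    flat_spec_map (g.flat_appLE hW (V'.2.basicOpen r) hr) n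
  haveI := isClosedImmersion_imm hU (φ := α) hα
  haveI := isClosedImmersion_imm hUY hβ
  obtain ⟨F, hF⟩ := exists_bc_test hU hUY inf_le_left hα hβ hp K
  have hT : HasTest f' UY (S'.basicOpen r) inf_le_right m ((FPD g').obj K) :=
    ⟨Fin n, inferInstance, β, hβ, hβC, ‹_›, fun x => pcAt_of_good
      (hF m fun i hi => isQCoh_restrict (isQCoh_homology hK i hi) U)
      (pcAt_FPD _ (pcAt_of_isPseudoCoherentRel hK hU hW hα hC) x)⟩
  obtain ⟨a₁, a₂, haa, hza⟩ :=
    exists_basicOpen_le_affine_inter U'.2 hUY z ⟨hz, ⟨hzU, hzr⟩⟩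
  refine ⟨a₁, hza, ?_⟩
  exact (hasTest_congr haa.symm (h' := fun x hx => ((haa ▸ X'.basicOpen_le a₂ :
    X'.basicOpen a₁ ≤ UY) hx).2) (hT.basicOpen hUY a₂)).of_base V'.2 (U'.2.basicOpen a₁) r _

end Groth.Agent.H56.RelPC
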