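import Groth.Agent.H56.RelPC.Bridge
import Groth.Agent.S0997

/-!
The chart test of a complex of the form `M~` on an affine open in terms of `M`.
-/

set_option autoImplicit false
set_option linter.style.haveILetI false

universe u

open CategoryTheory Limits AlgebraicGeometry TopologicalSpace Opposite

namespace Groth.Agent.H56.RelPC

open Groth.Agent.Lib Groth.Agent.Lib.Perfect.Basic Groth.Agent.Lib.Perfect.PseudoCoh
open Groth.Agent.Lib.DR.Basic Groth.Agent.Lib.DR.FiniteComplex Groth.Agent.Lib.DR.PseudoCoherent

attribute [local instance] HasDerivedCategory.standard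

section

variable {P A : CommRingCat.{u}} (φ : P ⟶ A)

set_option backward.isDefEq.respectTransparency false in
/-- Global sections of a direct image between affine schemes. -/
noncomputable def sectionsPushIso :
    Scheme.Modules.pushforward (Spec.map φ) ⋙ QCoh.Tilde.specΓ P ≅
      QCoh.Tilde.specΓ A ⋙ ModuleCat.restrictScalars φ.hom :=
  Functor.isoWhiskerRight (AlgebraicGeometry.pushforwardCompModulesSpecToSheafIso φ)
    (TopCat.Sheaf.forget _ _ ⋙ (evaluation _ _).obj (op ⊤))

variable [IsAffineHom (Spec.map φ)]

/-- Restriction of scalars is direct image. -/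
noncomputable def pushTildeApp (M : ModuleCat.{u} A) :
    (Scheme.Modules.pushforward (Spec.map φ)).obj ((tilde.functor A).obj M) ≅
      (tilde.functor P).obj ((ModuleCat.restrictScalars φ.hom).obj M) :=
  haveI := QCoh.Tilde.isQCoh_tildeFunctor_obj (R := A) M
  haveI : ((Scheme.Modules.pushforward (Spec.map φ)).obj ((tilde.functor A).obj M)).IsQuasicoherent :=
    QCoh.Pushforward.isQCoh_pushforward (Spec.map φ)
  (QCoh.Tilde.isoTildeSections _).symm ≪≫ (tilde.functor P).mapIso
    ((sectionsPushIso φ).app _ ≪≫ (ModuleCat.restrictScalars φ.hom).mapIso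
      (QCoh.Tilde.sectionsTildeIso.app M).symm)

/-- Restriction of scalars is direct image, naturally. -/
noncomputable def pushTilde :
    tilde.functor A ⋙ Scheme.Modules.pushforward (Spec.map φ) ≅
      ModuleCat.restrictScalars φ.hom ⋙ tilde.functor P :=
  NatIso.ofComponents (pushTildeApp φ) fun {M N} g => by
    rw [← Iso.inv_comp_eq]
    simp only [pushTildeApp, Iso.trans_inv, Functor.mapIso_inv, Iso.symm_inv, Iso.trans_hom,
      Functor.mapIso_hom, Iso.symm_hom, Iso.app_inv, Iso.app_hom, Category.assoc, Functor.comp_map]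
    have h1 : ∀ {F G : (Spec P).Modules} [F.IsQuasicoherent] [G.IsQuasicoherent] (t : F ⟶ G),
        (QCoh.Tilde.isoTildeSections F).hom ≫ t ≫ (QCoh.Tilde.isoTildeSections G).inv =
          (tilde.functor P).map ((QCoh.Tilde.specΓ P).map t) := by
      intro F G _ _ t
      rw [← Category.assoc, Iso.comp_inv_eq]
      exact ((Scheme.Modules.fromTildeΓNatTrans (R := P)).naturality t).symm
    haveI : ∀ M : ModuleCat.{u} A,
        ((Scheme.Modules.pushforward (Spec.map φ)).obj ((tilde.functor A).obj M)).IsQuasicoherent :=
      fun M => haveI := QCoh.Tilde.isQCoh_tildeFunctor_obj (R := A) M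
        QCoh.Pushforward.isQCoh_pushforward (Spec.map φ)
    erw [reassoc_of% (h1 ((Scheme.Modules.pushforward (Spec.map φ)).map ((tilde.functor A).map g)))]
    erw [← Functor.map_comp, ← Functor.map_comp]
    congr 1
    have h2 := (sectionsPushIso φ).hom.naturality ((tilde.functor A).map g)
    simp only [Functor.comp_map] at h2
    rw [reassoc_of% h2, Category.assoc, Iso.inv_hom_id_app_assoc]
    erw [← Functor.map_comp, ← Functor.map_comp]
    congr 1
    rw [← Iso.app_hom, ← Iso.app_inv]
    simp only [Iso.app_hom, Iso.app_inv]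
    exact NatIso.naturality_2 QCoh.Tilde.sectionsTildeIso g

variable [PreservesFiniteLimits (tilde.functor A)] [PreservesFiniteLimits (tilde.functor P)]
  [IsClosedImmersion (Spec.map φ)]

set_option backward.isDefEq.respectTransparency.types false in
/-- Restriction of scalars is direct image, on derived categories. -/
noncomputable def pushTildeD (M : Dual.D A) :
    (PD (Spec.map φ)).obj ((DCoh.tildeD A).obj M) ≅
      (DCoh.tildeD P).obj ((DRing.restrictD φ.hom).obj M) :=
  let i := DerivedCategory.Q.objObjPreimageIso M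
  let C := DerivedCategory.Q.objPreimage M
  (PD (Spec.map φ)).mapIso ((DCoh.tildeD A).mapIso i.symm ≪≫ DR.ExactPush.mapQ (tilde.functor A) C) ≪≫
    DR.ExactPush.mapQ (Scheme.Modules.pushforward (Spec.map φ)) _ ≪≫
    DerivedCategory.Q.mapIso ((NatIso.mapHomologicalComplex (pushTilde φ) _).app C) ≪≫
    (DR.ExactPush.mapQ (tilde.functor P)
      (((ModuleCat.restrictScalars.{u} φ.hom).mapHomologicalComplex (ComplexShape.up ℤ)).obj C)).symm ≪≫
    (DCoh.tildeD P).mapIso ((DR.ExactPush.mapQ (ModuleCat.restrictScalars.{u} φ.hom) C).symm ≪≫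
      (DRing.restrictD φ.hom).mapIso i)

end

end Groth.Agent.H56.RelPC
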