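import Groth.Agent.H56.RelPC.FlatPull
import Groth.Agent.H56.RelPC.FlatBC
import Groth.Agent.H56.RelPC.PushTilde
import Groth.Agent.H56.RelPC.Rules

/-!
Flat inverse image of the chart test.
-/

set_option autoImplicit false
set_option linter.style.haveILetI false

universe u

open CategoryTheory Limits AlgebraicGeometry TopologicalSpace Opposite
open scoped TensorProduct

namespace Groth.Agent.H56.RelPC

open Groth.Agent.Lib Groth.Agent.Lib.Perfect.Basic Groth.Agent.Lib.Perfect.PseudoCoh
open Groth.Agent.Lib.Perfect.Ascent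

attribute [local instance] HasDerivedCategory.standard

set_option backward.isDefEq.respectTransparency.types false in
/-- Extension of scalars along a pushout square of rings, after restriction of scalars. -/
theorem nonempty_extendRes_iso {P P' A A' : CommRingCat.{u}} {b : P ⟶ P'} {α : P ⟶ A}
    {β : P' ⟶ A'} {c : A ⟶ A'} (h : IsPushout b α β c) (M : ModuleCat.{u} A) :
    Nonempty ((ModuleCat.extendScalars.{u, u, u} b.hom).obj
        ((ModuleCat.restrictScalars.{u} α.hom).obj M) ≅
      (ModuleCat.restrictScalars.{u} β.hom).obj ((ModuleCat.extendScalars.{u, u, u} c.hom).obj M)) := by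
  letI := b.hom.toAlgebra
  letI := α.hom.toAlgebra
  letI := β.hom.toAlgebra
  letI := c.hom.toAlgebra
  letI := (c.hom.comp α.hom).toAlgebra
  haveI : IsScalarTower P A A' := .of_algebraMap_eq' rfl
  haveI : IsScalarTower P P' A' := .of_algebraMap_eq' (congrArg CommRingCat.Hom.hom h.w).symm
  haveI : Algebra.IsPushout P P' A A' := CommRingCat.isPushout_iff_isPushout.mp h
  letI : Module P M := Module.compHom M α.hom
  haveI : IsScalarTower P A M := IsScalarTower.of_algebraMap_smul fun r m => rfl
  let e := Algebra.IsPushout.cancelBaseChange P P' A A' M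
  exact ⟨LinearEquiv.toModuleIso
    (X₁ := (ModuleCat.extendScalars.{u, u, u} b.hom).obj
      ((ModuleCat.restrictScalars.{u} α.hom).obj M))
    (X₂ := (ModuleCat.restrictScalars.{u} β.hom).obj
      ((ModuleCat.extendScalars.{u, u, u} c.hom).obj M))
    (AddEquiv.toLinearEquiv
      (M := ((ModuleCat.extendScalars.{u, u, u} b.hom).obj
        ((ModuleCat.restrictScalars.{u} α.hom).obj M) : Type u))
      (M₂ := ((ModuleCat.restrictScalars.{u} β.hom).obj
        ((ModuleCat.extendScalars.{u, u, u} c.hom).obj M) : Type u))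
      e.symm.toAddEquiv
      fun q x => (map_smul e.symm q x).trans (algebra_compatible_smul A' q (e.symm x)))⟩

variable {X X' : Scheme.{u}} {U : X.Opens} {U' : X'.Opens} {P P' : Type u} [CommRing P] [CommRing P']

/-- The square of the immersions of compatible presentations. -/
theorem imm_square {g : X' ⟶ X} (e : U' ≤ g ⁻¹ᵁ U) {α : P →+* Γ(X, U)} {β : P' →+* Γ(X', U')}
    {b : P →+* P'} (hcomm : β.comp b = (g.appLE U U' e).hom.comp α) :
    imm U' β ≫ Spec.map (CommRingCat.ofHom b) = g.resLE U U' e ≫ imm U α := by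
  rw [imm, imm, Category.assoc, ← Spec.map_comp, ← CommRingCat.ofHom_comp, hcomm,
    CommRingCat.ofHom_comp, Spec.map_comp, CommRingCat.ofHom_hom, ← Category.assoc,
    toSpecΓ_resLE, Category.assoc]

set_option backward.isDefEq.respectTransparency.types false in
theorem exists_push_spec (U : X.Opens) {P : CommRingCat.{u}} (α : P ⟶ Γ(X, U))
    [IsClosedImmersion (Spec.map α)] (N : (U : Scheme.{u}).Modules) (M : ModuleCat.{u} Γ(X, U))
    (eM : (tilde.functor Γ(X, U)).obj M ≅ (Scheme.Modules.pushforward U.toSpecΓ).obj N) :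
    Nonempty ((Scheme.Modules.pushforward (U.toSpecΓ ≫ Spec.map α)).obj N ≅
      (tilde.functor P).obj ((ModuleCat.restrictScalars.{u} α.hom).obj M)) :=
  ⟨((Scheme.Modules.pushforwardComp U.toSpecΓ (Spec.map α)).app N).symm ≪≫
    (Scheme.Modules.pushforward (Spec.map α)).mapIso eM.symm ≪≫ (pushTilde α).app M⟩

set_option backward.isDefEq.respectTransparency.types false in
theorem exists_push_spec' (U : X.Opens) [IsIso U.toSpecΓ] {P : CommRingCat.{u}} (α : P ⟶ Γ(X, U))
    [IsClosedImmersion (Spec.map α)] (M : ModuleCat.{u} Γ(X, U)) (L : (Spec Γ(X, U)).Modules)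
    (eM : (tilde.functor Γ(X, U)).obj M ≅ L) :
    Nonempty ((tilde.functor P).obj ((ModuleCat.restrictScalars.{u} α.hom).obj M) ≅
      (Scheme.Modules.pushforward (U.toSpecΓ ≫ Spec.map α)).obj
        ((Scheme.Modules.pushforward (inv U.toSpecΓ)).obj L)) :=
  ⟨((pushTilde α).app M).symm ≪≫ (Scheme.Modules.pushforward (Spec.map α)).mapIso eM ≪≫
    (Scheme.Modules.pushforwardCongr (f := Spec.map α)
      (g := inv U.toSpecΓ ≫ U.toSpecΓ ≫ Spec.map α) (IsIso.inv_hom_id_assoc _ _).symm).app L ≪≫
    ((Scheme.Modules.pushforwardComp (inv U.toSpecΓ) (U.toSpecΓ ≫ Spec.map α)).app L).symm⟩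

set_option backward.isDefEq.respectTransparency.types false in
/-- In a cartesian square of charts the inverse image of a direct image is a direct image. -/
theorem exists_push_iso (hU : IsAffineOpen U) (hU' : IsAffineOpen U') {c : Γ(X, U) ⟶ Γ(X', U')}
    {α : P →+* Γ(X, U)} (hα : Function.Surjective α) {β : P' →+* Γ(X', U')}
    (hβ : Function.Surjective β) {b : P →+* P'}
    (hp : IsPushout (CommRingCat.ofHom b) (CommRingCat.ofHom α) (CommRingCat.ofHom β) c)
    (N : (U : Scheme.{u}).Modules) (hN : Coh.IsQCoh N) :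
    ∃ L : (U' : Scheme.{u}).Modules,
      Nonempty ((Scheme.Modules.pullback (Spec.map (CommRingCat.ofHom b))).obj
          ((Scheme.Modules.pushforward (imm U α)).obj N) ≅
        (Scheme.Modules.pushforward (imm U' β)).obj L) := by
  haveI : IsClosedImmersion (Spec.map (CommRingCat.ofHom α)) :=
    IsClosedImmersion.spec_of_surjective _ hα
  haveI : IsClosedImmersion (Spec.map (CommRingCat.ofHom β)) :=
    IsClosedImmersion.spec_of_surjective _ hβ
  haveI : IsIso U.toSpecΓ := by rw [← hU.isoSpec_hom]; infer_instance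
  haveI : IsIso U'.toSpecΓ := by rw [← hU'.isoSpec_hom]; infer_instance
  haveI := hN
  haveI : SheafOfModules.IsQuasicoherent (R := (Spec Γ(X, U)).ringCatSheaf)
      ((Scheme.Modules.pushforward U.toSpecΓ).obj N) :=
    QCoh.Pushforward.isQCoh_pushforward U.toSpecΓ
  let M := (QCoh.Tilde.specΓ Γ(X, U)).obj ((Scheme.Modules.pushforward U.toSpecΓ).obj N)
  obtain ⟨w⟩ := nonempty_extendRes_iso hp M
  let L' := (tilde.functor Γ(X', U')).obj ((ModuleCat.extendScalars.{u, u, u} c.hom).obj M)
  obtain ⟨e₁⟩ := exists_push_spec (X := X) U (CommRingCat.ofHom α) N M (QCoh.Tilde.isoTildeSections _)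
  obtain ⟨e₂⟩ := exists_push_spec' (X := X') U' (CommRingCat.ofHom β) _ L' (Iso.refl _)
  refine ⟨(Scheme.Modules.pushforward (inv U'.toSpecΓ)).obj L', ⟨?_⟩⟩
  exact (Scheme.Modules.pullback _).mapIso e₁ ≪≫
    (QCoh.Pullback.pullbackTildeIso (CommRingCat.ofHom b)).app _ ≪≫
    (tilde.functor (CommRingCat.of P')).mapIso w ≪≫ e₂

variable {g : X' ⟶ X} [Flat g] (hU : IsAffineOpen U) (hU' : IsAffineOpen U') (e : U' ≤ g ⁻¹ᵁ U)
  {α : P →+* Γ(X, U)} (hα : Function.Surjective α) {β : P' →+* Γ(X', U')}
  (hβ : Function.Surjective β) {b : P →+* P'} [Flat (Spec.map (CommRingCat.ofHom b))]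
  (hp : IsPushout (CommRingCat.ofHom b) (CommRingCat.ofHom α) (CommRingCat.ofHom β)
    (g.appLE U U' e))
include hU hU' hα hβ hp

/-- The comparison of the inverse image of the test with the test of the inverse image. -/
theorem exists_bc_test (K : DCoh.D X) :
    haveI := isClosedImmersion_imm hU hα
    haveI := isClosedImmersion_imm hU' hβ
    ∃ f : (FPD (Spec.map (CommRingCat.ofHom b))).obj ((GD (imm U α) U.ι).obj K) ⟶
        (GD (imm U' β) U'.ι).obj ((FPD g).obj K),
      ∀ m : ℤ, (∀ i, m < i → Coh.IsQCoh ((Scheme.Modules.restrictFunctor U.ι).obj (DCoh.HD K i))) →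
        Good m f := by
  haveI := isClosedImmersion_imm hU hα
  haveI := isClosedImmersion_imm hU' hβ
  have hcomm : β.comp b = (g.appLE U U' e).hom.comp α := congrArg CommRingCat.Hom.hom hp.w
  obtain ⟨f, hf⟩ := exists_bc_GD (imm U α) (imm U' β) (g.resLE U U' e)
    (Spec.map (CommRingCat.ofHom b)) (imm_square e hcomm) U.ι U'.ι g
    (Scheme.Hom.resLE_comp_ι g e).symm K
  exact ⟨f, fun m hm => hf m fun i hi => by
    obtain ⟨L, ⟨eL⟩⟩ := exists_push_iso hU hU' hα hβ hp _ (hm i hi)
    exact isIso_bcMap _ _ eL⟩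

end Groth.Agent.H56.RelPC
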