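import Groth.Agent.H56.RelPC.Bridge
import Groth.Agent.H56.RelPC.Single
import Groth.Agent.H19.FlatLocus.Scheme
import Mathlib.RingTheory.Flat.Localization

/-!
A flat module of finite presentation relative to the base is pseudo-coherent relative to it.
-/

set_option autoImplicit false
set_option linter.style.haveILetI false

universe u

open CategoryTheory Limits AlgebraicGeometry TopologicalSpace Opposite

namespace Groth.Agent.H56.RelPC

open Groth.Agent.Lib Groth.Agent.Lib.Perfect.Basic Groth.Agent.Lib.Perfect.PseudoCoh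
open Groth.Agent.Lib.DR.Basic Groth.Agent.Lib.DR.FiniteComplex Groth.Agent.Lib.DR.PseudoCoherent

attribute [local instance] HasDerivedCategory.standard

variable {X S : Scheme.{u}}

/-- A semilinear bijection is an isomorphism with the restriction of scalars. -/
theorem nonempty_iso_of_semilinear {P B : Type u} [CommRing P] [CommRing B] (φ : P →+* B)
    (N₀ : ModuleCat.{u} P) (N : ModuleCat.{u} B) (ε : N₀ ≃+ N)
    (h : ∀ (a : P) (x : N₀), ε (a • x) = φ a • ε x) :
    Nonempty (N₀ ≅ (H54.PCRestrict.res φ).obj N) :=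
  letI := Module.compHom N φ
  ⟨LinearEquiv.toModuleIso (X₁ := N₀) (X₂ := ModuleCat.of P N)
    { toFun := fun x => ε x
      invFun := fun y => ε.symm y
      left_inv := ε.symm_apply_apply
      right_inv := ε.apply_symm_apply
      map_add' := map_add ε
      map_smul' := fun a x => h a x }⟩

set_option backward.isDefEq.respectTransparency.types false in
/-- Sections of the module pushed to the ambient affine scheme. -/
theorem exists_imgMod_sectionsIso {U : X.Opens} {P : Type u} [CommRing P] (φ : P →+* Γ(X, U))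
    (M : X.Modules) :
    Nonempty ((QCoh.Tilde.specΓ (CommRingCat.of P)).obj (imgMod U φ M) ≅
      (H54.PCRestrict.res φ).obj (ModuleCat.of Γ(X, U) Γ(M, U))) := by
  let Y := Spec (CommRingCat.of P)
  let c := imm U φ
  have e : U.ι ''ᵁ (c ⁻¹ᵁ ⊤) = U := U.ι_image_top
  have hρ : ∀ a : P, X.presheaf.map (eqToHom e.symm).op ((U.ι.appIso (c ⁻¹ᵁ ⊤)).inv
      (c.app ⊤ ((Scheme.ΓSpecIso (CommRingCat.of P)).inv a))) = φ a := fun a => by
    have h1 : (Scheme.ΓSpecIso (CommRingCat.of P)).inv ≫ c.appTop =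
        CommRingCat.ofHom φ ≫ U.topIso.inv := by
      change _ ≫ (U.toSpecΓ ≫ Spec.map (CommRingCat.ofHom φ)).appTop = _
      rw [Scheme.Hom.comp_appTop, ← Scheme.ΓSpecIso_inv_naturality_assoc,
        Scheme.Opens.toSpecΓ_appTop, Iso.inv_hom_id_assoc]
    have h3 : U.topIso.hom (c.appTop ((Scheme.ΓSpecIso (CommRingCat.of P)).inv a)) = φ a :=
      (congrArg U.topIso.hom congr($h1 a)).trans (congr($(Category.assoc _ _ _ |>.trans
        ((congrArg (CommRingCat.ofHom φ ≫ ·) U.topIso.inv_hom_id).trans (Category.comp_id _))) a))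
    refine Eq.trans ?_ h3
    simp [Scheme.Opens.topIso]
    rfl
  let ε := (M.presheaf.mapIso (eqToIso e.symm).op).addCommGroupIsoToAddEquiv
  refine nonempty_iso_of_semilinear φ ((QCoh.Tilde.specΓ (CommRingCat.of P)).obj (imgMod U φ M))
    (ModuleCat.of Γ(X, U) Γ(M, U)) ε fun a x => ?_
  change M.presheaf.map (eqToHom e.symm).op
    ((U.ι.appIso (c ⁻¹ᵁ ⊤)).inv (c.app ⊤ ((Y.presheaf.map (homOfLE
      (le_top (a := (⊤ : Y.Opens)))).op) ((Scheme.ΓSpecIso (CommRingCat.of P)).inv a))) •
      (show Γ(M, U.ι ''ᵁ (c ⁻¹ᵁ ⊤)) from x)) = φ a • (show Γ(M, U) from ε x)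
  rw [show (homOfLE (le_top (a := (⊤ : Y.Opens)))) = 𝟙 _ from Subsingleton.elim _ _]
  simp only [op_id, CategoryTheory.Functor.map_id]
  refine (Scheme.Modules.map_smul _ _ _ _).trans ?_
  exact congrArg (fun r => r • (show Γ(M, U) from ε x)) (hρ a)

/-- Flatness of the sections over affine opens. -/
theorem flat_sections {f : X ⟶ S} {M : X.Modules} [M.IsQuasicoherent]
    (hM : FlatMod.IsFlatOver f M) {U : X.Opens} (hU : IsAffineOpen U) {V : S.Opens}
    (hV : IsAffineOpen V) (h : U ≤ f ⁻¹ᵁ V) :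
    letI := Module.compHom Γ(M, U) (f.appLE V U h).hom
    Module.Flat Γ(S, V) Γ(M, U) := by
  letI : Algebra Γ(S, V) Γ(X, U) := (f.appLE V U h).hom.toAlgebra
  letI : Module Γ(S, V) Γ(M, U) := Module.compHom Γ(M, U) (f.appLE V U h).hom
  haveI : IsScalarTower Γ(S, V) Γ(X, U) Γ(M, U) := IsScalarTower.of_algebraMap_smul fun _ _ => rfl
  refine Module.flat_of_isLocalized_maximal Γ(X, U) Γ(M, U)
    (fun P => LocalizedModule P.primeCompl Γ(M, U))
    (fun P _ => LocalizedModule.mkLinearMap _ _) fun P hP => ?_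
  obtain ⟨⟨x, hx⟩, hxP⟩ := hU.isoSpec.hom.homeomorph.surjective ⟨P, hP.isPrime⟩
  have hxP' : (hU.primeIdealOf ⟨x, hx⟩).asIdeal = P := congrArg PrimeSpectrum.asIdeal hxP
  subst hxP'
  exact (H19.FlatLocus.Scheme.isFlatOverAt_iff f M hV hU h hx).1 (hM x)

/-- A finitely presented module over a polynomial ring, flat over the coefficients. -/
theorem pcn_of_flat_of_finitePresentation {R : Type u} [CommRing R] {σ : Type} [Finite σ]
    (N : ModuleCat.{u} (MvPolynomial σ R)) [Module.FinitePresentation (MvPolynomial σ R) N]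
    [Module R N] [IsScalarTower R (MvPolynomial σ R) N] [Module.Flat R N] (m : ℤ) :
    PCn (ff (MvPolynomial σ R)) m ((H54.PCRestrict.sgl (MvPolynomial σ R) 0).obj N) := by
  obtain ⟨k, K, eK, hK⟩ := Module.FinitePresentation.exists_fin (MvPolynomial σ R) N
  obtain ⟨l, g, hg⟩ := Submodule.fg_iff_exists_fin_generating_family.1 hK
  let e : N ≃ₗ[MvPolynomial σ R] Lib.Flat55.Relations.Quot g :=
    eK.trans (Submodule.quotEquivOfEq _ _ hg.symm)
  haveI : Module.Flat R (Lib.Flat55.Relations.Quot g) :=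
    Module.Flat.of_linearEquiv (e.restrictScalars R).symm
  exact (H54.FlatFP.pcn_of_flat_quot g m).of_iso
    ((H54.PCRestrict.sgl _ 0).mapIso e.toModuleIso.symm)

/-- Relative pseudo-coherence of a flat module of relative finite presentation. -/
theorem isPseudoCoherentRel_inD_of_flat {f : X ⟶ S} [LocallyOfFiniteType f] (M : X.Modules)
    (hM : FlatMod.IsFlatOver f M) (hfp : DerSch.IsPseudoCoherentRel f (-1) (DCoh.inD X M)) (m : ℤ) :
    DerSch.IsPseudoCoherentRel f m (DCoh.inD X M) := by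
  obtain ⟨hq, hR⟩ := (isPseudoCoherentRel_inD_negOne_iff M).1 hfp
  haveI : M.IsQuasicoherent := hq
  refine isPseudoCoherentRel_of_forall fun U hU V hV h n φ hφ hC x => ?_
  haveI := isClosedImmersion_imm hU hφ
  haveI := PCSingle.isQCoh_restrict U.ι M
  haveI : (imgMod U φ M).IsQuasicoherent := QCoh.Pushforward.isQCoh_pushforward _
  let P := MvPolynomial (Fin n) Γ(S, V)
  letI : Algebra Γ(S, V) Γ(X, U) := (f.appLE V U h).hom.toAlgebra
  let φ' : P →ₐ[Γ(S, V)] Γ(X, U) := { φ with commutes' := fun r => RingHom.congr_fun hC r }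
  have hfp' : RelFP.Core.Via φ Γ(M, U) :=
    (RelFP.Core.rel_iff φ' hφ).1 (RelFP.Scheme.relFPOn_of_isRelFP f M hR ⟨U, hU⟩ ⟨V, hV⟩ h)
  obtain ⟨e⟩ := exists_imgMod_sectionsIso φ M
  let N := (H54.PCRestrict.res φ).obj (ModuleCat.of Γ(X, U) Γ(M, U))
  letI : Module Γ(S, V) N := Module.compHom Γ(M, U) (f.appLE V U h).hom
  haveI : Module.Flat Γ(S, V) N := flat_sections hM hU hV h
  haveI : Module.FinitePresentation P N :=
    (RelFP.Core.via_iff (N := Γ(M, U)) φ (inst := N.isModule) fun _ _ => rfl).1 hfp'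
  haveI : IsScalarTower Γ(S, V) P N := IsScalarTower.of_algebraMap_smul fun r y => by
    change φ (MvPolynomial.C r) • (show Γ(M, U) from y) = (f.appLE V U h).hom r • (show Γ(M, U) from y)
    rw [show φ (MvPolynomial.C r) = (f.appLE V U h).hom r from RingHom.congr_fun hC r]
  exact ((pcAt_qcoh_iff (CommRingCat.of P) (imgMod U φ M) N e).2
    (fun k => pcn_of_flat_of_finitePresentation N k) m x).of_iso (GDinD _ _ M).symm

end Groth.Agent.H56.RelPC
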