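import Groth.Agent.H56.RelPC.Push

/-!
Restriction along an open immersion commutes with direct image in a cartesian square.
-/

set_option autoImplicit false
set_option linter.style.haveILetI false

universe u

open CategoryTheory Limits AlgebraicGeometry TopologicalSpace Opposite

namespace Groth.Agent.H56.RelPC

open Groth.Agent.Lib Groth.Agent.Lib.Perfect.Basic Groth.Agent.Lib.Perfect.PseudoCoh

attribute [local instance] HasDerivedCategory.standard

variable {Z X Z' X' : Scheme.{u}} {c : Z ⟶ X} {c' : Z' ⟶ X'} {j : Z' ⟶ Z} {s : X' ⟶ X}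
  [IsOpenImmersion j] [IsOpenImmersion s]

lemma appLE_square (H : c' ≫ s = j ≫ c) (O : X'.Opens) (e : j ''ᵁ (c' ⁻¹ᵁ O) ≤ c ⁻¹ᵁ (s ''ᵁ O))
    (r : Γ(X', O)) :
    c.appLE (s ''ᵁ O) (j ''ᵁ (c' ⁻¹ᵁ O)) e ((s.appIso O).inv r) =
      (j.appIso (c' ⁻¹ᵁ O)).inv (c'.app O r) := by
  apply (j.appIso (c' ⁻¹ᵁ O)).commRingCatIsoToRingEquiv.injective
  change (j.appIso _).hom (c.appLE _ _ e ((s.appIso O).inv r)) =
    (j.appIso _).hom ((j.appIso _).inv (c'.app O r))
  have e1 : O ≤ s ⁻¹ᵁ (s ''ᵁ O) := (s.preimage_image_eq O).ge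
  have e2 : c' ⁻¹ᵁ O ≤ j ⁻¹ᵁ (j ''ᵁ (c' ⁻¹ᵁ O)) := (j.preimage_image_eq _).ge
  have h : c.appLE (s ''ᵁ O) _ e ≫ j.appLE _ (c' ⁻¹ᵁ O) e2 = s.appLE _ O e1 ≫ c'.app O := by
    rw [Scheme.Hom.appLE_comp_appLE, c'.app_eq_appLE, Scheme.Hom.appLE_comp_appLE]
    simp only [H]
  rw [Scheme.Hom.appIso_hom'] at *
  have := congr($h ((s.appIso O).inv r))
  simp only [CommRingCat.comp_apply] at this
  rw [this, ← Scheme.Hom.appIso_hom' s O, ← Scheme.Hom.appIso_hom' j]
  simp

set_option backward.isDefEq.respectTransparency false in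
/-- `(c_* M)|_{X'} = c'_* (M|_{Z'})` for a cartesian square with open immersions. -/
noncomputable def squareIsoApp (H : IsPullback c' j s c) (M : Z.Modules) :
    (Scheme.Modules.restrictFunctor s).obj ((Scheme.Modules.pushforward c).obj M) ≅
      (Scheme.Modules.pushforward c').obj ((Scheme.Modules.restrictFunctor j).obj M) := by
  refine (SheafOfModules.fullyFaithfulForget _).preimageIso <| PresheafOfModules.isoMk (fun O => ?_) ?_
  · refine ModuleCat.isoMk (M.presheaf.mapIso
      (eqToIso (IsOpenImmersion.image_preimage_eq_preimage_image_of_isPullback H O.unop)).op) ?_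
    intro (r : Γ(X', O.unop))
    ext (x : Γ(M, c ⁻¹ᵁ (s ''ᵁ O.unop)))
    symm
    change M.presheaf.map (eqToHom (IsOpenImmersion.image_preimage_eq_preimage_image_of_isPullback H
        O.unop)).op (c.app (s ''ᵁ O.unop) ((s.appIso O.unop).inv r) • x) =
      ((j.appIso (c' ⁻¹ᵁ O.unop)).inv (c'.app O.unop r)) •
        M.presheaf.map (eqToHom (IsOpenImmersion.image_preimage_eq_preimage_image_of_isPullback H
          O.unop)).op x
    rw [Scheme.Modules.map_smul, ← appLE_square H.w O.unop
      (IsOpenImmersion.image_preimage_eq_preimage_image_of_isPullback H O.unop).le r]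
    rfl
  · intro O O' g
    ext (x : Γ(M, c ⁻¹ᵁ (s ''ᵁ O.unop)))
    change (M.presheaf.map _ ≫ M.presheaf.map _) x = (M.presheaf.map _ ≫ M.presheaf.map _) x
    rw [← Functor.map_comp, ← Functor.map_comp]
    rfl

/-- Direct image followed by restriction is restriction followed by direct image. -/
noncomputable def squareIso (H : IsPullback c' j s c) :
    Scheme.Modules.pushforward c ⋙ Scheme.Modules.restrictFunctor s ≅
      Scheme.Modules.restrictFunctor j ⋙ Scheme.Modules.pushforward c' :=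
  NatIso.ofComponents (fun M => squareIsoApp H M) fun {M N} φ => by
    refine (SheafOfModules.fullyFaithfulForget _).map_injective (PresheafOfModules.hom_ext fun O => ?_)
    ext (x : Γ(M, c ⁻¹ᵁ (s ''ᵁ O.unop)))
    exact (ConcreteCategory.congr_hom (φ.mapPresheaf.naturality
      (eqToIso (IsOpenImmersion.image_preimage_eq_preimage_image_of_isPullback H O.unop)).op.hom) x).symm

section Derived

variable {P Q R : Scheme.{u}} (F : P.Modules ⥤ Q.Modules) [F.Additive] [PreservesFiniteLimits F]
  [PreservesFiniteColimits F]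

/-- Isomorphic exact functors agree on derived categories. -/
noncomputable def mapDerivedCongr {F' : P.Modules ⥤ Q.Modules} [F'.Additive]
    [PreservesFiniteLimits F'] [PreservesFiniteColimits F'] (e : F ≅ F') (K : DCoh.D P) :
    F.mapDerivedCategory.obj K ≅ F'.mapDerivedCategory.obj K :=
  let i := DerivedCategory.Q.objObjPreimageIso K
  F.mapDerivedCategory.mapIso i.symm ≪≫ FDQ F _ ≪≫
    DerivedCategory.Q.mapIso ((NatIso.mapHomologicalComplex e _).app _) ≪≫
    (FDQ F' _).symm ≪≫ F'.mapDerivedCategory.mapIso i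

/-- Composites of exact functors on derived categories. -/
noncomputable def mapDerivedComp (F' : Q.Modules ⥤ R.Modules) [F'.Additive]
    [PreservesFiniteLimits F'] [PreservesFiniteColimits F'] [PreservesFiniteLimits (F ⋙ F')]
    [PreservesFiniteColimits (F ⋙ F')] (K : DCoh.D P) :
    F'.mapDerivedCategory.obj (F.mapDerivedCategory.obj K) ≅ (F ⋙ F').mapDerivedCategory.obj K :=
  let i := DerivedCategory.Q.objObjPreimageIso K
  let C := DerivedCategory.Q.objPreimage K
  F'.mapDerivedCategory.mapIso (F.mapDerivedCategory.mapIso i.symm ≪≫ FDQ F C) ≪≫ FDQ F' _ ≪≫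
    (show DerivedCategory.Q.obj ((F'.mapHomologicalComplex _).obj ((F.mapHomologicalComplex _).obj C)) ≅
      DerivedCategory.Q.obj (((F ⋙ F').mapHomologicalComplex _).obj C) from Iso.refl _) ≪≫
    (FDQ (F ⋙ F') C).symm ≪≫ (F ⋙ F').mapDerivedCategory.mapIso i

end Derived

end Groth.Agent.H56.RelPC
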