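import Groth.Agent.H56.RelPC.PushConverse
import Groth.Agent.H56.RelPC.Square
import Groth.Agent.Lib.Cyc.FP.Stalk
import Groth.Agent.Lib.Perfect.PullPC
import Groth.Agent.Lib.PushClosed.Unit

/-!
Flat inverse image against direct image along closed immersions.
-/

set_option autoImplicit false
set_option linter.style.haveILetI false

universe u

open CategoryTheory Limits AlgebraicGeometry TopologicalSpace

namespace Groth.Agent.H56.RelPC

open Groth.Agent.Lib Groth.Agent.Lib.Perfect.Basic Groth.Agent.Lib.Perfect.PseudoCoh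
open Groth.Agent.Lib.Perfect.Ascent

attribute [local instance] HasDerivedCategory.standard

variable {X Y : Scheme.{u}}

noncomputable instance preservesFiniteColimits_pullback (g : X ⟶ Y) :
    PreservesFiniteColimits (Scheme.Modules.pullback g) := by
  haveI := (Scheme.Modules.pullbackPushforwardAdjunction g).leftAdjoint_preservesColimits.{u, u}
  exact PreservesColimitsOfSize.preservesFiniteColimits _

instance additive_pullback (g : X ⟶ Y) : (Scheme.Modules.pullback g).Additive :=
  (Scheme.Modules.pullbackPushforwardAdjunction g).left_adjoint_additive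

noncomputable instance preservesFiniteLimits_pullback (g : X ⟶ Y) [Flat g] :
    PreservesFiniteLimits (Scheme.Modules.pullback g) := by
  haveI : (Scheme.Modules.pullback g).PreservesMonomorphisms :=
    ⟨fun f _ => Cyc.FP.Stalk.mono_pullback g f⟩
  haveI := Functor.preservesHomology_of_preservesMonos_and_cokernels (Scheme.Modules.pullback g)
  exact Functor.preservesFiniteLimits_of_preservesHomology _

/-- Flat inverse image on derived categories. -/
noncomputable abbrev FPD (g : X ⟶ Y) [Flat g] : DCoh.D Y ⥤ DCoh.D X :=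
  (Scheme.Modules.pullback g).mapDerivedCategory

/-- For a flat morphism the derived inverse image is the inverse image. -/
theorem nonempty_lpull_iso (g : X ⟶ Y) [Flat g] [DCoh.HasLpull g] (K : DCoh.D Y) :
    Nonempty ((DCoh.Lpull g).obj K ≅ (FPD g).obj K) := by
  obtain ⟨P, -, ⟨eP⟩, ⟨eL⟩⟩ := Perfect.Pullback.exists_Lpull_iso g K
  exact ⟨eL ≪≫ (FDQ (Scheme.Modules.pullback g) P).symm ≪≫ (FPD g).mapIso eP⟩

theorem pcAt_FPD (g : X ⟶ Y) [Flat g] {m : ℤ} {K : DCoh.D Y} (h : ∀ y, PCAt m K y) (x : X) :
    PCAt m ((FPD g).obj K) x := by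
  haveI := DerivedOX.LeftExists.hasLpull g
  obtain ⟨e⟩ := nonempty_lpull_iso g K
  exact ((iff_forall _ _).1 (Perfect.PullPC.isPseudoCoherent_Lpull g ((iff_forall _ _).2 h)) x).of_iso e

/-- A map inducing isomorphisms in high degrees transports pseudo-coherence. -/
theorem pcAt_of_good {m : ℤ} {K L : DCoh.D X} {f : K ⟶ L} (hf : Good m f) {x : X}
    (h : PCAt m K x) : PCAt m L x := by
  obtain ⟨U, j, _, y, E, α, hy, hE, hα⟩ := h
  exact ⟨U, j, inferInstance, y, E, α ≫ (RD j).map f, hy, hE, hα.comp (good_restrict j hf)⟩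

/-- A natural transformation of exact functors is good on an object as soon as it is an isomorphism
on its cohomology in high degrees and an epimorphism in the last one. -/
theorem exists_good_of_natTrans {F F' : X.Modules ⥤ Y.Modules} [F.Additive] [F'.Additive]
    [PreservesFiniteLimits F] [PreservesFiniteColimits F] [PreservesFiniteLimits F']
    [PreservesFiniteColimits F'] (τ : F ⟶ F') (K : DCoh.D X) :
    ∃ f : F.mapDerivedCategory.obj K ⟶ F'.mapDerivedCategory.obj K, ∀ m : ℤ,
      (∀ i, m < i → IsIso (τ.app (DCoh.HD K i))) → Epi (τ.app (DCoh.HD K m)) → Good m f := by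
  let C := DerivedCategory.Q.objPreimage K
  let e := DerivedCategory.Q.objObjPreimageIso K
  let t := (NatTrans.mapHomologicalComplex τ (ComplexShape.up ℤ)).app C
  let H := fun i => DerivedCategory.homologyFunctor Y.Modules i
  have key : ∀ i, (IsIso (τ.app (DCoh.HD K i)) → IsIso ((H i).map (DerivedCategory.Q.map t))) ∧
      (Epi (τ.app (DCoh.HD K i)) → Epi ((H i).map (DerivedCategory.Q.map t))) := by
    intro i
    let eH : (C.sc i).homology ≅ DCoh.HD K i :=
      ((DerivedCategory.homologyFunctorFactors X.Modules i).app C).symm ≪≫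
        (DerivedCategory.homologyFunctor X.Modules i).mapIso e
    have a : Arrow.mk (τ.app (DCoh.HD K i)) ≅ Arrow.mk ((H i).map (DerivedCategory.Q.map t)) := by
      refine Arrow.isoMk (F.mapIso eH.symm ≪≫ ((C.sc i).mapHomologyIso F).symm ≪≫
          ((DerivedCategory.homologyFunctorFactors Y.Modules i).app
            ((F.mapHomologicalComplex (ComplexShape.up ℤ)).obj C)).symm)
        (F'.mapIso eH.symm ≪≫ ((C.sc i).mapHomologyIso F').symm ≪≫
          ((DerivedCategory.homologyFunctorFactors Y.Modules i).app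
            ((F'.mapHomologicalComplex (ComplexShape.up ℤ)).obj C)).symm) ?_
      simp only [Arrow.mk_hom, Iso.trans_hom, Functor.mapIso_hom, Iso.symm_hom, Category.assoc]
      rw [← τ.naturality_assoc, NatTrans.app_homology τ (C.sc i)]
      simp only [Category.assoc, Iso.hom_inv_id_assoc]
      congr 2
      have := (DerivedCategory.homologyFunctorFactors Y.Modules i).inv.naturality t
      exact this.symm
    exact ⟨fun h => ((MorphismProperty.isomorphisms Y.Modules).arrow_mk_iso_iff a).1 h,
      fun h => ((MorphismProperty.epimorphisms Y.Modules).arrow_mk_iso_iff a).1 h⟩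
  refine ⟨F.mapDerivedCategory.map e.inv ≫ (FDQ F C).hom ≫ DerivedCategory.Q.map t ≫
      (FDQ F' C).inv ≫ F'.mapDerivedCategory.map e.hom, fun m h₁ h₂ => ?_⟩
  have hQ : Good m (DerivedCategory.Q.map t) :=
    ⟨fun i hi => (key i).1 (h₁ i hi), (key m).2 h₂⟩
  exact
    (Good.of_isIso m _).comp ((Good.of_isIso m _).comp (hQ.comp ((Good.of_isIso m _).comp
      (Good.of_isIso m _))))

section Square

variable {Z X Z' X' : Scheme.{u}} {c : Z ⟶ X} {c' : Z' ⟶ X'} {t : Z' ⟶ Z} {s : X' ⟶ X}

/-- The base change map `s^* c_* ⟶ c'_* t^*` of a commutative square. -/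
noncomputable def bcMap (H : c' ≫ s = t ≫ c) :
    Scheme.Modules.pushforward c ⋙ Scheme.Modules.pullback s ⟶
      Scheme.Modules.pullback t ⋙ Scheme.Modules.pushforward c' :=
  (mateEquiv (Scheme.Modules.pullbackPushforwardAdjunction c)
    (Scheme.Modules.pullbackPushforwardAdjunction c')
    (TwoSquare.mk _ _ _ _ ((Scheme.Modules.pullbackComp c' s ≪≫ Scheme.Modules.pullbackCongr H ≪≫
      (Scheme.Modules.pullbackComp t c).symm).hom))).natTrans

theorem bcMap_app (H : c' ≫ s = t ≫ c) (M : Z.Modules) : (bcMap H).app M =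
    (Scheme.Modules.pullbackPushforwardAdjunction c').unit.app _ ≫
      (Scheme.Modules.pushforward c').map ((Scheme.Modules.pullbackComp c' s ≪≫
        Scheme.Modules.pullbackCongr H ≪≫ (Scheme.Modules.pullbackComp t c).symm).hom.app _) ≫
      (Scheme.Modules.pushforward c').map ((Scheme.Modules.pullback t).map
        ((Scheme.Modules.pullbackPushforwardAdjunction c).counit.app M)) := by
  simp [bcMap, mateEquiv]

variable [IsClosedImmersion c] [IsClosedImmersion c'] (H : c' ≫ s = t ≫ c) (M : Z.Modules)

theorem bcMap_epi : Epi ((bcMap H).app M) := by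
  haveI := PushClosed.Unit.epi_unit c' ((Scheme.Modules.pullback s).obj ((Scheme.Modules.pushforward c).obj M))
  haveI := Cyc.Dev.SchemeCase.isIso_counit c M
  rw [bcMap_app]
  infer_instance

/-- The base change map is invertible once the inverse image is a direct image. -/
theorem isIso_bcMap {L : Z'.Modules}
    (e : (Scheme.Modules.pullback s).obj ((Scheme.Modules.pushforward c).obj M) ≅
      (Scheme.Modules.pushforward c').obj L) : IsIso ((bcMap H).app M) := by
  haveI := Cyc.Dev.SchemeCase.isIso_counit c M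
  let adj := Scheme.Modules.pullbackPushforwardAdjunction c'
  haveI := Cyc.Dev.SchemeCase.isIso_counit c' L
  haveI : IsIso (adj.unit.app ((Scheme.Modules.pushforward c').obj L)) :=
    IsIso.of_isIso_fac_right (adj.right_triangle_components L)
  haveI : IsIso (adj.unit.app ((Scheme.Modules.pullback s).obj ((Scheme.Modules.pushforward c).obj M))) :=
    (NatTrans.isIso_app_iff_of_iso adj.unit e).2 inferInstance
  rw [bcMap_app]
  infer_instance

end Square

/-- A map good in every degree is an isomorphism. -/
theorem isIso_of_good {K L : DCoh.D X} {f : K ⟶ L} (h : ∀ m, Good m f) : IsIso f :=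
  (DerivedCategory.isIso_iff _ f).2 fun i => (h (i - 1)).1 i (by omega)

section Chart

variable {Z Y Z' Y' P P' : Scheme.{u}} (c : Z ⟶ Y) [IsClosedImmersion c] (c' : Z' ⟶ Y')
  [IsClosedImmersion c'] (t : Z' ⟶ Z) (s : Y' ⟶ Y) [Flat s] (H : c' ≫ s = t ≫ c) (j : Z ⟶ P)
  [IsOpenImmersion j] (j' : Z' ⟶ P') [IsOpenImmersion j'] (g : P' ⟶ P) [Flat g]
  (hj : j' ≫ g = t ≫ j) (K : DCoh.D P)

include H hj in
/-- The chart functor of the inverse image receives the inverse image of the chart functor. -/
theorem exists_bc_GD : ∃ f : (FPD s).obj ((GD c j).obj K) ⟶ (GD c' j').obj ((FPD g).obj K),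
    ∀ m : ℤ, (∀ i, m < i → IsIso ((bcMap H).app ((Scheme.Modules.restrictFunctor j).obj (DCoh.HD K i)))) →
      Good m f := by
  haveI : PreservesFiniteLimits (G c j ⋙ Scheme.Modules.pullback s) := comp_preservesFiniteLimits _ _
  haveI : PreservesFiniteColimits (G c j ⋙ Scheme.Modules.pullback s) :=
    comp_preservesFiniteColimits _ _
  haveI : PreservesFiniteLimits (Scheme.Modules.pullback g ⋙ G c' j') := comp_preservesFiniteLimits _ _
  haveI : PreservesFiniteColimits (Scheme.Modules.pullback g ⋙ G c' j') :=
    comp_preservesFiniteColimits _ _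
  let ν : Scheme.Modules.restrictFunctor j ⋙ Scheme.Modules.pullback t ≅
      Scheme.Modules.pullback g ⋙ Scheme.Modules.restrictFunctor j' :=
    Functor.isoWhiskerRight (Scheme.Modules.restrictFunctorIsoPullback j) _ ≪≫
      Scheme.Modules.pullbackComp t j ≪≫ Scheme.Modules.pullbackCongr hj.symm ≪≫
      (Scheme.Modules.pullbackComp j' g).symm ≪≫
      Functor.isoWhiskerLeft _ (Scheme.Modules.restrictFunctorIsoPullback j').symm
  let τ : G c j ⋙ Scheme.Modules.pullback s ⟶ Scheme.Modules.pullback g ⋙ G c' j' :=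
    Functor.whiskerLeft (Scheme.Modules.restrictFunctor j) (bcMap H) ≫
      Functor.whiskerRight ν.hom (Scheme.Modules.pushforward c')
  obtain ⟨f, hf⟩ := exists_good_of_natTrans τ K
  refine ⟨(mapDerivedComp (G c j) (Scheme.Modules.pullback s) K).hom ≫ f ≫
    (mapDerivedComp (Scheme.Modules.pullback g) (G c' j') K).inv, fun m hi => ?_⟩
  refine (Good.of_isIso m _).comp ((hf m (fun i hi' => ?_) ?_).comp (Good.of_isIso m _))
  · haveI := hi i hi'
    exact inferInstanceAs (IsIso ((bcMap H).app _ ≫ (Scheme.Modules.pushforward c').map (ν.hom.app _)))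
  · haveI := bcMap_epi H ((Scheme.Modules.restrictFunctor j).obj (DCoh.HD K m))
    exact inferInstanceAs (Epi ((bcMap H).app _ ≫ (Scheme.Modules.pushforward c').map (ν.hom.app _)))

end Chart

end Groth.Agent.H56.RelPC
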