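import Groth.Agent.H56.RelPC.TopMap2
import Groth.Agent.H56.RelPC.FlatPull
import Groth.Agent.H56.RelPC.Square
import Groth.Agent.Lib.Modules.SupportOps
import Mathlib.RingTheory.Finiteness.Descent

/-!
Pseudo-coherence descends along fppf morphisms.
-/

set_option autoImplicit false
set_option linter.style.haveILetI false

universe u

open CategoryTheory Limits CategoryTheory.Pretriangulated AlgebraicGeometry TopologicalSpace
open scoped TensorProduct

namespace Groth.Agent.H56.RelPC.Fppf

open Groth.Agent.Lib Groth.Agent.Lib.Perfect.Basic Groth.Agent.Lib.Perfect.PseudoCoh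
open Groth.Agent.Lib.Modules.StalkModule

attribute [local instance] HasDerivedCategory.standard

variable {X X' : Scheme.{u}}

/-- A point has a neighbourhood of pseudo-coherence. -/
theorem exists_pcAt_nhds {m : ℤ} {K : DCoh.D X} {x : X} (h : PCAt m K x) :
    ∃ U : X.Opens, x ∈ U ∧ ∀ z ∈ U, PCAt m K z := by
  obtain ⟨U, j, _, y, E, α, hy, hE, hα⟩ := h
  refine ⟨j.opensRange, ⟨y, hy⟩, ?_⟩
  rintro _ ⟨w, rfl⟩
  exact ⟨U, j, inferInstance, w, E, α, rfl, hE, hα⟩

/-- Locally, an `m`-pseudo-coherent object has bounded above cohomology. -/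
theorem exists_bound {m : ℤ} {K : DCoh.D X} {x : X} (h : PCAt m K x) :
    ∃ (U : X.Opens) (b : ℤ), x ∈ U ∧
      ∀ z ∈ U, ∀ i, b < i → Subsingleton ((DCoh.HD K i).presheaf.stalk z) := by
  obtain ⟨U, j, _, y, E, α, hy, ⟨⟨a, b, hv⟩, hlf⟩, hα⟩ := h
  refine ⟨j.opensRange, max b m, ⟨y, hy⟩, ?_⟩
  rintro _ ⟨w, rfl⟩ i hi
  haveI := hα.1 i (by omega)
  have h0 : IsZero ((DerivedCategory.homologyFunctor U.Modules i).obj (DerivedCategory.Q.obj E)) := by
    refine IsZero.of_iso ?_ ((DerivedCategory.homologyFunctorFactors U.Modules i).app E)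
    exact (HomologicalComplex.exactAt_iff_isZero_homology E i).1
      (ShortComplex.exact_of_isZero_X₂ _ (hv i (Or.inr (by omega))))
  have h1 : IsZero ((Scheme.Modules.restrictFunctor j).obj (DCoh.HD K i)) :=
    h0.of_iso ((asIso ((DerivedCategory.homologyFunctor U.Modules i).map α)) ≪≫
      Perfect.Coherent.homologyIso j K i).symm
  haveI := Modules.Stalk.isZero_iff_stalk_subsingleton.1 h1 w
  exact (Modules.StalkRestrict.restrictStalkAddEquiv j (DCoh.HD K i) w).toEquiv.symm.subsingleton

/-- Stalks of an inverse image vanish only where the module does. -/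
theorem subsingleton_pullback_iff (f : X' ⟶ X) [Flat f] (M : X.Modules) (y : X') :
    Subsingleton (((Scheme.Modules.pullback f).obj M).presheaf.stalk y) ↔
      Subsingleton (M.presheaf.stalk (f y)) := by
  letI : Algebra (X.presheaf.stalk (f y)) (X'.presheaf.stalk y) := (f.stalkMap y).hom.toAlgebra
  haveI : Module.Flat (X.presheaf.stalk (f y)) (X'.presheaf.stalk y) := Flat.stalkMap f y
  haveI : IsLocalHom (algebraMap (X.presheaf.stalk (f y)) (X'.presheaf.stalk y)) :=
    inferInstanceAs (IsLocalHom (f.stalkMap y).hom)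
  haveI : Module.FaithfullyFlat (X.presheaf.stalk (f y)) (X'.presheaf.stalk y) :=
    Module.FaithfullyFlat.of_flat_of_isLocalHom
  let e := ((DerivedOX.PullbackStalk.pullbackStalkIso f y).app M).toLinearEquiv
  have he : Subsingleton (((Scheme.Modules.pullback f).obj M).presheaf.stalk y) ↔
      Subsingleton (X'.presheaf.stalk y ⊗[X.presheaf.stalk (f y)] M.presheaf.stalk (f y)) :=
    e.toEquiv.subsingleton_congr.symm
  rw [he, Module.FaithfullyFlat.subsingleton_tensorProduct_iff_right]

/-- Stalks of finite type descend. -/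
theorem finite_stalk_of_pullback (f : X' ⟶ X) [Flat f] (M : X.Modules) (y : X')
    (h : Module.Finite (X'.presheaf.stalk y) (((Scheme.Modules.pullback f).obj M).presheaf.stalk y)) :
    Module.Finite (X.presheaf.stalk (f y)) (M.presheaf.stalk (f y)) := by
  letI : Algebra (X.presheaf.stalk (f y)) (X'.presheaf.stalk y) := (f.stalkMap y).hom.toAlgebra
  haveI : Module.Flat (X.presheaf.stalk (f y)) (X'.presheaf.stalk y) := Flat.stalkMap f y
  haveI : IsLocalHom (algebraMap (X.presheaf.stalk (f y)) (X'.presheaf.stalk y)) :=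
    inferInstanceAs (IsLocalHom (f.stalkMap y).hom)
  haveI : Module.FaithfullyFlat (X.presheaf.stalk (f y)) (X'.presheaf.stalk y) :=
    Module.FaithfullyFlat.of_flat_of_isLocalHom
  let e := ((DerivedOX.PullbackStalk.pullbackStalkIso f y).app M).toLinearEquiv
  haveI : Module.Finite (X'.presheaf.stalk y)
      (X'.presheaf.stalk y ⊗[X.presheaf.stalk (f y)] M.presheaf.stalk (f y)) :=
    @Module.Finite.equiv _ _ _ _ _ _ _ _ h e.symm
  exact Module.Finite.of_finite_tensorProduct_of_faithfullyFlat (X'.presheaf.stalk y)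

/-- Restriction commutes with inverse image. -/
theorem nonempty_restrict_pullback_iso {f : X' ⟶ X} [Flat f] (U : X.Opens) (V : X'.Opens)
    (g : (V : Scheme.{u}) ⟶ U) [Flat g] (hg : g ≫ U.ι = V.ι ≫ f) (K : DCoh.D X) :
    Nonempty ((FPD g).obj ((RD U.ι).obj K) ≅ (RD V.ι).obj ((FPD f).obj K)) := by
  let F := Scheme.Modules.restrictFunctor U.ι ⋙ Scheme.Modules.pullback g
  let F' := Scheme.Modules.pullback f ⋙ Scheme.Modules.restrictFunctor V.ι
  haveI : PreservesFiniteLimits F := comp_preservesFiniteLimits _ _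
  haveI : PreservesFiniteColimits F := comp_preservesFiniteColimits _ _
  haveI : PreservesFiniteLimits F' := comp_preservesFiniteLimits _ _
  haveI : PreservesFiniteColimits F' := comp_preservesFiniteColimits _ _
  let ν : F ≅ F' :=
    Functor.isoWhiskerRight (Scheme.Modules.restrictFunctorIsoPullback U.ι) _ ≪≫
      Scheme.Modules.pullbackComp g U.ι ≪≫ Scheme.Modules.pullbackCongr hg ≪≫
      (Scheme.Modules.pullbackComp V.ι f).symm ≪≫
      Functor.isoWhiskerLeft _ (Scheme.Modules.restrictFunctorIsoPullback V.ι).symm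
  exact ⟨mapDerivedComp (Scheme.Modules.restrictFunctor U.ι) (Scheme.Modules.pullback g) K ≪≫
    mapDerivedCongr F ν K ≪≫
    (mapDerivedComp (Scheme.Modules.pullback f) (Scheme.Modules.restrictFunctor V.ι) K).symm⟩

/-- Descent with a known bound. -/
theorem pcAt_of_pullback_aux (m : ℤ) : ∀ (k : ℕ) {X X' : Scheme.{u}} (f : X' ⟶ X) [Flat f]
    [LocallyOfFinitePresentation f] (E : DCoh.D X) (b : ℤ) [E.IsLE b] (y : X'),
    (∀ z, PCAt m ((FPD f).obj E) z) → b < m + k → PCAt m E (f y) := by
  intro k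
  induction k with
  | zero =>
    intro X X' f _ _ E b _ y _ hb
    exact pcAt_of_vanish (fun i hi => DerivedCategory.isZero_of_isLE E b i (by omega)) _
  | succ k ih =>
    intro X X' f _ _ E b _ y hpc hbk
    by_cases hbm : b < m
    · exact pcAt_of_vanish (fun i hi => DerivedCategory.isZero_of_isLE E b i (by omega)) _
    haveI : ((FPD f).obj E).IsLE b := isLE_mapDerived (Scheme.Modules.pullback f) b
    have htop : CohB1.IsFT (DCoh.HD ((FPD f).obj E) b) :=
      Perfect.Top.isFT_top (fun z => (hpc z).mono' (by omega))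
        fun i hi => DerivedCategory.isZero_of_isLE _ b i hi
    haveI : SheafOfModules.IsFiniteType (R := X'.ringCatSheaf) (DCoh.HD ((FPD f).obj E) b) := htop
    haveI := Modules.GenStalk.finite_stalk (DCoh.HD ((FPD f).obj E) b) y
    have hfin : Module.Finite (X.presheaf.stalk (f y)) ((DCoh.HD E b).presheaf.stalk (f y)) :=
      finite_stalk_of_pullback f _ y
        (Module.Finite.equiv (stalkLinearEquiv (homologyFD (Scheme.Modules.pullback f) E b) y))
    obtain ⟨U, hxU, n, α, hα⟩ := TopStalk.exists_top_map E b (f y) hfin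
    obtain ⟨T, p, δ, hT⟩ := distinguished_cocone_triangle α
    haveI : ((RD U.ι).obj E).IsLE b := isLE_mapDerived (Scheme.Modules.restrictFunctor U.ι) b
    have hfree : ∀ i, i ≠ b → IsZero (DCoh.HD
        ((DerivedCategory.singleFunctor (U : Scheme.{u}).Modules b).obj (FlatMod.freeMod (U : Scheme.{u}) n)) i) := by
      intro i hi
      rcases lt_or_gt_of_ne hi with h | h
      · exact DerivedCategory.isZero_of_isGE _ b i h
      · exact DerivedCategory.isZero_of_isLE _ b i h
    have hTLE : T.IsLE b := (DerivedCategory.isLE_iff T b).2 fun i hi =>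
      (DerivedCategory.HomologySequence.exact₃ _ hT i (i + 1) rfl).isZero_X₂
        ((DerivedCategory.isZero_of_isLE ((RD U.ι).obj E) b i hi).eq_of_src _ _)
        ((hfree (i + 1) (by omega)).eq_of_tgt _ _)
    have hT0 : Subsingleton ((DCoh.HD T b).presheaf.stalk (⟨f y, hxU⟩ : (U : Scheme.{u}))) := by
      have he : Epi ((DerivedCategory.homologyFunctor _ b).map p) :=
        (DerivedCategory.HomologySequence.epi_homologyMap_mor₁_iff _
          (rot_of_distTriang _ hT) b).2 ((hfree (b + 1) (by omega)).of_iso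
            (((DerivedCategory.homologyFunctor (U : Scheme.{u}).Modules 0).shiftIso 1 b (b + 1)
              (by omega)).app _) |>.eq_of_tgt _ _)
      refine subsingleton_of_forall_eq 0 fun w => ?_
      obtain ⟨w', rfl⟩ := (epi_iff_stalkMapₗ_surjective
        ((DerivedCategory.homologyFunctor _ b).map p)).1 he (⟨f y, hxU⟩ : (U : Scheme.{u})) w
      obtain ⟨v, rfl⟩ := hα w'
      rw [← LinearMap.comp_apply, ← stalkMapₗ_comp, ← Functor.map_comp,
        show α ≫ p = 0 from Pretriangulated.comp_distTriang_mor_zero₁₂ _ hT, Functor.map_zero,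
        stalkMapₗ_zero, LinearMap.zero_apply]
    let g := f ∣_ U
    haveI : Flat g := MorphismProperty.IsStableUnderBaseChange.of_isPullback
      (isPullback_morphismRestrict f U).flip ‹Flat f›
    haveI : LocallyOfFinitePresentation g := MorphismProperty.IsStableUnderBaseChange.of_isPullback
      (isPullback_morphismRestrict f U).flip ‹LocallyOfFinitePresentation f›
    obtain ⟨e⟩ := nonempty_restrict_pullback_iso U (f ⁻¹ᵁ U) g (morphismRestrict_ι f U) E
    have hpfree : ∀ (m' : ℤ) (z : (U : Scheme.{u})), PCAt m'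
        ((DerivedCategory.singleFunctor (U : Scheme.{u}).Modules b).obj (FlatMod.freeMod (U : Scheme.{u}) n)) z :=
      fun m' z => PCSingle.pcAt_single (PCSingle.pcAt_inD_freeMod n _ z)
    have hpcT : ∀ z, PCAt m ((FPD g).obj T) z := fun z =>
      pcAt₃ ((FPD g).map_distinguished _ hT) (pcAt_FPD g (hpfree (m + 1)) z)
        (((hpc _).restrict (f ⁻¹ᵁ U).ι z).of_iso e.symm)
    haveI : ((FPD g).obj T).IsLE b := isLE_mapDerived (Scheme.Modules.pullback g) b
    haveI : SheafOfModules.IsFiniteType (R := (f ⁻¹ᵁ U : Scheme.{u}).ringCatSheaf)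
        (DCoh.HD ((FPD g).obj T) b) :=
      Perfect.Top.isFT_top (fun z => (hpcT z).mono' (by omega))
        fun i hi => DerivedCategory.isZero_of_isLE _ b i hi
    let N : (f ⁻¹ᵁ U : Scheme.{u}).Opens :=
      ⟨(CohB1.support (DCoh.HD ((FPD g).obj T) b))ᶜ, (Modules.Support.isClosed_support _).isOpen_compl⟩
    have hN : ∀ z, z ∈ N ↔ Subsingleton ((DCoh.HD T b).presheaf.stalk (g z)) := fun z => by
      rw [← subsingleton_pullback_iff g (DCoh.HD T b) z]
      exact Modules.Support.not_mem_support_iff.trans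
        (stalkLinearEquiv (homologyFD (Scheme.Modules.pullback g) T b) z).toEquiv.subsingleton_congr
    let y₁ : (f ⁻¹ᵁ U : Scheme.{u}) := ⟨y, hxU⟩
    have hy₁ : g y₁ = (⟨f y, hxU⟩ : (U : Scheme.{u})) := by
      apply U.ι.isOpenEmbedding.injective
      rw [← Scheme.Hom.comp_apply, morphismRestrict_ι]
      rfl
    have hyN : y₁ ∈ N := (hN y₁).2 (by rw [hy₁]; exact hT0)
    let W : (U : Scheme.{u}).Opens := ⟨g '' (N : Set _), g.isOpenMap _ N.2⟩
    haveI : ((RD W.ι).obj T).IsLE (b - 1) := (DerivedCategory.isLE_iff _ _).2 fun i hi => by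
      refine IsZero.of_iso ?_ (Perfect.Coherent.homologyIso W.ι T i)
      rcases eq_or_lt_of_le (show b ≤ i by omega) with rfl | hlt
      · refine Modules.Stalk.isZero_iff_stalk_subsingleton.2 fun w => ?_
        obtain ⟨z, hz, hzw⟩ := w.2
        have hzw' : g z = W.ι w := hzw
        haveI : Subsingleton ((DCoh.HD T b).presheaf.stalk (W.ι w)) := hzw' ▸ (hN z).1 hz
        exact (Modules.StalkRestrict.restrictStalkAddEquiv W.ι _ w).toEquiv.subsingleton
      · exact (Scheme.Modules.restrictFunctor W.ι).map_isZero (DerivedCategory.isZero_of_isLE T b i hlt)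
    let g' := g ∣_ W
    haveI : Flat g' := MorphismProperty.IsStableUnderBaseChange.of_isPullback
      (isPullback_morphismRestrict g W).flip ‹Flat g›
    haveI : LocallyOfFinitePresentation g' := MorphismProperty.IsStableUnderBaseChange.of_isPullback
      (isPullback_morphismRestrict g W).flip ‹LocallyOfFinitePresentation g›
    obtain ⟨e'⟩ := nonempty_restrict_pullback_iso W (g ⁻¹ᵁ W) g' (morphismRestrict_ι g W) T
    let y₂ : (g ⁻¹ᵁ W : Scheme.{u}) := ⟨y₁, ⟨y₁, hyN, rfl⟩⟩
    have hW := ih g' ((RD W.ι).obj T) (b - 1) y₂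
      (fun z => ((hpcT _).restrict (g ⁻¹ᵁ W).ι z).of_iso e'.symm) (by omega)
    have hTx : PCAt m T (⟨f y, hxU⟩ : (U : Scheme.{u})) := by
      refine PCAt.of_restrict (j := W.ι) ?_ hW
      rw [← Scheme.Hom.comp_apply, morphismRestrict_ι]
      exact hy₁
    exact PCAt.of_restrict (j := U.ι) (y := (⟨f y, hxU⟩ : (U : Scheme.{u}))) rfl
      (pcAt₂ hT (hpfree m _) hTx)

/-- Pseudo-coherence of the inverse image near a point gives pseudo-coherence near the image. -/
theorem pcAt_of_pullback (f : X' ⟶ X) [Flat f] [LocallyOfFinitePresentation f] {E : DCoh.D X}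
    {m : ℤ} {y : X'} (h : PCAt m ((FPD f).obj E) y) : PCAt m E (f y) := by
  obtain ⟨V₁, hyV₁, hV₁⟩ := exists_pcAt_nhds h
  obtain ⟨V₂, b, hyV₂, hV₂⟩ := exists_bound h
  let U : X.Opens := ⟨f '' ((V₁ ⊓ V₂ : X'.Opens) : Set X'), f.isOpenMap _ (V₁ ⊓ V₂).2⟩
  let V : X'.Opens := V₁ ⊓ V₂
  have hVU : V ≤ f ⁻¹ᵁ U := fun z hz => ⟨z, hz, rfl⟩
  let g := f.resLE U V hVU
  obtain ⟨e⟩ := nonempty_restrict_pullback_iso U V g (Scheme.Hom.resLE_comp_ι f hVU) E
  haveI : ((RD U.ι).obj E).IsLE b := (DerivedCategory.isLE_iff _ _).2 fun i hi => by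
    refine IsZero.of_iso ?_ (Perfect.Coherent.homologyIso U.ι E i)
    refine Modules.Stalk.isZero_iff_stalk_subsingleton.2 fun w => ?_
    obtain ⟨z, hz, hzw⟩ := w.2
    have hzw' : f z = U.ι w := hzw
    haveI : Subsingleton ((DCoh.HD E i).presheaf.stalk (U.ι w)) := hzw' ▸
      (subsingleton_pullback_iff f (DCoh.HD E i) z).1
        ((stalkLinearEquiv (homologyFD (Scheme.Modules.pullback f) E i) z).toEquiv.subsingleton_congr.1
          (hV₂ z hz.2 i hi))
    exact (Modules.StalkRestrict.restrictStalkAddEquiv U.ι _ w).toEquiv.subsingleton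
  obtain ⟨k, hk⟩ : ∃ k : ℕ, b < m + k := ⟨(b - m).toNat + 1, by omega⟩
  have := pcAt_of_pullback_aux m k g ((RD U.ι).obj E) b ⟨y, hyV₁, hyV₂⟩
    (fun z => ((hV₁ _ z.2.1).restrict V.ι z).of_iso e.symm) hk
  refine PCAt.of_restrict (j := U.ι) ?_ this
  rw [← Scheme.Hom.comp_apply, Scheme.Hom.resLE_comp_ι]
  rfl

end Groth.Agent.H56.RelPC.Fppf
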