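import Groth.Agent.H56.RelPC.Closed

/-!
Direct image along a closed immersion whose structure module is pseudo-coherent up to a degree.
-/

set_option autoImplicit false
set_option linter.style.haveILetI false

universe u

open CategoryTheory Limits AlgebraicGeometry TopologicalSpace CategoryTheory.Pretriangulated

namespace Groth.Agent.H56.RelPC

open Groth.Agent.Lib Groth.Agent.Lib.Perfect.Basic Groth.Agent.Lib.Perfect.PseudoCoh
open Groth.Agent.Lib.Perfect.Ascent

attribute [local instance] HasDerivedCategory.standard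

variable {Z X : Scheme.{u}}

/-- The direct image of the structure module is pseudo-coherent at one level. -/
def PCStrAt (s : ℤ) (i : Z ⟶ X) : Prop :=
  ∀ x : X, PCAt s (DCoh.inD X ((Scheme.Modules.pushforward i).obj (Coh.structureModule Z))) x

variable (i : Z ⟶ X) [IsClosedImmersion i] {s : ℤ}

omit [IsClosedImmersion i] in
theorem PCStrAt.mono {s' : ℤ} (h : PCStrAt s i) (hs : s ≤ s') : PCStrAt s' i :=
  fun x => (h x).mono' hs

omit [IsClosedImmersion i] in
theorem PCStrAt.restrict (h : PCStrAt s i) (W : X.Opens) : PCStrAt s (i ∣_ W) := fun x =>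
  (PCAt.restrict W.ι x (h _)).of_iso (Perfect.Regular.RDinD W.ι _ ≪≫
    (DerivedCategory.singleFunctor _ 0).mapIso ((pushRestrIso i W).app _ ≪≫
      (Scheme.Modules.pushforward (i ∣_ W)).mapIso
        (Scheme.Modules.restrictUnitIso (i ⁻¹ᵁ W).ι)))

theorem pcAt_push_locFree_of_level (h : PCStrAt s i) {L : Z.Modules} (hL : FlatMod.IsFinLocFree L)
    (x : X) : PCAt s (DCoh.inD X ((Scheme.Modules.pushforward i).obj L)) x := by
  by_cases hx : x ∈ Set.range i
  · obtain ⟨z, rfl⟩ := hx
    obtain ⟨U, n, hzU, -, ⟨eL⟩⟩ := Modules.Free.exists_free_le hL (W := ⊤) (x := z) trivial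
    obtain ⟨W, hW, hWU⟩ := exists_nhd i z U hzU
    refine PCSingle.pcAt_inD_of_restrict W.ι (⟨i z, hW⟩ : (W : Scheme.{u})) ?_
    haveI := preservesColimitsOfSize_shrink.{0, u, 0, u} (Scheme.Modules.pushforward (i ∣_ W))
    exact ((pcAt_inD_sigma (fun _ : Fin n =>
        (Scheme.Modules.pushforward (i ∣_ W)).obj (Coh.structureModule _)) fun _ =>
          h.restrict i W _).of_iso
      ((DerivedCategory.singleFunctor _ 0).mapIso
        (PreservesCoproduct.iso (Scheme.Modules.pushforward (i ∣_ W))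
          fun _ : Fin n => Coh.structureModule _).symm)).of_iso
      ((DerivedCategory.singleFunctor _ 0).mapIso
        ((Scheme.Modules.pushforward (i ∣_ W)).mapIso (Modules.Free.freeOfLE hWU eL).symm ≪≫
          ((pushRestrIso i W).app L).symm))
  · exact (pcAt_PD_of_notMem i (DCoh.inD Z L) s hx).of_iso (FDinD _ L)

/-- Direct image of a complex concentrated in degree `b`. -/
theorem pcAt_push_single {E : CochainComplex Z.Modules ℤ} (b m : ℤ) (h : PCStrAt (m - b) i)
    (hE : DCoh.IsStrictlyPerfect E) (hEb : ∀ k, k ≠ b → IsZero (E.X k)) (x : X) :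
    PCAt m ((PD i).obj (DerivedCategory.Q.obj E)) x := by
  refine (PCSingle.pcAt_of_termwise m x _ b (fun k hk => ?_) fun k => ?_).of_iso
    (FDQ (Scheme.Modules.pushforward i) E).symm
  · exact (Scheme.Modules.pushforward i).map_isZero (hEb k (by omega))
  · by_cases hk : k = b
    · subst hk
      exact pcAt_push_locFree_of_level i h (hE.2 k) x
    · exact PCSingle.pcAt_inD_of_isZero ((Scheme.Modules.pushforward i).map_isZero (hEb k hk)) _ x

omit [IsClosedImmersion i] in
theorem pcAt_push_of_level_aux (m : ℤ) : ∀ (k : ℕ) {Z X : Scheme.{u}} (i : Z ⟶ X)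
    [IsClosedImmersion i] (K : DCoh.D Z) (b : ℤ), b + 1 ≤ m + k → PCStrAt (m - b) i → K.IsLE b →
    (∀ z, PCAt m K z) → ∀ x, PCAt m ((PD i).obj K) x := by
  intro k
  induction k with
  | zero =>
    intro Z X i _ K b hk _ hb _ x
    exact pcAt_of_vanish (fun l hl => ((Scheme.Modules.pushforward i).map_isZero
      (DerivedCategory.isZero_of_isLE K b l (by omega))).of_iso (homologyFD _ K l)) x
  | succ k ih =>
    intro Z X i _ K b hk h hb hK x
    by_cases hbm : b < m
    · exact pcAt_of_vanish (fun l hl => ((Scheme.Modules.pushforward i).map_isZero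
        (DerivedCategory.isZero_of_isLE K b l (by omega))).of_iso (homologyFD _ K l)) x
    by_cases hx : x ∈ Set.range i
    swap
    · exact pcAt_PD_of_notMem i K m hx
    obtain ⟨z, rfl⟩ := hx
    have hft : CohB1.IsFT (DCoh.HD K b) :=
      Perfect.Top.isFT_top (fun z => (hK z).mono' (by omega)) fun l hl =>
        DerivedCategory.isZero_of_isLE K b l (by omega)
    obtain ⟨U, j, _, y, E, α, rfl, hE, hEb, hα⟩ := exists_top_map b hb hft z
    obtain ⟨W, hW, v, _, hv⟩ := exists_trap i j y
    let e : (RD v).obj ((RD j).obj K) ≅ (RD (i ⁻¹ᵁ W).ι).obj K :=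
      (Perfect.Triangle.RDComp v j K).symm ≪≫ Perfect.Triangle.RDCongr hv K
    let β : DerivedCategory.Q.obj ((rC v).obj E) ⟶ (RD (i ⁻¹ᵁ W).ι).obj K :=
      (RDQ v E).inv ≫ (RD v).map α ≫ e.hom
    have hβ : Good b β :=
      (Good.of_isIso b _).comp ((good_restrict v hα).comp (Good.of_isIso b _))
    obtain ⟨C, g, δ, hd⟩ := distinguished_cocone_triangle β
    have hC : C.IsLE (b - 1) := (DerivedCategory.isLE_iff C (b - 1)).2 fun l hl =>
      (good_iff b _ hd).1 hβ l (by omega)
    have hE' := isStrictlyPerfect_map v hE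
    have hCpc : ∀ w, PCAt m C w := fun w =>
      pcAt₃ hd ⟨_, 𝟙 _, inferInstance, w, _, (RDQ (𝟙 _) ((rC v).obj E)).inv, rfl,
          isStrictlyPerfect_map _ hE', Good.of_isIso _ _⟩ (PCAt.restrict (i ⁻¹ᵁ W).ι w (hK _))
    refine PCAt.of_restrict (j := W.ι) (y := (⟨i (j y), hW⟩ : (W : Scheme.{u}))) rfl
      ((pcAt₂ ((PD (i ∣_ W)).map_distinguished _ hd) ?_ ?_).of_iso (restrPD i W K).symm)
    · exact pcAt_push_single (i ∣_ W) b m (h.restrict i W) hE'
        (fun l hl => (Scheme.Modules.restrictFunctor v).map_isZero (hEb l hl)) _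
    · exact ih (i ∣_ W) C (b - 1) (by omega) ((h.restrict i W).mono _ (by omega)) hC hCpc _

/-- Direct image preserves pseudo-coherence of bounded above objects. -/
theorem pcAt_push_of_level {K : DCoh.D Z} {m : ℤ} (b : ℤ) [K.IsLE b] (h : PCStrAt (m - b) i)
    (hK : ∀ z, PCAt m K z) (x : X) : PCAt m ((PD i).obj K) x :=
  pcAt_push_of_level_aux m (b + 1 - m).toNat i K b (by omega) h inferInstance hK x

omit [IsClosedImmersion i] in
theorem pcAt_of_push_of_level_aux (m : ℤ) : ∀ (k : ℕ) {Z X : Scheme.{u}} (i : Z ⟶ X)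
    [IsClosedImmersion i] (K : DCoh.D Z) (b : ℤ), b + 1 ≤ m + k → PCStrAt (m + 1 - b) i →
    K.IsLE b → (∀ x, PCAt m ((PD i).obj K) x) → ∀ z, PCAt m K z := by
  intro k
  induction k with
  | zero =>
    intro Z X i _ K b hk _ hb _ z
    exact pcAt_of_vanish (fun l hl => DerivedCategory.isZero_of_isLE K b l (by omega)) z
  | succ k ih =>
    intro Z X i _ K b hk h hb hK z
    by_cases hbm : b < m
    · exact pcAt_of_vanish (fun l hl => DerivedCategory.isZero_of_isLE K b l (by omega)) z
    have hft : CohB1.IsFT (DCoh.HD K b) := by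
      refine isFT_of_push i (@Modules.SupportOps.isFT_of_iso _ _ _
        (homologyFD (Scheme.Modules.pushforward i) K b) ?_)
      exact Perfect.Top.isFT_top (fun x => (hK x).mono' (by omega)) fun l hl =>
        ((Scheme.Modules.pushforward i).map_isZero
          (DerivedCategory.isZero_of_isLE K b l (by omega))).of_iso (homologyFD _ K l)
    obtain ⟨U, j, _, y, E, α, rfl, hE, hEb, hα⟩ := exists_top_map b hb hft z
    obtain ⟨W, hW, v, _, hv⟩ := exists_trap i j y
    let e : (RD v).obj ((RD j).obj K) ≅ (RD (i ⁻¹ᵁ W).ι).obj K :=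
      (Perfect.Triangle.RDComp v j K).symm ≪≫ Perfect.Triangle.RDCongr hv K
    let β : DerivedCategory.Q.obj ((rC v).obj E) ⟶ (RD (i ⁻¹ᵁ W).ι).obj K :=
      (RDQ v E).inv ≫ (RD v).map α ≫ e.hom
    have hβ : Good b β :=
      (Good.of_isIso b _).comp ((good_restrict v hα).comp (Good.of_isIso b _))
    obtain ⟨C, g, δ, hd⟩ := distinguished_cocone_triangle β
    have hC : C.IsLE (b - 1) := (DerivedCategory.isLE_iff C (b - 1)).2 fun l hl =>
      (good_iff b _ hd).1 hβ l (by omega)
    have hE' := isStrictlyPerfect_map v hE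
    have hPC : ∀ x, PCAt m ((PD (i ∣_ W)).obj C) x := fun x =>
      pcAt₃ ((PD (i ∣_ W)).map_distinguished _ hd)
        (pcAt_push_single (i ∣_ W) b (m + 1) (h.restrict i W) hE'
          (fun l hl => (Scheme.Modules.restrictFunctor v).map_isZero (hEb l hl)) x)
        ((PCAt.restrict W.ι x (hK _)).of_iso (restrPD i W K))
    refine PCAt.of_restrict (j := (i ⁻¹ᵁ W).ι)
      (y := (⟨j y, hW⟩ : ((i ⁻¹ᵁ W : Z.Opens) : Scheme.{u}))) rfl
      (pcAt₂ hd ?_ (ih (i ∣_ W) C (b - 1) (by omega) ((h.restrict i W).mono _ (by omega)) hC hPC _))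
    exact ⟨_, 𝟙 _, inferInstance, _, _, (RDQ (𝟙 _) ((rC v).obj E)).inv, rfl,
      isStrictlyPerfect_map _ hE', Good.of_isIso _ _⟩

/-- Direct image detects pseudo-coherence of bounded above objects. -/
theorem pcAt_of_push_of_level {K : DCoh.D Z} {m : ℤ} (b : ℤ) [K.IsLE b]
    (h : PCStrAt (m + 1 - b) i) (hK : ∀ x, PCAt m ((PD i).obj K) x) (z : Z) : PCAt m K z :=
  pcAt_of_push_of_level_aux m (b + 1 - m).toNat i K b (by omega) h inferInstance hK z

/-- Composition with an isomorphism of the target. -/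
theorem PCStrAt.comp_iso (h : PCStrAt s i) {X' : Scheme.{u}} (e : X ⟶ X') [IsIso e] :
    PCStrAt s (i ≫ e) := fun x =>
  (pcAt_push e (pcStr_of_isIso e) h x).of_iso (FDinD (Scheme.Modules.pushforward e) _ ≪≫
    (DerivedCategory.singleFunctor X'.Modules 0).mapIso
      ((Scheme.Modules.pushforwardComp i e).app (Coh.structureModule Z)))

end Groth.Agent.H56.RelPC
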