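import Groth.Agent.H56.RelPC.Bridge
import Groth.Agent.H56.RelPC.Level

/-!
Composition of relative pseudo-coherence at one level.
-/

set_option autoImplicit false
set_option linter.style.haveILetI false

universe u

open CategoryTheory Limits AlgebraicGeometry TopologicalSpace

namespace Groth.Agent.H56.RelPC

open Groth.Agent.Lib Groth.Agent.Lib.Perfect.Basic Groth.Agent.Lib.Perfect.PseudoCoh
open Groth.Agent.Lib.DR.Basic Groth.Agent.Lib.DR.FiniteComplex Groth.Agent.Lib.DR.PseudoCoherent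
open scoped TensorProduct

attribute [local instance] HasDerivedCategory.standard

theorem PCStrAt.comp {Z Y X : Scheme.{u}} {c : Z ⟶ Y} {d : Y ⟶ X} [IsClosedImmersion d] {s : ℤ}
    (hc : PCStrAt s c) (hd : PCStrAt s d) : PCStrAt s (c ≫ d) := fun x =>
  ((pcAt_push_of_level d (K := DCoh.inD Y ((Scheme.Modules.pushforward c).obj (Coh.structureModule Z)))
      0 (hd.mono _ (le_of_eq (sub_zero s).symm)) hc x)).of_iso
    (FDinD (Scheme.Modules.pushforward d) _ ≪≫ (DerivedCategory.singleFunctor X.Modules 0).mapIso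
      ((Scheme.Modules.pushforwardComp c d).app (Coh.structureModule Z)))

theorem PCStrAt.of_eq {Z X : Scheme.{u}} {c d : Z ⟶ X} {s : ℤ} (hc : PCStrAt s c) (h : c = d) :
    PCStrAt s d := h ▸ hc

variable {A B : Type u} [CommRing A] [CommRing B]

/-- A quasi-coherent module and its sections, at one level. -/
theorem pcAt_qcoh_iff_at (R : CommRingCat.{u}) (N : (Spec R).Modules) [N.IsQuasicoherent]
    (M : ModuleCat.{u} R) (e : (QCoh.Tilde.specΓ R).obj N ≅ M) (m : ℤ) :
    (∀ x : Spec R, PCAt m (DCoh.inD _ N) x) ↔ PCn (ff R) m ((H54.PCRestrict.sgl R 0).obj M) := by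
  let i : (Perfect.TildeD.T R).obj ((H54.PCRestrict.sgl R 0).obj M) ≅ DCoh.inD _ N :=
    DR.ExactPush.mapSingle (tilde.functor R) M 0 ≪≫
      (DerivedCategory.singleFunctor _ 0).mapIso
        ((tilde.functor R).mapIso e.symm ≪≫ QCoh.Tilde.isoTildeSections N)
  exact ⟨fun h => Perfect.TildeD.pcn_of_pcAt fun x => (h x).of_iso i.symm, fun h x =>
    (Perfect.TildeD.pcAt_of_pcn ((DR.TopCohomology.pcn_ff_iff_fproj _ _).1 h) x).of_iso i⟩

/-- Sheaf-level and ring-level pseudo-coherence of the quotient at one level. -/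
theorem pcStrAt_spec_iff (ψ : A →+* B) (hψ : Function.Surjective ψ) (s : ℤ) :
    PCStrAt s (Spec.map (CommRingCat.ofHom ψ)) ↔
      PCn (ff A) s ((H54.PCRestrict.sgl A 0).obj ((H54.PCRestrict.res ψ).obj (ModuleCat.of B B))) := by
  let c := Spec.map (CommRingCat.ofHom ψ)
  haveI : IsClosedImmersion c := IsClosedImmersion.spec_of_surjective _ hψ
  haveI : (Coh.structureModule (Spec (CommRingCat.of B))).IsQuasicoherent :=
    TensorMod.QCohInv.isQCoh_structureModule _
  haveI : ((Scheme.Modules.pushforward c).obj (Coh.structureModule _)).IsQuasicoherent :=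
    QCoh.Pushforward.isQCoh_pushforward c
  obtain ⟨e⟩ := exists_sectionsIso ψ
  exact pcAt_qcoh_iff_at (CommRingCat.of A) _ _ e s

open H54.RelPC H54.PCRestrict in
/-- Polynomial extension at one level, ring version. -/
theorem pcn_map {P : Type u} [CommRing P] {α : P →+* A} {m : ℤ}
    (hα : PCn (ff P) m ((sgl P 0).obj ((res α).obj (ModuleCat.of A A)))) (k : ℕ) :
    PCn (ff (MvPolynomial (Fin k) P)) m ((sgl (MvPolynomial (Fin k) P) 0).obj
      ((res (MvPolynomial.map α)).obj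
        (ModuleCat.of (MvPolynomial (Fin k) A) (MvPolynomial (Fin k) A)))) := by
  let _ : Algebra P A := α.toAlgebra
  have h : DRing.IsPseudoCoherentModule P m A := (isPseudoCoherent_iff _ _).2
    (hα.of_iso ((sgl P 0).mapIso (DR.FlatBC.resEquiv P A).toModuleIso))
  have h' := (isPseudoCoherent_iff _ _).1
    ((Groth.Agent.S7000.result (B := MvPolynomial (Fin k) P) m A).1 h)
  let e₀ : MvPolynomial (Fin k) P ⊗[P] A ≃+ MvPolynomial (Fin k) A :=
    (TensorProduct.comm P _ _).toAddEquiv.trans (MvPolynomial.algebraTensorAlgEquiv P A).toAddEquiv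
  have he : ∀ (q : MvPolynomial (Fin k) P) (x : MvPolynomial (Fin k) P ⊗[P] A),
      e₀ (q • x) = MvPolynomial.map α q * e₀ x := by
    intro q x
    induction x using TensorProduct.induction_on with
    | zero => simp
    | add x y hx hy => rw [smul_add, map_add, map_add, hx, hy, mul_add]
    | tmul p a => simp [e₀, TensorProduct.smul_tmul', RingHom.algebraMap_toAlgebra]
  let e : MvPolynomial (Fin k) P ⊗[P] A ≃ₗ[MvPolynomial (Fin k) P]
      (res (MvPolynomial.map α)).obj (ModuleCat.of (MvPolynomial (Fin k) A) (MvPolynomial (Fin k) A)) :=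
    { toFun := fun x => (e₀ x : MvPolynomial (Fin k) A)
      invFun := fun y => e₀.symm (y : MvPolynomial (Fin k) A)
      left_inv := e₀.symm_apply_apply
      right_inv := e₀.apply_symm_apply
      map_add' := fun x y => map_add e₀ x y
      map_smul' := fun q x => he q x }
  exact h'.of_iso ((sgl _ 0).mapIso e.toModuleIso)

/-- A surjection with quotient pseudo-coherent at one level. -/
structure PCRingAt (s : ℤ) (π : A →+* B) : Prop where
  surjective : Function.Surjective π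
  pcStr : PCStrAt s (Spec.map (CommRingCat.ofHom π))

theorem PCRingAt.comp_equiv {s : ℤ} {C : Type u} [CommRing C] {π : A →+* B} (h : PCRingAt s π)
    (e : C ≃+* A) : PCRingAt s (π.comp (e : C →+* A)) := by
  haveI : IsIso (CommRingCat.ofHom (e : C →+* A)) :=
    (ConcreteCategory.isIso_iff_bijective _).2 e.bijective
  haveI : IsClosedImmersion (Spec.map (CommRingCat.ofHom π)) :=
    IsClosedImmersion.spec_of_surjective _ h.surjective
  exact ⟨h.surjective.comp e.surjective, PCStrAt.of_eq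
    (PCStrAt.comp_iso (Spec.map (CommRingCat.ofHom π)) h.pcStr (Spec.map (CommRingCat.ofHom (e : C →+* A))))
    (Spec.map_comp _ _).symm⟩

theorem PCRingAt.map {s : ℤ} {ψ : A →+* B} (h : PCRingAt s ψ) (k : ℕ) :
    PCRingAt s (MvPolynomial.map ψ : MvPolynomial (Fin k) A →+* MvPolynomial (Fin k) B) :=
  ⟨MvPolynomial.map_surjective _ h.surjective, (pcStrAt_spec_iff _ (MvPolynomial.map_surjective _ h.surjective) s).2
    (pcn_map ((pcStrAt_spec_iff ψ h.surjective s).1 h.pcStr) k)⟩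

variable {X Y S : Scheme.{u}}

/-- A morphism whose sections are pseudo-coherent at one level over those of the base. -/
def PCBaseAt (s : ℤ) (g : Y ⟶ S) : Prop :=
  ∀ (W : Y.Opens) (V : S.Opens) (_ : IsAffineOpen W) (_ : IsAffineOpen V) (h : W ≤ g ⁻¹ᵁ V),
    ∃ (n : ℕ) (ψ : MvPolynomial (Fin n) Γ(S, V) →+* Γ(Y, W)),
      ψ.comp MvPolynomial.C = (g.appLE V W h).hom ∧ PCRingAt s ψ

theorem pcBaseAt_of_isNPseudoCoherent {g : Y ⟶ S} [LocallyOfFiniteType g] {s : ℤ}
    (hg : DerSch.IsNPseudoCoherent g s) : PCBaseAt s g := by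
  intro W V hW hV h
  have hft : (g.appLE V W h).hom.FiniteType := LocallyOfFiniteType.finiteType_appLE g hV hW h
  algebraize [(g.appLE V W h).hom]
  obtain ⟨n, φ, hφ⟩ := Algebra.FiniteType.iff_quotient_mvPolynomial''.1 ‹_›
  have hC : φ.toRingHom.comp MvPolynomial.C = (g.appLE V W h).hom := RingHom.ext fun r => φ.commutes r
  haveI := isClosedImmersion_imm hW (φ := φ.toRingHom) hφ
  haveI : IsClosedImmersion (Spec.map (CommRingCat.ofHom φ.toRingHom)) :=
    IsClosedImmersion.spec_of_surjective _ hφ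
  have hc : PCStrAt s (imm W φ.toRingHom) := fun x => by
    let hi : DCoh.inD Y (Coh.structureModule Y) ≅ DCoh.toD Y (DerSch.unitCx Y) :=
      (DerivedCategory.singleFunctorIsoCompQ Y.Modules 0).app (Coh.structureModule Y)
    exact (pcAt_of_isPseudoCoherentRel hg hW hV hφ hC x).of_iso
      ((GD (imm W φ.toRingHom) W.ι).mapIso hi.symm ≪≫ GDinD _ _ _ ≪≫
        (DerivedCategory.singleFunctor _ 0).mapIso
          ((Scheme.Modules.pushforward (imm W φ.toRingHom)).mapIso
            (Scheme.Modules.restrictUnitIso W.ι)))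
  refine ⟨n, φ.toRingHom, hC, hφ, ?_⟩
  haveI : IsIso W.toSpecΓ := by rw [← hW.isoSpec_hom]; infer_instance
  exact (PCStrAt.comp (fun x => pcStr_of_isIso (inv W.toSpecΓ) s x) hc).of_eq
    (IsIso.inv_hom_id_assoc _ _)

section Test

variable {Z Y' : Scheme.{u}} {c : Z ⟶ Y} [IsClosedImmersion c] {d : Y ⟶ Y'} [IsClosedImmersion d]
  {e : Z ⟶ Y'} [IsClosedImmersion e] (he : c ≫ d = e) (j : Z ⟶ X) [IsOpenImmersion j] {m : ℤ}
  {K : DCoh.D X}
include he

theorem pcTest_push {b : ℤ} [K.IsLE b] (hd : PCStrAt (m - b) d) (h : PCTest m K c j) :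
    PCTest m K e j := by
  subst he
  let i : (PD d).obj ((GD c j).obj K) ≅ (GD (c ≫ d) j).obj K :=
    (PD d).mapIso (GDIso c j K).symm ≪≫
      mapDerivedComp (Scheme.Modules.pushforward c) (Scheme.Modules.pushforward d) _ ≪≫
      mapDerivedCongr _ (Scheme.Modules.pushforwardComp c d) _ ≪≫ GDIso (c ≫ d) j K
  haveI : ((GD c j).obj K).IsLE b := isLE_mapDerived (G c j) (K := K) b
  exact fun x => (pcAt_push_of_level d b hd h x).of_iso i

theorem pcTest_of_push {b : ℤ} [K.IsLE b] (hd : PCStrAt (m + 1 - b) d) (h : PCTest m K e j) :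
    PCTest m K c j := by
  subst he
  let i : (PD d).obj ((GD c j).obj K) ≅ (GD (c ≫ d) j).obj K :=
    (PD d).mapIso (GDIso c j K).symm ≪≫
      mapDerivedComp (Scheme.Modules.pushforward c) (Scheme.Modules.pushforward d) _ ≪≫
      mapDerivedCongr _ (Scheme.Modules.pushforwardComp c d) _ ≪≫ GDIso (c ≫ d) j K
  haveI : ((GD c j).obj K).IsLE b := isLE_mapDerived (G c j) (K := K) b
  exact pcAt_of_push_of_level d b hd fun x => (h x).of_iso i.symm

end Test

theorem ringTest_push {U : X.Opens} (hU : IsAffineOpen U) {m b : ℤ} {K : DCoh.D X} [K.IsLE b]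
    {φ : A →+* Γ(X, U)} (hφ : Function.Surjective φ) {P' : Type u} [CommRing P'] {π : P' →+* A}
    (hπ : PCRingAt (m - b) π) {θ : P' →+* Γ(X, U)} (hθ : φ.comp π = θ) (h : RingTest m K U φ) :
    RingTest m K U θ := by
  haveI := isClosedImmersion_imm hU (φ := θ) (hθ ▸ hφ.comp hπ.surjective)
  haveI : IsClosedImmersion (Spec.map (CommRingCat.ofHom π)) :=
    IsClosedImmersion.spec_of_surjective _ hπ.surjective
  obtain ⟨_, h⟩ := h
  have he : imm U φ ≫ Spec.map (CommRingCat.ofHom π) = imm U θ := by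
    subst hθ
    rw [imm, imm, Category.assoc, ← Spec.map_comp]
    rfl
  exact ⟨‹_›, pcTest_push he U.ι hπ.pcStr h⟩

theorem ringTest_of_push {U : X.Opens} (hU : IsAffineOpen U) {m b : ℤ} {K : DCoh.D X} [K.IsLE b]
    {φ : A →+* Γ(X, U)} (hφ : Function.Surjective φ) {P' : Type u} [CommRing P'] {π : P' →+* A}
    (hπ : PCRingAt (m + 1 - b) π) {θ : P' →+* Γ(X, U)} (hθ : φ.comp π = θ) (h : RingTest m K U θ) :
    RingTest m K U φ := by
  haveI := isClosedImmersion_imm hU hφ
  haveI : IsClosedImmersion (Spec.map (CommRingCat.ofHom π)) :=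
    IsClosedImmersion.spec_of_surjective _ hπ.surjective
  obtain ⟨_, h⟩ := h
  have he : imm U φ ≫ Spec.map (CommRingCat.ofHom π) = imm U θ := by
    subst hθ
    rw [imm, imm, Category.assoc, ← Spec.map_comp]
    rfl
  exact ⟨‹_›, pcTest_of_push he U.ι hπ.pcStr h⟩

section Comp

variable {f : X ⟶ Y} {g : Y ⟶ S} {m b : ℤ} {K : DCoh.D X} {U : X.Opens} {W : Y.Opens} {V : S.Opens}
  {h₁ : U ≤ f ⁻¹ᵁ W} {h : U ≤ (f ≫ g) ⁻¹ᵁ V}

theorem exists_comp_data {s : ℤ} (h₂ : W ≤ g ⁻¹ᵁ V) (hg : PCBaseAt s g) [LocallyOfFiniteType f]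
    (hU : IsAffineOpen U) (hW : IsAffineOpen W) (hV : IsAffineOpen V) :
    ∃ (n : ℕ) (φ : MvPolynomial (Fin n) Γ(Y, W) →+* Γ(X, U)) (ι : Type) (_ : Finite ι)
      (π : MvPolynomial ι Γ(S, V) →+* MvPolynomial (Fin n) Γ(Y, W)),
      Function.Surjective φ ∧ φ.comp MvPolynomial.C = (f.appLE W U h₁).hom ∧ PCRingAt s π ∧
      (φ.comp π).comp MvPolynomial.C = ((f ≫ g).appLE V U h).hom := by
  obtain ⟨k, ψ, hψC, hψ⟩ := hg W V hW hV h₂
  have hft : (f.appLE W U h₁).hom.FiniteType := LocallyOfFiniteType.finiteType_appLE f hW hU h₁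
  algebraize [(f.appLE W U h₁).hom]
  obtain ⟨n, φ', hφ⟩ := Algebra.FiniteType.iff_quotient_mvPolynomial''.1 ‹_›
  have hC : φ'.toRingHom.comp MvPolynomial.C = (f.appLE W U h₁).hom :=
    RingHom.ext fun r => φ'.commutes r
  refine ⟨n, φ'.toRingHom, Fin n ⊕ Fin k, inferInstance,
    (MvPolynomial.map ψ : MvPolynomial (Fin n) _ →+* MvPolynomial (Fin n) _).comp
      (MvPolynomial.sumRingEquiv Γ(S, V) (Fin n) (Fin k)).toRingHom, hφ, hC,
    (hψ.map n).comp_equiv (MvPolynomial.sumRingEquiv Γ(S, V) (Fin n) (Fin k)), ?_⟩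
  rw [← Scheme.Hom.appLE_comp_appLE f g V W U h₂ h₁, CommRingCat.hom_comp, ← hψC]
  ext r
  simpa using RingHom.congr_fun hC (ψ (MvPolynomial.C r))

/-- The test for the first morphism gives the test for the composite. -/
theorem hasTest_comp_of_level [K.IsLE b] (h₂ : W ≤ g ⁻¹ᵁ V) (hg : PCBaseAt (m - b) g)
    [LocallyOfFiniteType f] (hU : IsAffineOpen U) (hW : IsAffineOpen W) (hV : IsAffineOpen V)
    (hT : HasTest f U W h₁ m K) : HasTest (f ≫ g) U V h m K := by
  obtain ⟨n, φ, ι, _, π, hφ, hC, hπ, hθ⟩ := exists_comp_data (f := f) (h₁ := h₁) (h := h) h₂ hg hU hW hV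
  exact ⟨ι, inferInstance, φ.comp π, hφ.comp hπ.surjective, hθ,
    ringTest_push (b := b) hU hφ hπ rfl (hT.ringTest hU hφ hC)⟩

/-- The test for the composite gives the test for the first morphism. -/
theorem hasTest_of_comp_level [K.IsLE b] (h₂ : W ≤ g ⁻¹ᵁ V) (hg : PCBaseAt (m + 1 - b) g)
    [LocallyOfFiniteType f] (hU : IsAffineOpen U) (hW : IsAffineOpen W) (hV : IsAffineOpen V)
    (hT : HasTest (f ≫ g) U V h m K) : HasTest f U W h₁ m K := by
  obtain ⟨n, φ, ι, _, π, hφ, hC, hπ, hθ⟩ := exists_comp_data (f := f) (h₁ := h₁) (h := h) h₂ hg hU hW hV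
  exact ⟨Fin n, inferInstance, φ, hφ, hC, ringTest_of_push (b := b) hU hφ hπ rfl
    (hT.ringTest hU (hφ.comp hπ.surjective) hθ)⟩

theorem isPseudoCoherentRel_comp_of_level [LocallyOfFiniteType f] [LocallyOfFiniteType g] [K.IsLE b]
    (hg : PCBaseAt (m - b) g) (hK : DerSch.IsPseudoCoherentRel f m K) :
    DerSch.IsPseudoCoherentRel (f ≫ g) m K := by
  refine isPseudoCoherentRel_of_hasTest fun U V h => ?_
  have hft : ((f ≫ g).appLE (V : S.Opens) (U : X.Opens) h).hom.FiniteType :=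
    LocallyOfFiniteType.finiteType_appLE (f ≫ g) V.2 U.2 h
  algebraize [((f ≫ g).appLE (V : S.Opens) (U : X.Opens) h).hom]
  obtain ⟨n, φ, hφ⟩ := Algebra.FiniteType.iff_quotient_mvPolynomial''.1 ‹_›
  refine hasTest_of_locally U.2 (φ := φ.toRingHom) hφ (RingHom.ext fun r => φ.commutes r)
    fun z hz => ?_
  obtain ⟨W, hW, hzW, hWV⟩ :=
    exists_isAffineOpen_mem_and_subset (X := Y) (x := f z) (U := g ⁻¹ᵁ (V : S.Opens)) (h hz)
  obtain ⟨a, ha, hza⟩ := U.2.exists_basicOpen_le (V := f ⁻¹ᵁ W) ⟨z, hzW⟩ hz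
  exact ⟨a, hza, hasTest_comp_of_level (b := b) (h₁ := ha) hWV hg (U.2.basicOpen a) hW V.2
    (hasTest_of_isPseudoCoherentRel hK (U.2.basicOpen a) hW)⟩

theorem isPseudoCoherentRel_of_comp_level [LocallyOfFiniteType f] [LocallyOfFiniteType g] [K.IsLE b]
    (hg : PCBaseAt (m + 1 - b) g) (hK : DerSch.IsPseudoCoherentRel (f ≫ g) m K) :
    DerSch.IsPseudoCoherentRel f m K := by
  refine isPseudoCoherentRel_of_hasTest fun U W h => ?_
  have hft : (f.appLE (W : Y.Opens) (U : X.Opens) h).hom.FiniteType :=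
    LocallyOfFiniteType.finiteType_appLE f W.2 U.2 h
  algebraize [(f.appLE (W : Y.Opens) (U : X.Opens) h).hom]
  obtain ⟨n, φ, hφ⟩ := Algebra.FiniteType.iff_quotient_mvPolynomial''.1 ‹_›
  refine hasTest_of_locally U.2 (φ := φ.toRingHom) hφ (RingHom.ext fun r => φ.commutes r)
    fun z hz => ?_
  obtain ⟨V, hV, hzV, -⟩ :=
    exists_isAffineOpen_mem_and_subset (X := S) (x := g (f z)) (U := ⊤) trivial
  obtain ⟨r, hr, hzr⟩ := W.2.exists_basicOpen_le (V := g ⁻¹ᵁ V) ⟨f z, hzV⟩ (h hz)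
  obtain ⟨a, ha, hza⟩ := U.2.exists_basicOpen_le (V := f ⁻¹ᵁ Y.basicOpen r) ⟨z, hzr⟩ hz
  refine ⟨a, hza, ?_⟩
  have hT : HasTest (f ≫ g) (X.basicOpen a) V (fun x hx => hr (ha hx)) m K :=
    hasTest_of_isPseudoCoherentRel hK (U.2.basicOpen a) hV
  exact ((hasTest_of_comp_level (b := b) (h₁ := ha) hr hg (U.2.basicOpen a) (W.2.basicOpen r) hV)
    hT).of_base W.2 (U.2.basicOpen a) r ha

end Comp

end Groth.Agent.H56.RelPC

namespace Groth.Agent.H56.RelPC

open Groth.Agent.Lib Groth.Agent.Lib.Perfect.Basic Groth.Agent.Lib.Perfect.PseudoCoh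

attribute [local instance] HasDerivedCategory.standard

theorem isPseudoCoherentRel_mono {X S : Scheme.{u}} {f : X ⟶ S} [LocallyOfFiniteType f] {m m' : ℤ}
    {K : DCoh.D X} (hm : m ≤ m') (hK : DerSch.IsPseudoCoherentRel f m K) :
    DerSch.IsPseudoCoherentRel f m' K :=
  isPseudoCoherentRel_of_hasTest fun U V h =>
    let ⟨ι, hι, φ, hφ, hC, ho, hT⟩ := hasTest_of_isPseudoCoherentRel (h := h) hK U.2 V.2
    ⟨ι, hι, φ, hφ, hC, ho, fun x => (hT x).mono' hm⟩

end Groth.Agent.H56.RelPC
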