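import Groth.Agent.H56.RelPC.PushConverse
import Groth.Agent.Lib.QCoh.Tilde
import Groth.Agent.Lib.QCoh.Pushforward
import Mathlib.Algebra.Homology.DerivedCategory.SingleTriangle

/-!
A closed subscheme of an affine scheme cut out by one regular element has pseudo-coherent
structure module; composition of such closed immersions.
-/

set_option autoImplicit false
set_option linter.style.haveILetI false

universe u

open CategoryTheory Limits AlgebraicGeometry TopologicalSpace

namespace Groth.Agent.H56.RelPC

open Groth.Agent.Lib Groth.Agent.Lib.Perfect.Basic Groth.Agent.Lib.Perfect.PseudoCoh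

attribute [local instance] HasDerivedCategory.standard

theorem pcAt_inD_structureModule {X : Scheme.{u}} (m : ℤ) (x : X) :
    PCAt m (DCoh.inD X (Coh.structureModule X)) x :=
  (PCSingle.pcAt_inD_freeMod 1 m x).of_iso ((DerivedCategory.singleFunctor X.Modules 0).mapIso
    (coproductUniqueIso fun _ : Fin 1 => Coh.structureModule X))

/-- An isomorphism has pseudo-coherent direct image of the structure module. -/
theorem pcStr_of_isIso {Z X : Scheme.{u}} (e : Z ⟶ X) [IsIso e] : PCStr e := fun m x => by
  obtain ⟨z, rfl⟩ : ∃ z, e z = x := ⟨inv e x, by rw [← Scheme.Hom.comp_apply, IsIso.inv_hom_id]; rfl⟩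
  exact PCSingle.pcAt_inD_of_restrict e z ((pcAt_inD_structureModule m z).of_iso
    ((DerivedCategory.singleFunctor Z.Modules 0).mapIso
      ((Scheme.Modules.restrictFunctorAdjCounitIso e).app (Coh.structureModule Z)).symm))

theorem PCStr.comp {Z Y X : Scheme.{u}} {c : Z ⟶ Y} {d : Y ⟶ X} [IsClosedImmersion d]
    (hc : PCStr c) (hd : PCStr d) : PCStr (c ≫ d) := fun m x =>
  (pcAt_push d hd (hc m) x).of_iso (FDinD (Scheme.Modules.pushforward d) _ ≪≫ (DerivedCategory.singleFunctor X.Modules 0).mapIso
    ((Scheme.Modules.pushforwardComp c d).app (Coh.structureModule Z)))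

theorem PCStr.of_eq {Z X : Scheme.{u}} {c d : Z ⟶ X} (hc : PCStr c) (h : c = d) : PCStr d := h ▸ hc

section

variable {A B : Type u} [CommRing A] [CommRing B] (ψ : A →+* B)

/-- The short exact sequence `0 → A → A → M → 0` of a principal quotient. -/
theorem exists_shortExact_principal (hψ : Function.Surjective ψ) (t : A)
    (hker : RingHom.ker ψ = Ideal.span {t}) (ht : ∀ a, t * a = 0 → a = 0)
    (M : ModuleCat.{u} A) (one : M) (e : B ≃+ M) (h : ∀ a : A, e (ψ a) = a • one) :
    ∃ (g : ModuleCat.of A A ⟶ ModuleCat.of A A) (f : ModuleCat.of A A ⟶ M) (w : g ≫ f = 0),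
      (ShortComplex.mk g f w).ShortExact := by
  let f : ModuleCat.of A A ⟶ M := ModuleCat.ofHom (LinearMap.toSpanSingleton A M one)
  let g : ModuleCat.of A A ⟶ ModuleCat.of A A := ModuleCat.ofHom (LinearMap.mulLeft A t)
  have hf : ∀ a : A, f a = 0 ↔ ψ a = 0 := fun a => by
    change a • one = 0 ↔ _
    rw [← h]
    exact e.map_eq_zero_iff
  have hgf : g ≫ f = 0 := by
    ext
    change f (t * 1) = 0
    rw [mul_one, hf, ← RingHom.mem_ker, hker]
    exact Ideal.mem_span_singleton_self t
  refine ⟨g, f, hgf, ShortComplex.ShortExact.mk' ?_ ?_ ?_⟩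
  · refine (ShortComplex.moduleCat_exact_iff _).2 fun (a : A) ha => ?_
    have := RingHom.mem_ker.2 ((hf a).1 ha)
    rw [hker, Ideal.mem_span_singleton] at this
    obtain ⟨b, rfl⟩ := this
    exact ⟨b, rfl⟩
  · exact (ModuleCat.mono_iff_injective g).2 fun (a : A) b hab => sub_eq_zero.1 (ht _ (by
      rw [mul_sub]
      exact sub_eq_zero.2 hab))
  · refine (ModuleCat.epi_iff_surjective f).2 fun y => ?_
    obtain ⟨a, ha⟩ := hψ (e.symm y)
    refine ⟨a, ?_⟩
    change a • one = y
    rw [← h, ha, e.apply_symm_apply]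

set_option backward.isDefEq.respectTransparency.types false in
/-- The quotient of an affine scheme by a regular element. -/
theorem pcStr_of_principal (hψ : Function.Surjective ψ) (t : A)
    (hker : RingHom.ker ψ = Ideal.span {t}) (ht : ∀ a, t * a = 0 → a = 0) :
    PCStr (Spec.map (CommRingCat.ofHom ψ)) := by
  let R := CommRingCat.of A
  let c := Spec.map (CommRingCat.ofHom ψ)
  haveI : IsClosedImmersion c := IsClosedImmersion.spec_of_surjective _ hψ
  let O : (Spec (CommRingCat.of B)).Modules := Coh.structureModule _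
  haveI : O.IsQuasicoherent := TensorMod.QCohInv.isQCoh_structureModule _
  let N := (Scheme.Modules.pushforward c).obj O
  haveI : N.IsQuasicoherent := QCoh.Pushforward.isQCoh_pushforward c
  let eB : B ≃+* Γ(Spec (CommRingCat.of B), ⊤) :=
    (Scheme.ΓSpecIso (CommRingCat.of B)).commRingCatIsoToRingEquiv.symm
  obtain ⟨g, f, w, hS⟩ := exists_shortExact_principal ψ hψ t hker ht
    ((QCoh.Tilde.specΓ R).obj N) (1 : Γ(Spec (CommRingCat.of B), c ⁻¹ᵁ ⊤)) eB.toAddEquiv fun a => by
      symm
      change c.app ⊤ ((Spec R).presheaf.map (homOfLE (le_top (a := (⊤ : (Spec R).Opens)))).op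
        ((Scheme.ΓSpecIso R).inv a)) * (1 : Γ(Spec (CommRingCat.of B), c ⁻¹ᵁ ⊤)) = _
      rw [mul_one, show (homOfLE (le_top (a := (⊤ : (Spec R).Opens)))) = 𝟙 _ from Subsingleton.elim _ _]
      simp only [op_id, CategoryTheory.Functor.map_id]
      exact (congr($(Scheme.ΓSpecIso_inv_naturality (CommRingCat.ofHom ψ)) a)).symm
  have hT := QCoh.Tilde.tilde_map_shortExact (R := R) hS
  intro m x
  have hfree : ∀ k, PCAt k (DCoh.inD (Spec R) ((tilde.functor R).obj (ModuleCat.of R R))) x := fun k =>
    (pcAt_inD_structureModule k x).of_iso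
      ((DerivedCategory.singleFunctor _ 0).mapIso (tildeSelf (R := R)).symm)
  exact (pcAt₃ hT.singleTriangle_distinguished (hfree (m + 1)) (hfree m)).of_iso
    ((DerivedCategory.singleFunctor _ 0).mapIso (QCoh.Tilde.isoTildeSections N))

end

end Groth.Agent.H56.RelPC
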