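import Groth.Agent.H56.PCSingle.Basic
import Groth.Agent.Lib.Perfect.Coherent

/-!
A finite free module mapping onto top cohomology of finite type, locally.
-/

set_option autoImplicit false
set_option linter.style.haveILetI false

universe u

open CategoryTheory CategoryTheory.Limits CategoryTheory.Pretriangulated AlgebraicGeometry

attribute [local instance] HasDerivedCategory.standard

namespace Groth.Agent.H56.RelPC

open Groth.Agent.Lib Groth.Agent.Lib.Perfect Groth.Agent.Lib.Perfect.Basic Groth.Agent.Lib.Perfect.PseudoCoh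
open Groth.Agent.Lib.Perfect.Ascent

/-- A locally free module mapping onto the top cohomology, locally. -/
theorem exists_top_map {X : Scheme.{u}} {K : DCoh.D X} (b : ℤ)
    (hb : K.IsLE b) (hH : CohB1.IsFT (DCoh.HD K b)) (x : X) :
    ∃ (U : Scheme.{u}) (j : U ⟶ X) (_ : IsOpenImmersion j) (y : U)
      (E : CochainComplex U.Modules ℤ) (α : DerivedCategory.Q.obj E ⟶ (RD j).obj K),
      j y = x ∧ DCoh.IsStrictlyPerfect E ∧ (∀ i, i ≠ b → IsZero (E.X i)) ∧ Good b α := by
  obtain ⟨F, hF, ⟨eF⟩⟩ := K.exists_iso_Q_obj_of_isLE b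
  let eH : F.homology b ≅ DCoh.HD K b :=
    ((DerivedCategory.homologyFunctorFactors X.Modules b).app F).symm ≪≫
      (DerivedCategory.homologyFunctor X.Modules b).mapIso eF.symm
  have hz : ∀ i, b < i → IsZero (F.X i) := fun i hi => F.isZero_of_isStrictlyLE b i hi
  haveI : IsIso (F.iCycles b) :=
    F.isIso_iCycles b (b + 1) (by simp) ((hz (b + 1) (by omega)).eq_of_tgt _ _)
  let p : F.X b ⟶ DCoh.HD K b := inv (F.iCycles b) ≫ F.homologyπ b ≫ eH.hom
  haveI : Epi p := epi_comp' inferInstance (epi_comp' inferInstance inferInstance)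
  have hp0 : F.d (b - 1) b ≫ p = 0 := by
    simp only [p]
    rw [← F.toCycles_i (b - 1) b, Category.assoc, IsIso.hom_inv_id_assoc,
      HomologicalComplex.toCycles_comp_homologyπ_assoc, zero_comp]
  have hSp : (ShortComplex.mk (F.d (b - 1) b) p hp0).Exact := by
    refine ShortComplex.exact_of_iso (S₁ := ShortComplex.mk (F.toCycles (b - 1) b) (F.homologyπ b)
        (F.toCycles_comp_homologyπ (b - 1) b))
      (ShortComplex.isoMk (Iso.refl _) (asIso (F.iCycles b)) eH ?_ ?_)
      ((ShortComplex.mk (F.toCycles (b - 1) b) (F.homologyπ b)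
        (F.toCycles_comp_homologyπ (b - 1) b)).exact_of_g_is_cokernel
          (F.homologyIsCokernel (b - 1) b (by simp)))
    · simp
    · simp [p]
  obtain ⟨V, n, q, hxV, hq⟩ := PCSingle.exists_epi_of_isFT hH x
  let R := Scheme.Modules.restrictFunctor V.ι
  haveI : PreservesColimitsOfSize.{0, 0} R :=
    (Scheme.Modules.restrictAdjunction V.ι).leftAdjoint_preservesColimits
  obtain ⟨W, hyW, hW⟩ := Modules.Free.exists_lift (R.map p) q ⟨x, hxV⟩
  let R' := Scheme.Modules.restrictFunctor W.ι
  haveI : PreservesColimitsOfSize.{0, 0} R' :=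
    (Scheme.Modules.restrictAdjunction W.ι).leftAdjoint_preservesColimits
  obtain ⟨ψ, hψ⟩ := hW W.ι (by simp)
  let L := R'.obj (FlatMod.freeMod (V : Scheme.{u}) n)
  let E := (HomologicalComplex.single (W : Scheme.{u}).Modules (ComplexShape.up ℤ) b).obj L
  let G := (rC W.ι).obj ((rC V.ι).obj F)
  let φ : E ⟶ G := HomologicalComplex.mkHomFromSingle ψ (fun i hi =>
    (R'.map_isZero (R.map_isZero (hz i (by simp at hi; omega)))).eq_of_tgt _ _)
  have hL : FlatMod.IsFinLocFree L := TensorMod.LocFree.isFinLocFree_restrict _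
    (TensorMod.LocFree.of_rank (TensorMod.LocFree.isFinLocFree_freeMod _ n))
  refine ⟨W, W.ι ≫ V.ι, inferInstance, ⟨⟨x, hxV⟩, hyW⟩, E,
    DerivedCategory.Q.map φ ≫ (RDQ W.ι _).inv ≫ (RD W.ι).map ((RDQ V.ι F).inv ≫ (RD V.ι).map eF.inv) ≫
      (Triangle.RDComp W.ι V.ι K).inv, rfl, ⟨⟨b, b, fun i hi => ?_⟩, fun i => ?_⟩, fun i hi => ?_, ?_⟩
  · exact HomologicalComplex.isZero_single_obj_X _ _ _ _ (by omega)
  · by_cases hi : i = b
    · subst hi
      exact TensorMod.LocFree.of_iso (HomologicalComplex.singleObjXSelf _ _ _).symm hL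
    · exact Stupid.isFinLocFree_isZero (HomologicalComplex.isZero_single_obj_X _ _ _ _ hi)
  · exact HomologicalComplex.isZero_single_obj_X _ _ _ _ hi
  have hG : ∀ i, b < i → IsZero (G.X i) := fun i hi => R'.map_isZero (R.map_isZero (hz i hi))
  let π : G.X b ⟶ R'.obj (R.obj (DCoh.HD K b)) := R'.map (R.map p)
  have hSG : (ShortComplex.mk (G.d (b - 1) b) π (by
      change R'.map (R.map (F.d (b - 1) b)) ≫ R'.map (R.map p) = 0
      rw [← Functor.map_comp, ← Functor.map_comp, hp0, Functor.map_zero, Functor.map_zero])).Exact :=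
    (hSp.map R).map R'
  haveI : Epi π := inferInstanceAs (Epi (R'.map (R.map p)))
  have hgood : Good b (DerivedCategory.Q.map φ) := by
    refine ⟨fun i hi => (NatIso.isIso_map_iff (DerivedCategory.homologyFunctorFactors _ i) φ).2
      ⟨⟨0, (HomologicalComplex.ExactAt.of_isZero (HomologicalComplex.isZero_single_obj_X _ _ _ _
        (by omega))).isZero_homology.eq_of_src _ _,
        (HomologicalComplex.ExactAt.of_isZero (hG i hi)).isZero_homology.eq_of_src _ _⟩⟩, ?_⟩
    refine ((MorphismProperty.epimorphisms _).arrow_mk_iso_iff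
      (((Functor.mapArrowFunctor _ _).mapIso (DerivedCategory.homologyFunctorFactors _ b)).app
        (Arrow.mk φ))).2 ?_
    change Epi (HomologicalComplex.homologyMap φ b)
    haveI : IsIso (G.homologyι b) :=
      G.isIso_homologyι b (b + 1) (by simp) ((hG (b + 1) (by omega)).eq_of_tgt _ _)
    haveI : IsIso (E.homologyι b) :=
      E.isIso_homologyι b (b + 1) (by simp)
        ((HomologicalComplex.isZero_single_obj_X _ _ _ _ (by omega)).eq_of_tgt _ _)
    haveI : Epi (φ.f b ≫ π) := by
      have h1 : φ.f b = (HomologicalComplex.singleObjXSelf (ComplexShape.up ℤ) b L).hom ≫ ψ := by simp [φ]; rfl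
      have : φ.f b ≫ π = (HomologicalComplex.singleObjXSelf (ComplexShape.up ℤ) b L).hom ≫ R'.map q :=
        (congrArg (· ≫ π) h1).trans ((Category.assoc _ _ _).trans (congrArg _ hψ))
      rw [this]
      exact epi_comp' inferInstance inferInstance
    obtain ⟨d, hd⟩ := CokernelCofork.IsColimit.desc' hSG.gIsCokernel (G.pOpcycles b) (G.d_pOpcycles _ _)
    change π ≫ d = G.pOpcycles b at hd
    haveI : Epi (π ≫ d) := by rw [hd]; infer_instance
    haveI : Epi d := epi_of_epi π d
    haveI : Epi (E.pOpcycles b ≫ HomologicalComplex.opcyclesMap φ b) := by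
      rw [HomologicalComplex.p_opcyclesMap, ← hd, ← Category.assoc]
      exact epi_comp _ _
    haveI : Epi (HomologicalComplex.opcyclesMap φ b) := epi_of_epi (E.pOpcycles b) _
    have hn : HomologicalComplex.homologyMap φ b =
        E.homologyι b ≫ HomologicalComplex.opcyclesMap φ b ≫ inv (G.homologyι b) := by
      rw [← HomologicalComplex.homologyι_naturality_assoc, IsIso.hom_inv_id, Category.comp_id]
    rw [hn]
    exact epi_comp' inferInstance (epi_comp' inferInstance inferInstance)
  exact hgood.comp (Good.of_isIso b _)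

end Groth.Agent.H56.RelPC
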