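import Groth.Agent.H56.RelPC.Push
import Groth.Agent.H56.RelPC.TopMap
import Groth.Agent.H56.PCSingle.QCoh

/-!
Pseudo-coherence is detected by direct image along a closed immersion.
-/

set_option autoImplicit false
set_option linter.style.haveILetI false

universe u

open CategoryTheory Limits AlgebraicGeometry TopologicalSpace CategoryTheory.Pretriangulated

namespace Groth.Agent.H56.RelPC

open Groth.Agent.Lib Groth.Agent.Lib.Perfect.Basic Groth.Agent.Lib.Perfect.PseudoCoh
open Groth.Agent.Lib.Perfect.Ascent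

attribute [local instance] HasDerivedCategory.standard

variable {Z X : Scheme.{u}} (i : Z ⟶ X) [IsClosedImmersion i]

/-- A module is the inverse image of its direct image along a closed immersion. -/
noncomputable def pullPushIso (M : Z.Modules) :
    (Scheme.Modules.pullback i).obj ((Scheme.Modules.pushforward i).obj M) ≅ M :=
  haveI := Cyc.Dev.SchemeCase.isIso_counit i M
  asIso ((Scheme.Modules.pullbackPushforwardAdjunction i).counit.app M)

theorem isFT_of_push {M : Z.Modules} (h : CohB1.IsFT ((Scheme.Modules.pushforward i).obj M)) :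
    CohB1.IsFT M :=
  @Modules.SupportOps.isFT_of_iso _ _ _ (pullPushIso i M)
    (@Modules.SupportOps.isFT_pullback _ _ i _ h)

theorem isZero_of_push {M : Z.Modules} (h : IsZero ((Scheme.Modules.pushforward i).obj M)) :
    IsZero M :=
  ((Scheme.Modules.pullback i).map_isZero h).of_iso (pullPushIso i M).symm

/-- A neighbourhood of the target factoring through a chart of the source. -/
theorem exists_trap {U : Scheme.{u}} (j : U ⟶ Z) [IsOpenImmersion j] (y : U) :
    ∃ (W : X.Opens) (_ : i (j y) ∈ W) (v : ((i ⁻¹ᵁ W : Z.Opens) : Scheme.{u}) ⟶ U)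
      (_ : IsOpenImmersion v), v ≫ j = (i ⁻¹ᵁ W).ι := by
  obtain ⟨W, hW, hWU⟩ := exists_nhd i (j y) j.opensRange ⟨y, rfl⟩
  let v : ((i ⁻¹ᵁ W : Z.Opens) : Scheme.{u}) ⟶ U :=
    IsOpenImmersion.lift j (i ⁻¹ᵁ W).ι (by
      rw [Scheme.Opens.range_ι]
      exact hWU)
  have hv : v ≫ j = (i ⁻¹ᵁ W).ι := IsOpenImmersion.lift_fac _ _ _
  haveI : IsOpenImmersion (v ≫ j) := by rw [hv]; infer_instance
  exact ⟨W, hW, v, IsOpenImmersion.of_comp v j, hv⟩

omit [IsClosedImmersion i] in
theorem pcAt_of_bounded_aux (m : ℤ) : ∀ (k : ℕ) {Z X : Scheme.{u}} (i : Z ⟶ X)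
    [IsClosedImmersion i] (_ : PCStr i) (K : DCoh.D Z) (b : ℤ), b + 1 ≤ m + k → K.IsLE b →
    (∀ x, PCAt m ((PD i).obj K) x) → ∀ z, PCAt m K z := by
  intro k
  induction k with
  | zero =>
    intro Z X i _ _ K b hk hb _ z
    exact pcAt_of_vanish (fun l hl => DerivedCategory.isZero_of_isLE K b l (by omega)) z
  | succ k ih =>
    intro Z X i _ h K b hk hb hK z
    by_cases hbm : b < m
    · exact pcAt_of_vanish (fun l hl => DerivedCategory.isZero_of_isLE K b l (by omega)) z
    have hft : CohB1.IsFT (DCoh.HD K b) := by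
      refine isFT_of_push i (@Modules.SupportOps.isFT_of_iso _ _ _
        (homologyFD (Scheme.Modules.pushforward i) K b) ?_)
      exact Perfect.Top.isFT_top (fun x => (hK x).mono' (by omega)) fun l hl =>
        ((Scheme.Modules.pushforward i).map_isZero
          (DerivedCategory.isZero_of_isLE K b l (by omega))).of_iso (homologyFD _ K l)
    obtain ⟨U, j, _, y, E, α, hy, hE, -, hα⟩ := exists_top_map b hb hft z
    obtain ⟨W, hW, v, _, hv⟩ := exists_trap i j y
    let e : (RD v).obj ((RD j).obj K) ≅ (RD (i ⁻¹ᵁ W).ι).obj K :=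
      (Perfect.Triangle.RDComp v j K).symm ≪≫ Perfect.Triangle.RDCongr hv K
    let β : DerivedCategory.Q.obj ((rC v).obj E) ⟶ (RD (i ⁻¹ᵁ W).ι).obj K :=
      (RDQ v E).inv ≫ (RD v).map α ≫ e.hom
    have hβ : Good b β :=
      (Good.of_isIso b _).comp ((good_restrict v hα).comp (Good.of_isIso b _))
    obtain ⟨C, g, δ, hd⟩ := distinguished_cocone_triangle β
    have hC : C.IsLE (b - 1) := (DerivedCategory.isLE_iff C (b - 1)).2 fun l hl =>
      (good_iff b _ hd).1 hβ l (by omega)
    have hE' := isStrictlyPerfect_map v hE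
    have hPC : ∀ x, PCAt m ((PD (i ∣_ W)).obj C) x := fun x =>
      pcAt₃ ((PD (i ∣_ W)).map_distinguished _ hd)
        (pcAt_push_strictlyPerfect _ (h.restrict i W) hE' _ _)
        ((PCAt.restrict W.ι x (hK _)).of_iso (restrPD i W K))
    subst hy
    refine PCAt.of_restrict (j := (i ⁻¹ᵁ W).ι)
      (y := (⟨j y, hW⟩ : ((i ⁻¹ᵁ W : Z.Opens) : Scheme.{u}))) rfl
      (pcAt₂ hd ?_ (ih (i ∣_ W) (h.restrict i W) C (b - 1) (by omega) hC hPC _))
    exact ⟨_, 𝟙 _, inferInstance, _, _, (RDQ (𝟙 _) ((rC v).obj E)).inv, rfl,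
      isStrictlyPerfect_map _ hE', Good.of_isIso _ _⟩

/-- Pseudo-coherence is detected by direct image along a closed immersion. -/
theorem pcAt_of_push (h : PCStr i) {K : DCoh.D Z} {m : ℤ} (hK : ∀ x, PCAt m ((PD i).obj K) x)
    (z : Z) : PCAt m K z := by
  obtain ⟨U, j, _, y, E, α, hy, ⟨⟨a, b, hv⟩, -⟩, hα⟩ := hK (i z)
  let W : X.Opens := j.opensRange
  let B := max b m
  have hW : ((RD (i ⁻¹ᵁ W).ι).obj K).IsLE B := by
    refine (DerivedCategory.isLE_iff _ B).2 fun l hl => isZero_of_push (i ∣_ W) ?_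
    have := hα.1 l (lt_of_le_of_lt (le_max_right _ _) hl)
    have hU : IsZero (DCoh.HD ((RD j).obj ((PD i).obj K)) l) :=
      IsZero.of_iso (((HomologicalComplex.ExactAt.of_isZero
        (hv l (Or.inr (lt_of_le_of_lt (le_max_left _ _) hl)))).isZero_homology).of_iso
          ((DerivedCategory.homologyFunctorFactors U.Modules l).app E))
        (asIso ((DerivedCategory.homologyFunctor U.Modules l).map α)).symm
    have hz := ((Scheme.Modules.restrictFunctor j.isoOpensRange.inv).map_isZero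
      (hU.of_iso (Perfect.Coherent.homologyIso j _ l).symm)).of_iso
      (PCSingle.restrictRangeIso j _).symm
    exact hz.of_iso ((Scheme.Modules.pushforward (i ∣_ W)).mapIso
        (Perfect.Coherent.homologyIso (i ⁻¹ᵁ W).ι K l) ≪≫
      ((pushRestrIso i W).app (DCoh.HD K l)).symm ≪≫
      (Scheme.Modules.restrictFunctor W.ι).mapIso (homologyFD _ K l).symm)
  refine PCAt.of_restrict (j := (i ⁻¹ᵁ W).ι)
    (y := (⟨z, ⟨y, hy⟩⟩ : ((i ⁻¹ᵁ W : Z.Opens) : Scheme.{u}))) rfl ?_
  exact pcAt_of_bounded_aux m (B + 1 - m).toNat (i ∣_ W) (h.restrict i W) _ B (by omega) hW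
    (fun x => (PCAt.restrict W.ι x (hK _)).of_iso (restrPD i W K)) _

end Groth.Agent.H56.RelPC
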