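import Groth.Agent.H56.RelPC.ThickTorRing
import Groth.Agent.S6971
import Groth.Prelude.Def_DualSh

/-!
Base change of perfect complexes relative to a base ring.
-/

set_option autoImplicit false
set_option linter.style.haveILetI false

universe u

open CategoryTheory Limits HomologicalComplex
open scoped TensorProduct

attribute [local instance] HasDerivedCategory.standard

namespace Groth.Agent.H56.RelPC.RelPerfBC

open Groth.Agent.Lib Groth.Agent.Lib.DR Groth.Agent.Lib.DR.Basic Groth.Agent.Lib.DR.FiniteComplex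
  Groth.Agent.Lib.DR.PseudoCoherent Groth.Agent.Lib.DR.BaseChange Groth.Agent.Lib.DR.Representative
open Groth.Agent.Lib.DerivedOX KFlatBaseChange
open Groth.Agent.Lib.BettiExact TorTensor TorBaseChange

variable {R A S L : Type u} [CommRing R] [CommRing A] [CommRing S] [CommRing L]
  (φ : R →+* A) (ψ : R →+* S) (θ : TP φ ψ →+* L) (π : A →+* L) (πS : S →+* L)

/-- Base change keeps relative perfection. -/
theorem baseChange (hφ : φ.Flat) (hθ : θ.Flat) (hπ : θ.comp (inA φ ψ) = π) (hπS : θ.comp (inS φ ψ) = πS)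
    [DRing.HasLBaseChange π] (K : Dual.D A) (hpc : DRing.IsPseudoCoherent' A K) {a b : ℤ}
    (h : Bdd (flat R) a b ((DRing.restrictD φ).obj K)) :
    DRing.IsPseudoCoherent' L ((DRing.LBaseChange π).obj K) ∧
      Bdd (flat S) a b ((DRing.restrictD πS).obj ((DRing.LBaseChange π).obj K)) := by
  subst hπ hπS
  obtain ⟨E, c, hc, hE, ⟨e⟩⟩ := hpc
  have hflE : ∀ i, flat A (E.X i) := fun i => flat_of_free _ (hE i).2
  let eL : DerivedCategory.Q.obj ((extC (θ.comp (inA φ ψ))).obj E) ≅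
      (DRing.LBaseChange (θ.comp (inA φ ψ))).obj K :=
    (bcFlat _ E c hc hflE).symm ≪≫ (DRing.LBaseChange _).mapIso e
  refine ⟨⟨(extC (θ.comp (inA φ ψ))).obj E, c, fun i hi => (extF _).map_isZero (hc i hi),
    fun i => ext_ff _ _ (hE i), ⟨eL⟩⟩, ?_⟩
  haveI := BaseChangeU.hasLBaseChange ψ
  let C := (resC φ).obj E
  have hC : Bdd (flat R) a b (DerivedCategory.Q.obj C) :=
    Bdd.of_iso h ((DRing.restrictD φ).mapIso e.symm ≪≫ ExactPush.mapQ (resF φ) E)
  have hCS : Bdd (flat S) a b (DerivedCategory.Q.obj ((extC ψ).obj C)) :=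
    Bdd.of_iso (bdd_LBaseChange ψ (fun _ h => h) (ext_flat ψ) hC)
      (bcFlat ψ C c (fun i hi => (resF φ).map_isZero (hc i hi))
        fun i => LocalAmp.flat_restrict φ hφ _ (hflE i))
  exact Bdd.of_iso (bdd_res_ext_of φ ψ θ hθ hCS)
    ((ExactPush.mapQ (resF (θ.comp (inS φ ψ))) _).symm ≪≫ (DRing.restrictD _).mapIso eL)

/-- Relative perfection is detected modulo a nilpotent ideal. -/
theorem of_thickening (hφ : φ.Flat) (hθ : Function.Bijective θ) (hs : Function.Surjective ψ)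
    (hn : IsNilpotent (RingHom.ker ψ)) (hπ : θ.comp (inA φ ψ) = π) (hπS : θ.comp (inS φ ψ) = πS)
    [DRing.HasLBaseChange π] (K : Dual.D A)
    (hpc : DRing.IsPseudoCoherent' L ((DRing.LBaseChange π).obj K)) {a b : ℤ}
    (h : Bdd (flat S) a b ((DRing.restrictD πS).obj ((DRing.LBaseChange π).obj K))) :
    DRing.IsPseudoCoherent' A K ∧ Bdd (flat R) a b ((DRing.restrictD φ).obj K) := by
  subst hπ hπS
  have hπs : Function.Surjective (θ.comp (inA φ ψ)) := hθ.2.comp (ThickTorRing.inA_surjective φ ψ hs)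
  have hπn : IsNilpotent (RingHom.ker (θ.comp (inA φ ψ))) := by
    rw [show RingHom.ker (θ.comp (inA φ ψ)) = RingHom.ker (inA φ ψ) from by
      ext x
      exact map_eq_zero_iff θ hθ.1]
    exact ThickTorRing.isNilpotent_ker_inA φ ψ hs hn
  refine ⟨(Groth.Agent.S6971.result _ hπs hπn K).1 hpc, ?_⟩
  obtain ⟨T, hT, -, ⟨e⟩⟩ := BaseChangeU.exists_rep K
  refine Bdd.of_iso (ThickTorRing.bdd_of_thick φ ψ θ hφ hθ hs hn rfl rfl T (Bdd.of_iso h
    ((DRing.restrictD _).mapIso ((DRing.LBaseChange _).mapIso e.symm ≪≫ bc _ T) ≪≫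
      ExactPush.mapQ (resF (θ.comp (inS φ ψ))) _))) ((ExactPush.mapQ (resF φ) T).symm ≪≫
        (DRing.restrictD φ).mapIso e)

/-- A comparison map out of a tensor product. -/
def Comm {R A S L : Type u} [CommRing R] [CommRing A] [CommRing S] [CommRing L] (gA : A →+* L) (gS : S →+* L)
    [Algebra R A] [Algebra R S] : Prop :=
  ∃ θ : A ⊗[R] S →+* L, Function.Bijective θ ∧
    (∀ x : A, θ (x ⊗ₜ[R] (1 : S)) = gA x) ∧ ∀ y : S, θ ((1 : A) ⊗ₜ[R] y) = gS y

section Algebra

variable (R A R' : Type u) [CommRing R] [CommRing A] [Algebra R A] [CommRing R'] [Algebra R R']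

theorem exists_theta : ∃ θ : TP (algebraMap R A) (algebraMap R R') →+* R' ⊗[R] A, Function.Bijective θ ∧
    θ.comp (inA (algebraMap R A) (algebraMap R R')) =
      (Algebra.TensorProduct.includeRight : A →ₐ[R] R' ⊗[R] A).toRingHom ∧
    θ.comp (inS (algebraMap R A) (algebraMap R R')) = algebraMap R' (R' ⊗[R] A) := by
  have h : Comm (R := R) (Algebra.TensorProduct.includeRight : A →ₐ[R] R' ⊗[R] A).toRingHom
      (algebraMap R' (R' ⊗[R] A)) :=
    ⟨(Algebra.TensorProduct.comm R A R').toRingEquiv.toRingHom,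
      (Algebra.TensorProduct.comm R A R').bijective, fun _ => rfl, fun _ => rfl⟩
  have e₁ : (algebraMap R A).toAlgebra = ‹Algebra R A› := Algebra.algebra_ext _ _ fun _ => rfl
  have e₂ : (algebraMap R R').toAlgebra = ‹Algebra R R'› := Algebra.algebra_ext _ _ fun _ => rfl
  have h' : @Comm R A R' (R' ⊗[R] A) _ _ _ _ (Algebra.TensorProduct.includeRight : A →ₐ[R] R' ⊗[R] A).toRingHom
      (algebraMap R' (R' ⊗[R] A)) (algebraMap R A).toAlgebra (algebraMap R R').toAlgebra := by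
    convert h
  obtain ⟨θ, hθ, h₁, h₂⟩ := h'
  exact ⟨θ, hθ, RingHom.ext h₁, RingHom.ext h₂⟩

theorem isRelPerfect_LBaseChange [Module.Flat R A]
    [DRing.HasLBaseChange (Algebra.TensorProduct.includeRight.toRingHom : A →+* R' ⊗[R] A)]
    (K : Dual.D A) (hK : Dual2.IsRelPerfect R A K) :
    Dual2.IsRelPerfect R' (R' ⊗[R] A)
      ((DRing.LBaseChange (Algebra.TensorProduct.includeRight.toRingHom : A →+* R' ⊗[R] A)).obj K) := by
  obtain ⟨hpc, a, b, h⟩ := hK
  obtain ⟨θ, hθ, h₁, h₂⟩ := exists_theta R A R'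
  obtain ⟨h3, h4⟩ := baseChange _ _ θ _ _ (RingHom.flat_algebraMap_iff.2 ‹_›) (RingHom.Flat.of_bijective hθ)
    h₁ h₂ K hpc h
  exact ⟨h3, a, b, h4⟩

theorem isRelPerfect_of_thickening [Module.Flat R A]
    (hs : Function.Surjective (algebraMap R R')) (hn : IsNilpotent (RingHom.ker (algebraMap R R')))
    [DRing.HasLBaseChange (Algebra.TensorProduct.includeRight.toRingHom : A →+* R' ⊗[R] A)]
    (K : Dual.D A) (hK : Dual2.IsRelPerfect R' (R' ⊗[R] A)
      ((DRing.LBaseChange (Algebra.TensorProduct.includeRight.toRingHom : A →+* R' ⊗[R] A)).obj K)) :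
    Dual2.IsRelPerfect R A K := by
  obtain ⟨hpc, a, b, h⟩ := hK
  obtain ⟨θ, hθ, h₁, h₂⟩ := exists_theta R A R'
  obtain ⟨h3, h4⟩ := of_thickening _ _ θ _ _ (RingHom.flat_algebraMap_iff.2 ‹_›) hθ hs hn h₁ h₂ K hpc h
  exact ⟨h3, a, b, h4⟩

end Algebra

end Groth.Agent.H56.RelPC.RelPerfBC
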