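import Groth.Agent.H56.RelPC.RelTorFibRing
import Groth.Agent.H19.FlatLocus.Main
import Groth.Agent.Lib.DR.LTensorModule
import Mathlib.RingTheory.Localization.BaseChange
import Groth.Prelude.Def_DualSh

/-!
Relative perfection from boundedness on the fibres: ring level.
-/

set_option autoImplicit false
set_option linter.style.haveILetI false

universe u

open CategoryTheory Limits HomologicalComplex
open scoped TensorProduct

attribute [local instance] HasDerivedCategory.standard

namespace Groth.Agent.H56.RelPC.RelPerfFibre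

open Groth.Agent.Lib Groth.Agent.Lib.DR Groth.Agent.Lib.DR.Basic Groth.Agent.Lib.DR.FiniteComplex
  Groth.Agent.Lib.DR.PseudoCoherent Groth.Agent.Lib.DR.BaseChange Groth.Agent.Lib.DR.TorAmp
  Groth.Agent.Lib.DR.Representative
open Groth.Agent.Lib.DerivedOX KFlatBaseChange
open Groth.Agent.Lib.BettiExact TorTensor
open FibMod FibTorRing

section Residue

variable {R : Type u} [CommRing R] (p : Ideal R) [p.IsPrime]

/-- The residue field is the localization of the quotient. -/
theorem isLocalizedModule_residue :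
    IsLocalizedModule p.primeCompl (IsScalarTower.toAlgHom R (R ⧸ p) p.ResidueField).toLinearMap where
  map_units x := by
    rw [Module.End.isUnit_iff]
    have hx : algebraMap R p.ResidueField x ≠ 0 := fun h => x.2 (Ideal.algebraMap_residueField_eq_zero.1 h)
    exact ⟨fun a b hab => mul_left_cancel₀ hx (by simpa [Algebra.smul_def] using hab), fun a =>
      ⟨(algebraMap R p.ResidueField x)⁻¹ * a, by simp [Algebra.smul_def, mul_inv_cancel_left₀ hx]⟩⟩
  surj a := by
    obtain ⟨n, d, hd, h⟩ := IsFractionRing.div_surjective (R ⧸ p) a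
    obtain ⟨d, rfl⟩ := Ideal.Quotient.mk_surjective d
    have hd' : d ∉ p := fun h' => nonZeroDivisors.ne_zero hd (Ideal.Quotient.eq_zero_iff_mem.2 h')
    refine ⟨⟨n, ⟨d, hd'⟩⟩, ?_⟩
    have hne : algebraMap R p.ResidueField d ≠ 0 := fun h' => hd' (Ideal.algebraMap_residueField_eq_zero.1 h')
    show d • a = algebraMap (R ⧸ p) p.ResidueField n
    rw [← h, Algebra.smul_def, IsScalarTower.algebraMap_apply R (R ⧸ p) p.ResidueField,
      Ideal.Quotient.algebraMap_eq]
    exact mul_div_cancel₀ _ (by
      rwa [IsScalarTower.algebraMap_apply R (R ⧸ p) p.ResidueField, Ideal.Quotient.algebraMap_eq] at hne)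
  exists_of_eq {a b} h := ⟨1, by
    rw [one_smul, one_smul]
    exact IsFractionRing.injective (R ⧸ p) p.ResidueField h⟩

variable {M : Type u} [AddCommGroup M] [Module R M]

/-- Elements of the fibre lift up to units. -/
theorem exists_lift (z : M ⊗[R] p.ResidueField) : ∃ r ∉ p, ∃ v : M, r • z = v ⊗ₜ[R] 1 := by
  haveI := isLocalizedModule_residue p
  let l := TensorProduct.AlgebraTensorModule.rTensor R M
    (IsScalarTower.toAlgHom R (R ⧸ p) p.ResidueField).toLinearMap
  haveI : IsLocalizedModule p.primeCompl l := IsLocalizedModule.rTensor _ _ _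
  obtain ⟨⟨w, r⟩, h⟩ := IsLocalizedModule.surj p.primeCompl l (TensorProduct.comm R M p.ResidueField z)
  obtain ⟨v, rfl⟩ : ∃ v : M, (1 : R ⧸ p) ⊗ₜ[R] v = w :=
    TensorProduct.mk_surjective R M (R ⧸ p) Ideal.Quotient.mk_surjective w
  refine ⟨r, r.2, v, (TensorProduct.comm R M p.ResidueField).injective ?_⟩
  rw [map_smul]
  refine (show (r : R) • _ = l ((1 : R ⧸ p) ⊗ₜ[R] v) from h).trans ?_
  show ((IsScalarTower.toAlgHom R (R ⧸ p) p.ResidueField) 1) ⊗ₜ[R] v = (1 : p.ResidueField) ⊗ₜ[R] v
  rw [map_one]

/-- Elements vanishing in the fibre. -/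
theorem exists_of_tmul_eq_zero {v : M} (h : v ⊗ₜ[R] (1 : p.ResidueField) = 0) :
    ∃ r ∉ p, (1 : R ⧸ p) ⊗ₜ[R] (r • v) = 0 := by
  haveI := isLocalizedModule_residue p
  let l := TensorProduct.AlgebraTensorModule.rTensor R M
    (IsScalarTower.toAlgHom R (R ⧸ p) p.ResidueField).toLinearMap
  haveI : IsLocalizedModule p.primeCompl l := IsLocalizedModule.rTensor _ _ _
  have h0 : l ((1 : R ⧸ p) ⊗ₜ[R] v) = l 0 := by
    show ((IsScalarTower.toAlgHom R (R ⧸ p) p.ResidueField) 1) ⊗ₜ[R] v = _
    rw [map_one, map_zero]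
    exact (TensorProduct.comm R M p.ResidueField).map_eq_zero_iff.2 h
  obtain ⟨r, hr⟩ := IsLocalizedModule.exists_of_eq (S := p.primeCompl) h0
  refine ⟨r, r.2, ?_⟩
  rw [TensorProduct.tmul_smul]
  exact hr.trans (smul_zero _)

end Residue

variable {R A : Type u} [CommRing R] [CommRing A] [Algebra R A]

/-- Exactness in the fibre from exactness of the tensor with the residue field. -/
theorem fibExact_of_tens (E : DRing.Cx A) (q : PrimeSpectrum A) {a : ℤ}
    (h : ∀ j < a, ((tens (ModuleCat.of R (q.asIdeal.comap (algebraMap R A)).ResidueField)).obj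
      ((resC (algebraMap R A)).obj E)).ExactAt j) :
    FibExact (A := R) E a q := by
  let p := q.asIdeal.comap (algebraMap R A)
  intro j hj w hw
  obtain ⟨s, hs, hsw⟩ := hw
  letI : ∀ i, Module R (E.X i) := fun i => Module.compHom (E.X i) (algebraMap R A)
  haveI : ∀ i, IsScalarTower R A (E.X i) := fun i => IsScalarTower.of_algebraMap_smul fun _ _ => rfl
  let dR : ∀ i k, E.X i →ₗ[R] E.X k := fun i k => ((resC (algebraMap R A)).obj E).d i k |>.hom
  have h0 : ∀ (i : ℤ) (v : E.X i), v ∈ H47.InjFibre.pB R q • (⊤ : Submodule A (E.X i)) →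
      v ⊗ₜ[R] (1 : p.ResidueField) = 0 := by
    intro i v hv
    rw [H47.InjFibre.pB] at hv
    have h1 := (H47.InjFibre.mem_map_smul_iff p v).1 hv
    let g := (TensorProduct.comm R p.ResidueField (E.X i)).toLinearMap ∘ₗ
      TensorProduct.AlgebraTensorModule.rTensor R (E.X i)
        (IsScalarTower.toAlgHom R (R ⧸ p) p.ResidueField).toLinearMap
    have h2 := congrArg g h1
    rw [map_zero] at h2
    refine Eq.trans ?_ h2
    show _ = v ⊗ₜ[R] ((IsScalarTower.toAlgHom R (R ⧸ p) p.ResidueField) 1)
    rw [map_one]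
  have hex := h j hj
  rw [HomologicalComplex.exactAt_iff' _ (j - 1) j (j + 1) (by simp) (by simp),
    ShortComplex.ShortExact.moduleCat_exact_iff_function_exact] at hex
  obtain ⟨z, hz⟩ := (hex ((s • w) ⊗ₜ[R] (1 : p.ResidueField))).1 (by
    show dR j (j + 1) (s • w) ⊗ₜ[R] (1 : p.ResidueField) = 0
    refine h0 _ _ ?_
    show (E.d j (j + 1)).hom (s • w) ∈ _
    rw [map_smul]
    exact hsw)
  obtain ⟨r, hr, v, hv⟩ := exists_lift (M := E.X (j - 1)) p z
  have hz' : (dR (j - 1) j).rTensor p.ResidueField z = (s • w) ⊗ₜ[R] (1 : p.ResidueField) := hz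
  have h3 : (r • (s • w) - dR (j - 1) j v) ⊗ₜ[R] (1 : p.ResidueField) = 0 := by
    rw [TensorProduct.sub_tmul, ← TensorProduct.smul_tmul', ← hz', ← map_smul]
    erw [hv]
    exact sub_eq_zero.2 rfl
  obtain ⟨r', hr', h4⟩ := exists_of_tmul_eq_zero p h3
  refine ⟨algebraMap R A r' * algebraMap R A r * s, fun hmem => (q.isPrime.mem_or_mem hmem).elim
    (fun h' => (q.isPrime.mem_or_mem h').elim hr' hr) hs, algebraMap R A r' • v, ?_⟩
  have h5 := (H47.InjFibre.mem_map_smul_iff (B := A) p _).2 h4
  rw [← algebraMap_smul A r', smul_sub] at h5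
  rw [map_smul, mul_smul, mul_smul, algebraMap_smul A r (s • w)]
  exact h5

theorem free_res (N : ModuleCat.{u} A) [Module.Flat R A] (hN : free A N) :
    flat R ((resF (algebraMap R A)).obj N) := by
  letI : Module R N := Module.compHom N (algebraMap R A)
  haveI : IsScalarTower R A N := IsScalarTower.of_algebraMap_smul fun _ _ => rfl
  haveI : Module.Free A N := hN
  exact Module.Flat.trans R A N

/-- The criterion by fibres. -/
theorem isRelPerfect_iff [Module.Flat R A] [Algebra.FinitePresentation R A]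
    [∀ p : PrimeSpectrum R, DRing.HasLTensor R (ModuleCat.of R p.asIdeal.ResidueField)]
    (K : Dual.D A) (hK : DRing.IsPseudoCoherent' A K) :
    Dual2.IsRelPerfect R A K ↔
      (∃ a : ℤ, ∀ i : ℤ, i < a → Subsingleton (Dual.HD A K i)) ∧
        ∀ p : PrimeSpectrum R, ∃ a : ℤ, ∀ i : ℤ, i < a →
          Subsingleton (Dual.HD R ((DRing.LTensor R (ModuleCat.of R p.asIdeal.ResidueField)).obj
            ((DRing.restrictD (algebraMap R A)).obj K)) i) := by
  obtain ⟨E, c, hc, hE, ⟨e⟩⟩ := hK
  let C := (resC (algebraMap R A)).obj E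
  have hCc : ∀ i, c < i → IsZero (C.X i) := fun i hi => (resF _).map_isZero (hc i hi)
  have hCf : ∀ i, flat R (C.X i) := fun i => free_res _ (hE i).2
  let eC : DerivedCategory.Q.obj C ≅ (DRing.restrictD (algebraMap R A)).obj K :=
    (ExactPush.mapQ (resF (algebraMap R A)) E).symm ≪≫ (DRing.restrictD (algebraMap R A)).mapIso e
  have hEA : ∀ i, Subsingleton (Dual.HD A K i) ↔ E.ExactAt i := fun i => by
    rw [exactAt_iff_isZero_homology, ← ModuleCat.isZero_iff_subsingleton]
    exact Iso.isZero_iff ((DerivedCategory.homologyFunctor _ i).mapIso e.symm ≪≫ homologyQIso E i)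
  have hTp : ∀ (p : PrimeSpectrum R) i, Subsingleton (Dual.HD R
      ((DRing.LTensor R (ModuleCat.of R p.asIdeal.ResidueField)).obj
        ((DRing.restrictD (algebraMap R A)).obj K)) i) ↔
      ((tens (ModuleCat.of R p.asIdeal.ResidueField)).obj C).ExactAt i := fun p i => by
    rw [exactAt_iff_isZero_homology, ← ModuleCat.isZero_iff_subsingleton]
    exact Iso.isZero_iff ((DerivedCategory.homologyFunctor _ i).mapIso
      ((DRing.LTensor R _).mapIso eC.symm ≪≫ LTensorModule.ltFlat _ C c hCc hCf) ≪≫ homologyQIso _ i)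
  constructor
  · rintro ⟨-, a, b, h⟩
    have hb : Bdd (flat R) a b (DerivedCategory.Q.obj C) := Bdd.of_iso h eC.symm
    exact ⟨⟨a, fun i hi => (hEA i).2 ((exactAt_resC_iff (algebraMap R A) E i).1
        (exactAt_of_bdd hb i (Or.inl hi)))⟩,
      fun p => ⟨a, fun i hi => (hTp p i).2 (exactAt_tens_of_bdd _ C hCc hCf hb i hi)⟩⟩
  · rintro ⟨⟨a₀, h₀⟩, hfib⟩
    refine ⟨⟨E, c, hc, hE, ⟨e⟩⟩, ?_⟩
    choose ap hap using hfib
    letI : ∀ i, Module R (E.X i) := fun i => Module.compHom (E.X i) (algebraMap R A)
    haveI : ∀ i, IsScalarTower R A (E.X i) := fun i => IsScalarTower.of_algebraMap_smul fun _ _ => rfl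
    haveI : ∀ i, Module.Free A (E.X i) := fun i => (hE i).2
    haveI : ∀ i, Module.Finite A (E.X i) := fun i => (hE i).1
    haveI : ∀ i, Module.FinitePresentation A (E.X i) := fun i => Module.finitePresentation_of_projective A _
    let M : ℤ → Type u := fun a => E.X a ⧸ LinearMap.range (E.d (a - 1) a).hom
    haveI : ∀ a, Module.FinitePresentation A (M a) := fun a =>
      Module.finitePresentation_of_surjective _ (Submodule.mkQ_surjective _) (by
        rw [Submodule.ker_mkQ, LinearMap.range_eq_map]
        exact Module.Finite.fg_top.map _)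
    let U : PrimeSpectrum A → Set (PrimeSpectrum A) := fun q =>
      {q' | Module.Flat R (LocalizedModule q'.asIdeal.primeCompl
        (M (min a₀ (ap (q.comap (algebraMap R A))))))}
    have hU : ∀ q, IsOpen (U q) := fun q =>
      H19.FlatLocus.isOpen_flat_of_finitePresentation (R := R) (S := A)
        (M := M (min a₀ (ap (q.comap (algebraMap R A)))))
    have hmem : ∀ q, q ∈ U q := fun q => by
      refine RelTorFibRing.flat_coker_of_fibExact E hE q (fibExact_of_tens E q fun j hj => ?_)
      exact (hTp (q.comap (algebraMap R A)) j).1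
        (hap _ j (lt_of_lt_of_le hj (min_le_right _ _)))
    obtain ⟨t, ht⟩ := isCompact_univ.elim_finite_subcover U hU fun q _ => Set.mem_iUnion.2 ⟨q, hmem q⟩
    obtain ⟨a₁, ha₁⟩ := (t.image fun q => ap (q.comap (algebraMap R A))).finite_toSet.bddBelow
    let a := min a₀ a₁
    haveI : C.IsGE a := (CochainComplex.isGE_iff C a).2 fun i hi =>
      (exactAt_resC_iff (algebraMap R A) E i).2 ((hEA i).1 (h₀ i (lt_of_lt_of_le hi (min_le_left _ _))))
    suffices hb : Bdd (flat R) a c (DerivedCategory.Q.obj C) from ⟨a, c, hb.of_iso eC⟩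
    refine bdd_of_opcycles good_flat hCc (fun i _ => hCf i)
      ((DerivedCategory.isGE_Q_obj_iff C a).2 inferInstance) ?_
    have hMflat : Module.Flat R (M a) := by
      refine Module.flat_of_isLocalized_maximal A (M a)
        (fun P => LocalizedModule P.primeCompl (M a)) (fun P => LocalizedModule.mkLinearMap _ _) fun P hP => ?_
      obtain ⟨q, hq, hPq⟩ : ∃ q ∈ t, (⟨P, hP.isPrime⟩ : PrimeSpectrum A) ∈ U q := by
        simpa using ht (Set.mem_univ (⟨P, hP.isPrime⟩ : PrimeSpectrum A))
      let a' := min a₀ (ap (q.comap (algebraMap R A)))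
      have hle : a ≤ a' := min_le_min_left _ (ha₁ (by simpa using ⟨q, hq, rfl⟩))
      letI : Algebra A (Localization.AtPrime P) := inferInstance
      let Al := Localization.AtPrime (P.comap (algebraMap R A))
      let Bl := Localization.AtPrime P
      let φ : Al →+* Bl := Localization.localRingHom _ P (algebraMap R A) rfl
      have hφ : φ.comp (algebraMap R Al) = algebraMap R Bl := RingHom.ext fun r => by
        show φ (algebraMap R Al r) = _
        rw [Localization.localRingHom_to_map, ← IsScalarTower.algebraMap_apply]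
      haveI : IsLocalization.AtPrime Al ((⟨P, hP.isPrime⟩ : PrimeSpectrum A).asIdeal.comap (algebraMap R A)) :=
        inferInstanceAs (IsLocalization.AtPrime Al (P.comap (algebraMap R A)))
      haveI : PreservesFiniteLimits (extF (algebraMap A Bl)) :=
        ModuleCat.preservesFiniteLimits_extendScalars_of_flat (by
          rw [RingHom.flat_algebraMap_iff]
          exact IsLocalization.flat Bl P.primeCompl)
      haveI : PreservesFiniteColimits (extF (algebraMap A Bl)) :=
        haveI : PreservesColimitsOfSize.{0, 0} (extF (algebraMap A Bl)) :=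
          (ModuleCat.extendRestrictScalarsAdj.{u} (algebraMap A Bl)).leftAdjoint_preservesColimits
        PreservesColimitsOfSize.preservesFiniteColimits _
      have hb := RelTorFibRing.bdd_of_flat_coker φ hφ E hE hc ⟨P, hP.isPrime⟩ (a := a')
        (fun i hi => (exactAt_iff_isZero_homology _ _).2 ((Functor.map_isZero _
          ((exactAt_iff_isZero_homology _ _).1 ((hEA i).1 (h₀ i (lt_of_lt_of_le hi (min_le_left _ _)))))).of_iso
            ((E.sc i).mapHomologyIso (extF (algebraMap A Bl))))) hPq
      let CP := (resC φ).obj ((extC (algebraMap A Bl)).obj E)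
      let F := extF (algebraMap A Bl) ⋙ resF φ
      haveI : PreservesFiniteLimits F := comp_preservesFiniteLimits _ _
      haveI : PreservesFiniteColimits F := comp_preservesFiniteColimits _ _
      let op : CP.opcycles a ≅ F.obj (E.opcycles a) := (E.sc a).mapOpcyclesIso F
      have hφf : φ.Flat := by
        letI := φ.toAlgebra
        haveI : IsScalarTower R Al Bl := IsScalarTower.of_algebraMap_eq' hφ.symm
        haveI : Module.Flat A Bl := IsLocalization.flat Bl P.primeCompl
        haveI : Module.Flat R Bl := Module.Flat.trans R A Bl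
        exact (Module.flat_iff_of_isLocalization Al (P.comap (algebraMap R A)).primeCompl Bl).2 ‹_›
      refine (RelTorFibRing.flat_res_ext_iff φ hφ ⟨P, hP.isPrime⟩ (ModuleCat.of A (M a))).1 ?_
      exact good_flat.iso (opcyclesIso CP a ≪≫ op ≪≫ F.mapIso (opcyclesIso E a).symm)
        (flat_coker CP (fun i hi => (resF φ).map_isZero ((extF _).map_isZero (hc i hi)))
          (fun i => LocalAmp.flat_restrict φ hφf _ (ext_flat _ _ (flat_of_free _ (hE i).2)))
          (hb.mono hle le_rfl) (a := a))
    let op : C.opcycles a ≅ (resF (algebraMap R A)).obj (E.opcycles a) :=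
      (E.sc a).mapOpcyclesIso (resF (algebraMap R A))
    refine good_flat.iso ((resF _).mapIso (opcyclesIso E a) ≪≫ op.symm ≪≫ (opcyclesIso C a).symm) ?_
    exact hMflat

end Groth.Agent.H56.RelPC.RelPerfFibre
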