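import Groth.Agent.H56.RelPC.RelTorFP

/-!
Relative perfection and bounded complexes of flat modules of finite presentation: ring level.
-/

set_option autoImplicit false
set_option linter.style.haveILetI false

universe u

open CategoryTheory Limits AlgebraicGeometry HomologicalComplex

attribute [local instance] HasDerivedCategory.standard

namespace Groth.Agent.H56.RelPC.RelPerfModel

open Groth.Agent.Lib Groth.Agent.Lib.DR Groth.Agent.Lib.DR.Basic Groth.Agent.Lib.DR.FiniteComplex
  Groth.Agent.Lib.DR.PseudoCoherent Groth.Agent.Lib.DR.BaseChange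
open Groth.Agent.Lib.DerivedOX KFlatBaseChange
open Groth.Agent.Lib.BettiExact TorTensor

variable {R A : Type u} [CommRing R] [CommRing A] [Algebra R A]

theorem of_model [Module.Flat R A] [Algebra.FinitePresentation R A] (K : Dual.D A) (E : DRing.Cx A) (a b : ℤ)
    (hv : DRing.VanishesOutside E a b)
    (hE : ∀ i : ℤ, Module.FinitePresentation A (E.X i) ∧
      Module.Flat R ((ModuleCat.restrictScalars (algebraMap R A)).obj (E.X i)))
    (e : DRing.toD E ≅ K) : Dual2.IsRelPerfect R A K := by
  let B := CommRingCat.of A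
  let φ : CommRingCat.of R ⟶ B := CommRingCat.ofHom (algebraMap R A)
  haveI : Flat (Spec.map φ) :=
    (HasRingHomProperty.Spec_iff (P := @Flat)).2 (RingHom.flat_algebraMap_iff.2 ‹Module.Flat R A›)
  haveI : LocallyOfFinitePresentation (Spec.map φ) :=
    (HasRingHomProperty.Spec_iff (P := @LocallyOfFinitePresentation)).2
      (RingHom.finitePresentation_algebraMap.2 ‹_›)
  haveI : PreservesFiniteLimits (tilde.functor B) := QCoh.Tilde.tildeFunctor_preservesFiniteLimits
  haveI : PreservesFiniteColimits (tilde.functor B) :=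
    haveI : PreservesColimitsOfSize.{0, 0} (tilde.functor B) := tilde.adjunction.leftAdjoint_preservesColimits
    PreservesColimitsOfSize.preservesFiniteColimits _
  let T := ((tilde.functor B).mapHomologicalComplex (ComplexShape.up ℤ)).obj E
  let eT : DCoh.toD _ T ≅ (DCoh.tildeD B).obj K :=
    (ExactPush.mapQ (tilde.functor B) E).symm ≪≫ (DCoh.tildeD B).mapIso e
  have hT : ∀ i, CohB1.IsFP (T.X i) ∧ FlatMod.IsFlatOver (Spec.map φ) (T.X i) := fun i => by
    haveI := (hE i).1
    letI : Module R (E.X i) := Module.compHom (E.X i) (algebraMap R A)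
    haveI : IsScalarTower R A (E.X i) := IsScalarTower.of_algebraMap_smul fun _ _ => rfl
    haveI : Module.Flat R (E.X i) := (hE i).2
    exact ⟨RelTorFP.isFP_tilde (A := B) (E.X i), H19.FlatLocus.ModelMod.isFlatOver_tilde R A (E.X i)⟩
  have hv' : ∀ i, i < a ∨ b < i → IsZero (T.X i) := fun i hi => (tilde.functor B).map_isZero (hv i hi)
  have key := (RelTorAffine.isRelPerfect_iff φ K).1 ⟨fun m =>
      (Groth.Agent.Lib.Perfect.PseudoCoh.iff_forall m _).2 fun x =>
        ((Groth.Agent.Lib.Perfect.PseudoCoh.iff_forall m _).1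
          (RelTorFP.pc_of_terms (Spec.map φ) T b (fun i hi => hv' i (Or.inr hi)) hT m) x).of_iso eT,
    RelTor.relTorDim_of_locFiniteTorAmplitude _ (fun m =>
      (Groth.Agent.Lib.Perfect.PseudoCoh.iff_forall m _).2 fun x =>
        ((Groth.Agent.Lib.Perfect.PseudoCoh.iff_forall m _).1
          (RelTorFP.pc_of_terms (Spec.map φ) T b (fun i hi => hv' i (Or.inr hi)) hT m) x).of_iso eT)
      T eT fun _ => ⟨⊤, a, b, trivial, fun x _ =>
        hasTorAmplitude_of_flat_terms _ T a b hv' (fun i => (hT i).2) x⟩⟩
  have halg : φ.hom.toAlgebra = ‹Algebra R A› := Algebra.algebra_ext _ _ fun _ => rfl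
  rw [halg] at key
  exact key

theorem exists_model [Module.Flat R A] (K : Dual.D A) (h : Dual2.IsRelPerfect R A K) :
    ∃ (E : DRing.Cx A) (a b : ℤ), DRing.VanishesOutside E a b ∧
      (∀ i : ℤ, Module.FinitePresentation A (E.X i) ∧
        Module.Flat R ((ModuleCat.restrictScalars (algebraMap R A)).obj (E.X i))) ∧
      Nonempty (DRing.toD E ≅ K) := by
  obtain ⟨⟨E, c, hc, hff, ⟨eE⟩⟩, a, b, htor⟩ := h
  let C := (resC (algebraMap R A)).obj E
  have hflE : ∀ i, flat R (C.X i) := fun i =>
    LocalAmp.flat_restrict _ (RingHom.flat_algebraMap_iff.2 ‹_›) _ (flat_of_free _ (hff i).2)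
  have hC : Bdd (flat R) a b (DerivedCategory.Q.obj C) :=
    Bdd.of_iso htor ((DRing.restrictD (algebraMap R A)).mapIso eE.symm ≪≫ ExactPush.mapQ (resF (algebraMap R A)) E)
  have hflop : flat R ((resF (algebraMap R A)).obj (E.opcycles a)) :=
    good_flat.iso (TorAmp.opcyclesIso C a ≪≫ (E.sc a).mapOpcyclesIso (resF (algebraMap R A)))
      (TorAmp.flat_coker C (fun i hi => (resF _).map_isZero (hc i hi)) hflE hC (a := a))
  haveI : E.IsGE a := (CochainComplex.isGE_iff E a).2 fun i hi =>
    (exactAt_resC_iff (algebraMap R A) E i).1 (exactAt_of_bdd hC i (Or.inl hi))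
  haveI : QuasiIso (E.πTruncGE a) := (E.quasiIso_πTruncGE_iff a).2 inferInstance
  have hfp : ∀ i, Module.FinitePresentation A (E.X i) := fun i => by
    haveI : Module.Free A (E.X i) := (hff i).2
    haveI : Module.Finite A (E.X i) := (hff i).1
    exact Module.finitePresentation_of_projective _ _
  refine ⟨E.truncGE a, a, c, fun i hi => ?_, fun i => ?_,
    ⟨(asIso (DerivedCategory.Q.map (E.πTruncGE a))).symm ≪≫ eE⟩⟩
  · rcases hi with hi | hi
    · exact (E.truncGE a).isZero_of_isStrictlyGE a i hi
    · rcases lt_trichotomy i a with h | h | h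
      · exact (E.truncGE a).isZero_of_isStrictlyGE a i h
      · subst h
        exact IsZero.of_iso (IsZero.of_epi (E.pOpcycles i) (hc i hi)) (E.truncGEXIsoOpcycles i)
      · exact (hc i hi).of_iso (E.truncGEXIso a i h)
  · rcases lt_trichotomy i a with h | h | h
    · have hz := (E.truncGE a).isZero_of_isStrictlyGE a i h
      haveI := hfp (max c a + 1)
      exact ⟨Module.FinitePresentation.of_equiv ((hc (max c a + 1) (by omega)).iso hz).toLinearEquiv,
        good_flat.zero ((resF _).map_isZero hz)⟩
    · subst h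
      haveI := hfp i
      haveI : Module.Finite A (E.X (i - 1)) := (hff _).1
      haveI : Module.FinitePresentation A (E.X i ⧸ LinearMap.range (E.d (i - 1) i).hom) :=
        Module.finitePresentation_of_surjective _ (Submodule.mkQ_surjective _) (by
          rw [Submodule.ker_mkQ, LinearMap.range_eq_map]
          exact Module.Finite.fg_top.map _)
      exact ⟨Module.FinitePresentation.of_equiv
          (TorAmp.opcyclesIso E i ≪≫ (E.truncGEXIsoOpcycles i).symm).toLinearEquiv,
        good_flat.iso ((resF _).mapIso (E.truncGEXIsoOpcycles i).symm) hflop⟩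
    · haveI := hfp i
      exact ⟨Module.FinitePresentation.of_equiv (E.truncGEXIso a i h).symm.toLinearEquiv,
        good_flat.iso ((resF _).mapIso (E.truncGEXIso a i h).symm) (hflE i)⟩

end Groth.Agent.H56.RelPC.RelPerfModel
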