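import Groth.Agent.Lib.DR.TorAmp
import Groth.Agent.Lib.DR.Perfect
import Groth.Prelude.Def_DualSh

/-!
The perfect complexes relative to a base ring form a saturated triangulated subcategory.
-/

set_option autoImplicit false
set_option linter.style.haveILetI false

universe u

open CategoryTheory Limits Pretriangulated
open scoped ZeroObject

attribute [local instance] HasDerivedCategory.standard

namespace Groth.Agent.H56.RelPC.RelPerfTri

open Groth.Agent.Lib Groth.Agent.Lib.DR Groth.Agent.Lib.DR.Basic Groth.Agent.Lib.DR.FiniteComplex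
  Groth.Agent.Lib.DR.PseudoCoherent Groth.Agent.Lib.DR.BaseChange

variable {R A : Type u} [CommRing R] [CommRing A] [Algebra R A]

theorem iff_pcn (K : Dual.D A) : Dual2.IsRelPerfect R A K ↔
    (∀ m, PCn (ff A) m K) ∧ ∃ a b, Bdd (flat R) a b ((DRing.restrictD (algebraMap R A)).obj K) :=
  and_congr (DR.Representative.isPseudoCoherent'_iff_forall K) Iff.rfl

theorem of_iso {K L : Dual.D A} (e : K ≅ L) (h : Dual2.IsRelPerfect R A K) : Dual2.IsRelPerfect R A L := by
  rw [iff_pcn] at h ⊢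
  obtain ⟨hp, a, b, hb⟩ := h
  exact ⟨fun m => (hp m).of_iso e, a, b, hb.of_iso ((DRing.restrictD (algebraMap R A)).mapIso e)⟩

theorem zero : Dual2.IsRelPerfect R A (0 : Dual.D A) := by
  rw [iff_pcn]
  refine ⟨fun m => pcn_of_isLE good_ff (isLE_of_isZero (isZero_zero _) _), 0, 0, ?_⟩
  exact ⟨0, fun i _ => (HomologicalComplex.eval _ _ i).map_isZero (isZero_zero _),
    fun i => good_flat.zero ((HomologicalComplex.eval _ _ i).map_isZero (isZero_zero _)),
    ⟨(DerivedCategory.Q.map_isZero (isZero_zero _)).iso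
      ((DRing.restrictD (algebraMap R A)).map_isZero (isZero_zero _))⟩⟩

theorem shift {K : Dual.D A} (h : Dual2.IsRelPerfect R A K) (n : ℤ) : Dual2.IsRelPerfect R A (K⟦n⟧) := by
  rw [iff_pcn] at h ⊢
  obtain ⟨hp, a, b, hb⟩ := h
  exact ⟨fun m => (hp (m + n)).shift good_ff n m rfl, a - n, b - n,
    (hb.shift good_flat n (a - n) (b - n) (by omega) (by omega)).of_iso
      (((DRing.restrictD (algebraMap R A)).commShiftIso n).app K).symm⟩

theorem ext₂ (T : Triangle (Dual.D A)) (hT : T ∈ distTriang _) (h₁ : Dual2.IsRelPerfect R A T.obj₁)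
    (h₃ : Dual2.IsRelPerfect R A T.obj₃) : Dual2.IsRelPerfect R A T.obj₂ := by
  rw [iff_pcn] at h₁ h₃ ⊢
  obtain ⟨hp, a, b, hb⟩ := h₁
  obtain ⟨hp', a', b', hb'⟩ := h₃
  exact ⟨fun m => PCn.ext good_ff projective_of_ff _ hT (hp m) (hp' m), min a a', max b b',
    TorAmp.bdd_flat_ext _ ((DRing.restrictD (algebraMap R A)).map_distinguished _ hT)
      (hb.mono (min_le_left _ _) (le_max_left _ _)) (hb'.mono (min_le_right _ _) (le_max_right _ _))⟩

theorem summands (X Y : Dual.D A) (h : Dual2.IsRelPerfect R A (X ⊞ Y)) :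
    Dual2.IsRelPerfect R A X ∧ Dual2.IsRelPerfect R A Y := by
  simp only [iff_pcn] at h ⊢
  obtain ⟨hp, a, b, hb⟩ := h
  exact ⟨⟨fun m => (PCn.biprod_summands good_ff projective_of_ff (hp m)).1, a, b,
      TorAmp.bdd_flat_retract ((⟨biprod.inl, biprod.fst, biprod.inl_fst⟩ : Retract X (X ⊞ Y)).map _) hb⟩,
    fun m => (PCn.biprod_summands good_ff projective_of_ff (hp m)).2, a, b,
      TorAmp.bdd_flat_retract ((⟨biprod.inr, biprod.snd, biprod.inr_snd⟩ : Retract Y (X ⊞ Y)).map _) hb⟩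

theorem isTriangulated :
    ObjectProperty.IsTriangulated (C := Dual.D A) (fun K => Dual2.IsRelPerfect R A K) :=
  { exists_zero := ⟨0, isZero_zero _, zero⟩
    isStableUnderShiftBy := fun n => ⟨fun _ hK => shift hK n⟩
    ext₂' := fun T hT h₁ h₃ => ObjectProperty.le_isoClosure _ _ (ext₂ T hT h₁ h₃) }

end Groth.Agent.H56.RelPC.RelPerfTri
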