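import Groth.Agent.H56.RelPC.TensorPC
import Groth.Agent.H54.FlatFP

/-!
Relative pseudo-coherence is preserved by flat extensions of finite presentation.
-/

set_option autoImplicit false
set_option linter.style.haveILetI false

universe u

open CategoryTheory CategoryTheory.Limits
open Groth.Agent.Lib.DR
open Groth.Agent.Lib.DR.Basic Groth.Agent.Lib.DR.FiniteComplex Groth.Agent.Lib.DR.PseudoCoherent
open Groth.Agent.H54.PCRestrict
open scoped TensorProduct

attribute [local instance] HasDerivedCategory.standard

namespace Groth.Agent.H56.RelPC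

attribute [local instance] MvPolynomial.algebraMvPolynomial in
set_option backward.isDefEq.respectTransparency.types false in
/-- Polynomial extension of a complex, seen over a presentation. -/
theorem pcn_tensD_polynomial {Q₀ A : Type u} [CommRing Q₀] [CommRing A] (α : Q₀ →+* A) (k : ℕ)
    {X : Dual.D A} {m : ℤ} (h : PCn (ff Q₀) m ((DRing.restrictD α).obj X)) :
    PCn (ff (MvPolynomial (Fin k) Q₀)) m
      (tensD (MvPolynomial.map α : MvPolynomial (Fin k) Q₀ →+* MvPolynomial (Fin k) A)
        (MvPolynomial (Fin k) A) X) := by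
  let Q := MvPolynomial (Fin k) Q₀
  let P := MvPolynomial (Fin k) A
  letI : Algebra Q₀ A := α.toAlgebra
  haveI : IsScalarTower Q₀ Q P := .of_algebraMap_eq fun r => (MvPolynomial.map_C α r).symm
  haveI : Algebra.IsPushout Q₀ Q A P := inferInstance
  haveI : Module.Flat Q₀ Q := inferInstance
  haveI := FlatBC.preservesFiniteLimits (A := Q₀) (B := Q)
  haveI := FlatBC.preservesFiniteColimits (A := Q₀) (B := Q)
  let E := ModuleCat.extendScalars.{u, u, u} (algebraMap Q₀ Q)
  let comp : ∀ M : ModuleCat.{u} A, E.obj ((res α).obj M) ≅ (res (MvPolynomial.map α : Q →+* P)).obj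
      ((tens (A := A) (P := P) P).obj M) := fun M =>
    letI : Module Q₀ M := Module.compHom M α
    haveI : IsScalarTower Q₀ A M := IsScalarTower.of_algebraMap_smul fun r x => rfl
    ((FlatBC.extEquiv Q₀ Q M).trans
      ((Algebra.IsPushout.cancelBaseChange Q₀ Q A P M).symm.trans
        (AddEquiv.toLinearEquiv
          (M₂ := ((res (MvPolynomial.map α : Q →+* P)).obj ((tens (A := A) (P := P) P).obj M) : Type u))
          (AddEquiv.refl (P ⊗[A] M)) fun q x => algebra_compatible_smul P q x))).toModuleIso
  let ν : res α ⋙ E ≅ tens (A := A) (P := P) P ⋙ res (MvPolynomial.map α : Q →+* P) :=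
    NatIso.ofComponents comp fun {M M'} f => by
      letI : Module Q₀ M := Module.compHom M α
      letI : Module Q₀ M' := Module.compHom M' α
      refine ModuleCat.hom_ext (LinearMap.ext fun t => ?_)
      induction t using TensorProduct.induction_on with
      | zero =>
        repeat erw [map_zero]
        all_goals rfl
      | add a b ha hb =>
        exact ((map_add _ a b).trans (congrArg₂ (· + ·) ha hb)).trans (map_add _ a b).symm
      | tmul q x => rfl
  have h1 : PCn (ff Q) m (E.mapDerivedCategory.obj ((DRing.restrictD α).obj X)) :=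
    ExactPush.pcn_map E (BaseChange.ext_ff (algebraMap Q₀ Q)) h
  let i := DerivedCategory.Q.objObjPreimageIso X
  let C := DerivedCategory.Q.objPreimage X
  exact h1.of_iso (E.mapDerivedCategory.mapIso ((DRing.restrictD α).mapIso i.symm ≪≫ ExactPush.mapQ (res α) C) ≪≫
    ExactPush.mapQ E _ ≪≫ DerivedCategory.Q.mapIso ((NatIso.mapHomologicalComplex ν _).app C) ≪≫
    (ExactPush.mapQ (res (MvPolynomial.map α : Q →+* P))
      (((tens (A := A) (P := P) P).mapHomologicalComplex (ComplexShape.up ℤ)).obj C)).symm ≪≫
    (DRing.restrictD (MvPolynomial.map α : Q →+* P)).mapIso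
      ((ExactPush.mapQ (tens (A := A) (P := P) P) C).symm ≪≫
        (tens (A := A) (P := P) P).mapDerivedCategory.mapIso i))

set_option backward.isDefEq.respectTransparency.types false in
/-- Extension of scalars against tensoring with the algebra. -/
theorem nonempty_extend_iso {A P B : Type u} [CommRing A] [CommRing P] [CommRing B] [Algebra A P]
    [Algebra A B] [Algebra P B] [IsScalarTower A P B] :
    Nonempty (ModuleCat.extendScalars.{u, u, u} (algebraMap A B) ⋙ res (algebraMap P B) ≅
      tens (A := A) (P := P) B) :=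
  ⟨NatIso.ofComponents (fun M =>
    (AddEquiv.toLinearEquiv
      (M := ((res (algebraMap P B)).obj ((ModuleCat.extendScalars.{u, u, u} (algebraMap A B)).obj M) : Type u))
      (M₂ := B ⊗[A] M) (FlatBC.extEquiv A B M).toAddEquiv
      fun p x => ((map_smul (FlatBC.extEquiv A B M) (algebraMap P B p) x).trans
        (algebra_compatible_smul B p (FlatBC.extEquiv A B M x)).symm)).toModuleIso)
    fun {M M'} f => by
      refine ModuleCat.hom_ext (LinearMap.ext fun t => ?_)
      induction t using TensorProduct.induction_on with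
      | zero =>
        repeat erw [map_zero]
        all_goals rfl
      | add a b ha hb =>
        exact ((map_add _ a b).trans (congrArg₂ (· + ·) ha hb)).trans (map_add _ a b).symm
      | tmul q x => rfl⟩

/-- Extension along the identity. -/
theorem nonempty_extend_self {A : Type u} [CommRing A]
    [PreservesFiniteLimits (ModuleCat.extendScalars.{u, u, u} (algebraMap A A))]
    [PreservesFiniteColimits (ModuleCat.extendScalars.{u, u, u} (algebraMap A A))] (K : Dual.D A) :
    Nonempty ((ModuleCat.extendScalars.{u, u, u} (algebraMap A A)).mapDerivedCategory.obj K ≅ K) := by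
  let E := ModuleCat.extendScalars.{u, u, u} (algebraMap A A)
  let i := DerivedCategory.Q.objObjPreimageIso K
  let C := DerivedCategory.Q.objPreimage K
  let ν : E ≅ 𝟭 _ := NatIso.ofComponents
    (fun M => ((FlatBC.extEquiv A A M).trans (TensorProduct.lid A M)).toModuleIso) fun {M M'} f => by
      refine ModuleCat.hom_ext (LinearMap.ext fun t => ?_)
      induction t using TensorProduct.induction_on with
      | zero =>
        repeat erw [map_zero]
        all_goals rfl
      | add a b ha hb =>
        exact ((map_add _ a b).trans (congrArg₂ (· + ·) ha hb)).trans (map_add _ a b).symm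
      | tmul q x => exact (map_smul f.hom q x).symm
  exact ⟨E.mapDerivedCategory.mapIso i.symm ≪≫ ExactPush.mapQ E C ≪≫
    DerivedCategory.Q.mapIso ((NatIso.mapHomologicalComplex ν _).app C ≪≫
      (CategoryTheory.Functor.mapHomologicalComplexIdIso (ModuleCat.{u} A) (ComplexShape.up ℤ)).app C) ≪≫ i⟩

set_option backward.isDefEq.respectTransparency.types false in
/-- Tensoring in two steps. -/
theorem nonempty_tens_trans {A B P : Type u} [CommRing A] [CommRing B] [CommRing P] [Algebra A B]
    [Algebra A P] [Algebra B P] [IsScalarTower A B P] :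
    Nonempty (ModuleCat.extendScalars.{u, u, u} (algebraMap A B) ⋙ tens (A := B) (P := P) P ≅
      tens (A := A) (P := P) P) :=
  ⟨NatIso.ofComponents (fun M =>
    ((TensorProduct.AlgebraTensorModule.congr (LinearEquiv.refl P P) (FlatBC.extEquiv A B M)).trans
      (TensorProduct.AlgebraTensorModule.cancelBaseChange A B P P M)).toModuleIso)
    fun {M M'} f => by
      refine tens_hom_ext _ fun p t => ?_
      obtain ⟨s, rfl⟩ := (FlatBC.extEquiv A B M).symm.surjective t
      induction s using TensorProduct.induction_on with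
      | zero =>
        rw [map_zero, TensorProduct.tmul_zero]
        exact (map_zero _).trans (map_zero _).symm
      | add a b ha hb =>
        rw [map_add, TensorProduct.tmul_add]
        exact ((map_add _ _ _).trans (congrArg₂ (· + ·) ha hb)).trans (map_add _ _ _).symm
      | tmul q x => rfl⟩

/-- Homomorphisms between pseudo-coherent algebras. -/
theorem hom_cancel {A B D : Type u} [CommRing A] [CommRing B] [CommRing D] [Algebra A B]
    [Algebra A D] [Algebra B D] [IsScalarTower A B D] (hB : MoreMor.IsPseudoCoherentHom A B)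
    (hD : MoreMor.IsPseudoCoherentHom A D) : MoreMor.IsPseudoCoherentHom B D := by
  obtain ⟨k, β, hβ, hb⟩ := H54.RelPC.hom_iff.1 hD
  haveI : Algebra.FiniteType A D := Algebra.FiniteType.iff_quotient_mvPolynomial''.mpr ⟨k, β, hβ⟩
  haveI : Algebra.FiniteType B D := Algebra.FiniteType.of_restrictScalars_finiteType A B D
  obtain ⟨l, γ, hγ⟩ := H54.RelPCApp.exists_pres ‹Algebra.FiniteType B D›
  exact H54.RelPC.hom_iff.2 ⟨l, γ, hγ, fun m => (H54.RelPC.relModule_iff γ hγ m D).1
    ((H54.RelPC.rel_base_iff hB (Dual.inD D D) m).2 ((H54.RelPC.relModule_iff β hβ m D).2 (hb m)))⟩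

set_option backward.isDefEq.respectTransparency.types false in
open MvPolynomial in
/-- Relative pseudo-coherence along a tower of flat algebras. -/
theorem rel_extend_tower {R A B D : Type u} [CommRing R] [CommRing A] [CommRing B] [CommRing D]
    [Algebra A B] [Algebra A D] [Algebra B D] [IsScalarTower A B D] [Algebra R B] [Algebra R D]
    [IsScalarTower R B D] [Algebra.FiniteType R B] [Module.Flat A B] [Module.Flat A D]
    (hD : MoreMor.IsPseudoCoherentHom B D) (m : ℤ) (K : Dual.D A)
    (hK : haveI := FlatBC.preservesFiniteLimits (A := A) (B := B)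
      haveI := FlatBC.preservesFiniteColimits (A := A) (B := B)
      DerCA.IsRelPseudoCoherent R B m
        ((ModuleCat.extendScalars.{u, u, u} (algebraMap A B)).mapDerivedCategory.obj K)) :
    haveI := FlatBC.preservesFiniteLimits (A := A) (B := D)
    haveI := FlatBC.preservesFiniteColimits (A := A) (B := D)
    DerCA.IsRelPseudoCoherent R D m
      ((ModuleCat.extendScalars.{u, u, u} (algebraMap A D)).mapDerivedCategory.obj K) := by
  haveI := FlatBC.preservesFiniteLimits (A := A) (B := B)
  haveI := FlatBC.preservesFiniteColimits (A := A) (B := B)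
  haveI := FlatBC.preservesFiniteLimits (A := A) (B := D)
  haveI := FlatBC.preservesFiniteColimits (A := A) (B := D)
  obtain ⟨n, α, hα⟩ := H54.RelPCApp.exists_pres ‹Algebra.FiniteType R B›
  obtain ⟨k, β, hβ, hk⟩ := H54.RelPC.hom_iff.1 hD
  let γ : MvPolynomial (Fin (n + k)) R →ₐ[R] D :=
    aeval (Fin.addCases (fun i => algebraMap B D (α (X i))) fun j => β (X j))
  let ε : MvPolynomial (Fin (n + k)) R →+* MvPolynomial (Fin k) (MvPolynomial (Fin n) R) :=
    (sumRingEquiv R (Fin k) (Fin n)).toRingHom.comp
      (renameEquiv R (finSumFinEquiv.symm.trans (Equiv.sumComm (Fin n) (Fin k)))).toRingEquiv.toRingHom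
  have hε : Function.Bijective ε :=
    (sumRingEquiv R (Fin k) (Fin n)).bijective.comp
      (renameEquiv R (finSumFinEquiv.symm.trans (Equiv.sumComm (Fin n) (Fin k)))).bijective
  have hγ' : γ.toRingHom = (β.toRingHom.comp (MvPolynomial.map α.toRingHom)).comp ε := by
    refine MvPolynomial.ringHom_ext (fun r => ?_) (fun i => ?_)
    · simp [γ, ε, ← IsScalarTower.algebraMap_apply]
    · refine Fin.addCases (fun i => ?_) (fun i => ?_) i <;> simp [γ, ε]
  have hγ : Function.Surjective γ := by
    have : Function.Surjective γ.toRingHom := by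
      rw [hγ']
      exact (hβ.comp (MvPolynomial.map_surjective _ hα)).comp hε.2
    exact this
  let P := MvPolynomial (Fin k) B
  let _ : Algebra P D := β.toRingHom.toAlgebra
  have : IsScalarTower B P D := IsScalarTower.of_algebraMap_eq fun a => (β.commutes a).symm
  have : IsScalarTower A P D := IsScalarTower.of_algebraMap_eq fun a => by
    rw [IsScalarTower.algebraMap_apply A B P, ← IsScalarTower.algebraMap_apply B P D,
      ← IsScalarTower.algebraMap_apply]
  haveI : Module.Flat A P := Module.Flat.trans A B P
  have hN : ∀ j, PCn (ff P) j (Dual.inD P D) := fun j =>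
    (hk j).of_iso ((sgl _ 0).mapIso (FlatBC.resEquiv P D).toModuleIso)
  let EB := ModuleCat.extendScalars.{u, u, u} (algebraMap A B)
  let ρ : MvPolynomial (Fin k) (MvPolynomial (Fin n) R) →+* P := MvPolynomial.map α.toRingHom
  obtain ⟨τ⟩ := nonempty_tens_trans (A := A) (B := B) (P := P)
  let i := DerivedCategory.Q.objObjPreimageIso K
  let C := DerivedCategory.Q.objPreimage K
  let e₀ : (tens (A := B) (P := P) P).mapDerivedCategory.obj (EB.mapDerivedCategory.obj K) ≅
      (tens (A := A) (P := P) P).mapDerivedCategory.obj K :=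
    (tens (A := B) (P := P) P).mapDerivedCategory.mapIso
        (EB.mapDerivedCategory.mapIso i.symm ≪≫ ExactPush.mapQ EB C) ≪≫
      ExactPush.mapQ (tens (A := B) (P := P) P) _ ≪≫
      DerivedCategory.Q.mapIso ((NatIso.mapHomologicalComplex τ _).app C) ≪≫
      (ExactPush.mapQ (tens (A := A) (P := P) P) C).symm ≪≫
      (tens (A := A) (P := P) P).mapDerivedCategory.mapIso i
  have h := pcn_tensD ρ ((pcn_tensD_polynomial α.toRingHom k
    ((H54.RelPC.rel_iff α hα m _).1 hK)).of_iso ((DRing.restrictD ρ).mapIso e₀)) D hN
  rw [H54.RelPC.rel_iff γ hγ, hγ']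
  let E := ModuleCat.extendScalars.{u, u, u} (algebraMap A D)
  obtain ⟨e₁⟩ := restrictD_comp ε (β.toRingHom.comp ρ) (E.mapDerivedCategory.obj K)
  obtain ⟨e₂⟩ := restrictD_comp ρ β.toRingHom (E.mapDerivedCategory.obj K)
  obtain ⟨ν⟩ := nonempty_extend_iso (A := A) (P := P) (B := D)
  let e₃ : (tens (A := A) (P := P) D).mapDerivedCategory.obj K ≅
      (DRing.restrictD β.toRingHom).obj (E.mapDerivedCategory.obj K) :=
    (tens (A := A) (P := P) D).mapDerivedCategory.mapIso i.symm ≪≫
      ExactPush.mapQ (tens (A := A) (P := P) D) C ≪≫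
      DerivedCategory.Q.mapIso ((NatIso.mapHomologicalComplex ν.symm _).app C) ≪≫
      (ExactPush.mapQ (res β.toRingHom) ((E.mapHomologicalComplex (ComplexShape.up ℤ)).obj C)).symm ≪≫
      (DRing.restrictD β.toRingHom).mapIso ((ExactPush.mapQ E C).symm ≪≫ E.mapDerivedCategory.mapIso i)
  have h3 := h.of_iso ((DRing.restrictD ρ).mapIso e₃ ≪≫ e₂.symm)
  exact (pcn_res (pcRing_of_bijective _ hε) h3).of_iso e₁.symm

/-- Relative pseudo-coherence after a flat pseudo-coherent extension. -/
theorem rel_flat_extend {R A B : Type u} [CommRing R] [CommRing A] [CommRing B] [Algebra R A]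
    [Algebra A B] [Algebra R B] [IsScalarTower R A B] [Algebra.FiniteType R A] [Module.Flat A B]
    (hB : MoreMor.IsPseudoCoherentHom A B) (m : ℤ) (K : Dual.D A)
    (hK : DerCA.IsRelPseudoCoherent R A m K) :
    haveI := FlatBC.preservesFiniteLimits (A := A) (B := B)
    haveI := FlatBC.preservesFiniteColimits (A := A) (B := B)
    DerCA.IsRelPseudoCoherent R B m
      ((ModuleCat.extendScalars.{u, u, u} (algebraMap A B)).mapDerivedCategory.obj K) := by
  refine rel_extend_tower hB m K ?_
  haveI := FlatBC.preservesFiniteLimits (A := A) (B := A)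
  haveI := FlatBC.preservesFiniteColimits (A := A) (B := A)
  obtain ⟨e⟩ := nonempty_extend_self K
  obtain ⟨n, α, hα⟩ := H54.RelPCApp.exists_pres ‹Algebra.FiniteType R A›
  exact (H54.RelPC.rel_iff α hα m _).2 (((H54.RelPC.rel_iff α hα m _).1 hK).of_iso
    ((DRing.restrictD α.toRingHom).mapIso e.symm))

end Groth.Agent.H56.RelPC
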