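import Groth.Agent.H56.RelPC.RelTor
import Groth.Agent.Lib.BettiExact.TorProduct
import Groth.Agent.Lib.Perfect.PullPC

/-!
Base change of relative perfection.
-/

set_option autoImplicit false
set_option linter.style.haveILetI false

universe u

open CategoryTheory Limits AlgebraicGeometry HomologicalComplex

attribute [local instance] HasDerivedCategory.standard

namespace Groth.Agent.H56.RelPC.RelTorBC

open Groth.Agent.Lib Groth.Agent.Lib.DerivedOX Groth.Agent.Lib.Modules.StalkModule KFlatBaseChange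
open Groth.Agent.Lib.BettiExact TorTensor TorPull
open Groth.Agent.Lib.DR Groth.Agent.Lib.DR.Basic Groth.Agent.Lib.DR.FiniteComplex
  Groth.Agent.Lib.DR.PseudoCoherent

/-- Base change of a K-flat complex keeps tor amplitude. -/
theorem bdd_ext_kflat {A B : Type u} [CommRing A] [CommRing B] (ψ : A →+* B) (C : DRing.Cx A) {a b : ℤ}
    (hC : DRing.IsKFlat A C) (h : Bdd (flat A) a b (DerivedCategory.Q.obj C)) :
    Bdd (flat B) a b (DerivedCategory.Q.obj ((extC ψ).obj C)) := by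
  obtain ⟨T, hT, hTf, ⟨e⟩⟩ := h
  obtain ⟨R₀, t, r, ht, hr, hR₀⟩ := TorProduct.exists_roof e
  haveI := ht
  haveI := hr
  have hTK : DRing.IsKFlat A T := DR.KFlat.isKFlat_of_flat T b (fun j hj => hT j (Or.inr hj)) hTf
  haveI h1 : QuasiIso ((extC ψ).map t) := DTenRing.quasiIso_ext ψ t hR₀ hTK
  haveI h2 : QuasiIso ((extC ψ).map r) := DTenRing.quasiIso_ext ψ r hR₀ hC
  exact ⟨(extC ψ).obj T, fun i hi => (extF ψ).map_isZero (hT i hi),
    fun i => BaseChange.ext_flat _ _ (hTf i),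
    ⟨(asIso (DerivedCategory.Q.map ((extC ψ).map t))).symm ≪≫
      asIso (DerivedCategory.Q.map ((extC ψ).map r))⟩⟩

/-- Stalkwise tor amplitude passes to any base change of a flat morphism. -/
theorem torAmpAt_pb {X Y X' Y' : Scheme.{u}} {p : X' ⟶ X} {q : X' ⟶ Y'} {f : X ⟶ Y} {g : Y' ⟶ Y}
    (hW : IsPullback p q f g) [Flat f] {P : CochainComplex X.Modules ℤ} (hP : DCoh.IsKFlat P) {a b : ℤ}
    (w : X') (h : DerSch.HasTorAmplitudeAt f a b P (p w)) :
    DerSch.HasTorAmplitudeAt q a b ((pbC p).obj P) w :=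
  TorProduct.torAmpAt_pb_of hW P w (bdd_ext_kflat _ _
    (TorProduct.isKFlat_res_of_flat _ (Flat.stalkMap f (p w))
      ((KFlatStalk.isKFlat_iff_stalk P).1 hP (p w)))
    ((torAmpAt_iff f _ P a b).1 h))

/-- Base change of pseudo-coherent objects of finite relative tor dimension. -/
theorem relPerfect_baseChange {X Y X' Y' : Scheme.{u}} {p : X' ⟶ X} {q : X' ⟶ Y'} {f : X ⟶ Y}
    {g : Y' ⟶ Y} (hW : IsPullback p q f g) [Flat f] [DCoh.HasLpull p] {K : DCoh.D X}
    (hpc : ∀ m : ℤ, DCoh.IsPseudoCoherentD m K) (htor : DCoh.LocHasFiniteRelTorDim f K) :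
    (∀ m : ℤ, DCoh.IsPseudoCoherentD m ((DCoh.Lpull p).obj K)) ∧
      DCoh.LocHasFiniteRelTorDim q ((DCoh.Lpull p).obj K) := by
  haveI : Flat q := MorphismProperty.of_isPullback (P := @Flat) hW ‹Flat f›
  have hpc' : ∀ m : ℤ, DCoh.IsPseudoCoherentD m ((DCoh.Lpull p).obj K) := fun m =>
    Perfect.PullPC.isPseudoCoherent_Lpull p (hpc m)
  refine ⟨hpc', ?_⟩
  let F := DerivedCategory.Q.objPreimage K
  let eF : DCoh.toD X F ≅ K := DerivedCategory.Q.objObjPreimageIso K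
  let P := (DerivedOX.KFlat.res X).obj F
  haveI : QuasiIso ((DerivedOX.KFlat.aug X).app F) := DerivedOX.KFlat.quasiIso_aug F
  let eP : DCoh.toD X P ≅ K := asIso (DerivedCategory.Q.map ((DerivedOX.KFlat.aug X).app F)) ≪≫ eF
  obtain ⟨eL⟩ := TorPull.nonempty_lpull_iso p (DerivedOX.KFlat.isKFlat_res F)
  refine RelTor.relTorDim_of_locFiniteTorAmplitude q hpc' ((pbC p).obj P)
    (eL.symm ≪≫ (DCoh.Lpull p).mapIso eP) fun w => ?_
  obtain ⟨V, a, b, hV, hVamp⟩ := RelTor.locFiniteTorAmplitudeD_of_relTorDim f htor P ⟨eP⟩ (p w)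
  exact ⟨p ⁻¹ᵁ V, a, b, hV, fun w' hw' =>
    torAmpAt_pb hW (DerivedOX.KFlat.isKFlat_res F) w' (hVamp _ hw')⟩

end Groth.Agent.H56.RelPC.RelTorBC
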