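import Groth.Agent.H56.RelPC.RelTorFibRing
import Groth.Agent.H56.RelPC.RelTorBC
import Groth.Agent.H46.FiberStalk
import Groth.Agent.H19.FlatLocus.Main

/-!
Tor amplitude over the base from boundedness on the fibres.
-/

set_option autoImplicit false
set_option linter.style.haveILetI false

universe u

open CategoryTheory Limits AlgebraicGeometry HomologicalComplex TopologicalSpace

attribute [local instance] HasDerivedCategory.standard

namespace Groth.Agent.H56.RelPC.RelTorFib

open Groth.Agent.Lib Groth.Agent.Lib.DerivedOX Groth.Agent.Lib.Modules.StalkModule KFlatBaseChange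
open Groth.Agent.Lib.BettiExact TorTensor TorPull
open Groth.Agent.Lib.DR Groth.Agent.Lib.DR.Basic Groth.Agent.Lib.DR.FiniteComplex
  Groth.Agent.Lib.DR.PseudoCoherent
open Groth.Agent.Lib.Perfect.Basic Groth.Agent.Lib.Perfect.PseudoCoh

/-- Exactness passes through derived isomorphisms. -/
theorem exactAt_of_iso {R : Type u} [CommRing R] {C D : DRing.Cx R}
    (e : DerivedCategory.Q.obj C ≅ DerivedCategory.Q.obj D) {i : ℤ} (h : C.ExactAt i) : D.ExactAt i :=
  (exactAt_iff_isZero_homology _ _).2 (((exactAt_iff_isZero_homology _ _).1 h).of_iso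
    ((homologyQIso _ _).symm ≪≫ (DerivedCategory.homologyFunctor _ i).mapIso e.symm ≪≫ homologyQIso _ _))

/-- Base change of K-flat complexes is invariant. -/
theorem nonempty_ext_iso {A B : Type u} [CommRing A] [CommRing B] (ψ : A →+* B) {C D : DRing.Cx A}
    (hC : DRing.IsKFlat A C) (hD : DRing.IsKFlat A D)
    (e : DerivedCategory.Q.obj C ≅ DerivedCategory.Q.obj D) :
    Nonempty (DerivedCategory.Q.obj ((extC ψ).obj C) ≅ DerivedCategory.Q.obj ((extC ψ).obj D)) := by
  obtain ⟨R₀, t, r, ht, hr, hR₀⟩ := TorProduct.exists_roof e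
  haveI := ht
  haveI := hr
  haveI h1 : QuasiIso ((extC ψ).map t) := DTenRing.quasiIso_ext ψ t hR₀ hC
  haveI h2 : QuasiIso ((extC ψ).map r) := DTenRing.quasiIso_ext ψ r hR₀ hD
  exact ⟨(asIso (DerivedCategory.Q.map ((extC ψ).map t))).symm ≪≫
    asIso (DerivedCategory.Q.map ((extC ψ).map r))⟩

theorem ext_ext {A B C : Type u} [CommRing A] [CommRing B] [CommRing C] (f : A →+* B) (g : B →+* C)
    (h : A →+* C) (hgf : g.comp f = h) (T : DRing.Cx A) :
    Nonempty ((extC g).obj ((extC f).obj T) ≅ (extC h).obj T) := by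
  subst hgf
  exact ⟨(NatIso.mapHomologicalComplex (ModuleCat.extendScalarsComp f g).symm (ComplexShape.up ℤ)).app T⟩

/-- The images of maximal ideals under isomorphisms. -/
theorem map_maximalIdeal_of_bijective {A B : Type u} [CommRing A] [CommRing B] [IsLocalRing A] [IsLocalRing B]
    (e : A →+* B) (he : Function.Bijective e) :
    (IsLocalRing.maximalIdeal A).map e = IsLocalRing.maximalIdeal B := by
  refine le_antisymm (Ideal.map_le_iff_le_comap.2 fun x hx hu => hx ?_) fun x hx => ?_
  · obtain ⟨v, hv⟩ := hu.exists_right_inv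
    obtain ⟨w, rfl⟩ := he.2 v
    exact IsUnit.of_mul_eq_one w (he.1 (by rw [map_mul, hv, map_one]))
  · obtain ⟨w, rfl⟩ := he.2 x
    exact Ideal.mem_map_of_mem e fun hu => hx (hu.map e)

theorem ker_comp_bijective {A B C : Type u} [CommRing A] [CommRing B] [CommRing C] (t : A →+* B)
    (ht : Function.Bijective t) (g : B →+* C) (h : A →+* C) (hgt : g.comp t = h) :
    RingHom.ker g = (RingHom.ker h).map t := by
  subst hgt
  refine le_antisymm (fun x hx => ?_) (Ideal.map_le_iff_le_comap.2 fun x hx => hx)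
  obtain ⟨y, rfl⟩ := ht.2 x
  exact Ideal.mem_map_of_mem t hx

variable {X S : Scheme.{u}}

/-- Exactness in the fibre, on local rings. -/
theorem exactAt_fibre_stalk (f : X ⟶ S) (P : CochainComplex X.Modules ℤ) (s : S) (y : f.fiber s) (x : X)
    (hx : f.fiberι s y = x) (i : ℤ) (h : ((stC y).obj ((pbC (f.fiberι s)).obj P)).ExactAt i) :
    ∃ π : X.presheaf.stalk x →+* (f.fiber s).presheaf.stalk y, Function.Surjective π ∧
      RingHom.ker π = (IsLocalRing.maximalIdeal (S.presheaf.stalk (f x))).map (f.stalkMap x).hom ∧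
      ((extC π).obj ((stC x).obj P)).ExactAt i := by
  subst hx
  exact ⟨((f.fiberι s).stalkMap y).hom, (f.fiberι s).stalkMap_surjective y,
    H46.FiberStalk.ker_stalkMap_fiberι f s y, (exactAt_congr (stalkPbIso (f.fiberι s) y P) i).2 h⟩

variable (f : X ⟶ S) {R B : CommRingCat.{u}} (j : Spec B ⟶ X) [IsOpenImmersion j] (k : Spec R ⟶ S)
  [IsOpenImmersion k] (φ₀ : R ⟶ B) (w : j ≫ f = Spec.map φ₀ ≫ k)

include w in
/-- The comparison of the local rings of the base. -/
theorem exists_base_iso (z : Spec B) :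
    ∃ ε : S.presheaf.stalk (f (j z)) ≅ (Spec R).presheaf.stalk (Spec.map φ₀ z),
      f.stalkMap (j z) ≫ j.stalkMap z = ε.hom ≫ (Spec.map φ₀).stalkMap z := by
  let γ : S.presheaf.stalk (f (j z)) ≅ S.presheaf.stalk (k (Spec.map φ₀ z)) :=
    S.presheaf.stalkCongr (Inseparable.of_eq (show (j ≫ f) z = (Spec.map φ₀ ≫ k) z by rw [w]))
  haveI : IsIso (k.stalkMap (Spec.map φ₀ z)) := inferInstance
  refine ⟨γ ≪≫ asIso (k.stalkMap (Spec.map φ₀ z)), ?_⟩
  rw [← Scheme.Hom.stalkMap_comp, Scheme.Hom.stalkMap_congr_hom _ _ w z, Scheme.Hom.stalkMap_comp]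
  exact (Category.assoc _ _ _).symm

include w in
/-- Tor amplitude at a point through charts of source and base. -/
theorem torAmpAt_of_chart (F : CochainComplex X.Modules ℤ) {a b : ℤ} (z : Spec B)
    (h : DerSch.HasTorAmplitudeAt (Spec.map φ₀) a b ((rC j).obj F) z) :
    DerSch.HasTorAmplitudeAt f a b F (j z) := by
  obtain ⟨ε, hε⟩ := exists_base_iso f j k φ₀ w z
  let g := Spec.map φ₀
  let e : (Spec R).presheaf.stalk (g z) →+* S.presheaf.stalk (f (j z)) := ε.inv.hom
  have he : (g.stalkMap z).hom = ((j.stalkMap z).hom.comp (f.stalkMap (j z)).hom).comp e := by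
    rw [← CommRingCat.hom_comp, ← CommRingCat.hom_comp, hε, Iso.inv_hom_id_assoc]
  let e' : S.presheaf.stalk (f (j z)) →+* (Spec R).presheaf.stalk (g z) := ε.hom.hom
  have hee : (e).comp e' = RingHom.id _ := by
    rw [← CommRingCat.hom_comp, Iso.hom_inv_id, CommRingCat.hom_id]
  have hbij : Function.Bijective e' := ConcreteCategory.bijective_of_isIso ε.hom
  let η := TorRestrict.stalkOverRestrictIso f g j z e he
  let C := (DerSch.stalkCxOver f (j z)).obj F
  let D := (DerSch.stalkCxOver g z).obj ((rC j).obj F)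
  let i₁ : D ≅ (resC e).obj C := (NatIso.mapHomologicalComplex η (ComplexShape.up ℤ)).app F
  let θ : resF e ⋙ resF e' ≅ 𝟭 (ModuleCat.{u} (S.presheaf.stalk (f (j z)))) :=
    (ModuleCat.restrictScalarsComp'.{u} e' e (RingHom.id _) hee.symm).symm ≪≫
      ModuleCat.restrictScalarsId _
  let i₂ : (resC e').obj ((resC e).obj C) ≅ C :=
    (NatIso.mapHomologicalComplex θ (ComplexShape.up ℤ)).app C ≪≫
      (Functor.mapHomologicalComplexIdIso _ _).app C
  exact Bdd.of_iso (ExactPush.bdd_map (ModuleCat.restrictScalars.{u} e')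
      (TorRestrict.flat_res_of_bijective e' hbij) (show Bdd (flat _) a b (DerivedCategory.Q.obj D) from h))
    (ExactPush.mapQ (ModuleCat.restrictScalars.{u} e') D ≪≫
      DerivedCategory.Q.mapIso ((resC e').mapIso i₁ ≪≫ i₂))

include w in
/-- Tor amplitude near a point at which the derived fibre is bounded below. -/
theorem exists_nhd [Flat f] [LocallyOfFinitePresentation f] {P : CochainComplex X.Modules ℤ}
    (hP : DCoh.IsKFlat P) {E : DRing.Cx B} {c : ℤ} (hff : ∀ i, ff B (E.X i))
    (hc : ∀ i, c < i → IsZero (E.X i))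
    (eU : DerivedCategory.Q.obj ((rC j).obj P) ≅
      DerivedCategory.Q.obj (((tilde.functor B).mapHomologicalComplex (ComplexShape.up ℤ)).obj E))
    {a : ℤ} (hP0 : ∀ (z : Spec B), ∀ i < a, ((stC (j z)).obj P).ExactAt i) (z : Spec B)
    (s : S) (y : f.fiber s) (hy : f.fiberι s y = j z)
    (hfib : ∀ i < a, ((stC y).obj ((pbC (f.fiberι s)).obj P)).ExactAt i) :
    ∃ V : X.Opens, j z ∈ V ∧ ∀ x' ∈ V, DerSch.HasTorAmplitudeAt f a c P x' := by
  haveI : Flat (Spec.map φ₀ ≫ k) := w ▸ inferInstance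
  haveI : LocallyOfFinitePresentation (Spec.map φ₀ ≫ k) := w ▸ inferInstance
  haveI : Flat (Spec.map φ₀) := MorphismProperty.of_postcomp (W := @Flat) (W' := @IsOpenImmersion) _ k ‹_› ‹_›
  haveI : LocallyOfFinitePresentation (Spec.map φ₀) :=
    MorphismProperty.of_postcomp (W := @LocallyOfFinitePresentation) (W' := @IsOpenImmersion) _ k ‹_› ‹_›
  letI := φ₀.hom.toAlgebra
  haveI : Module.Flat R B := (HasRingHomProperty.Spec_iff (P := @Flat)).1 ‹Flat (Spec.map φ₀)›
  haveI : Algebra.FinitePresentation R B :=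
    (HasRingHomProperty.Spec_iff (P := @LocallyOfFinitePresentation)).1 ‹_›
  haveI : ∀ z' : Spec B, IsLocalRing ((Spec R).presheaf.stalk (Spec.map φ₀ z')) := fun _ => inferInstance
  letI : Module R (E.X a) := Module.compHom (E.X a) (algebraMap R B)
  haveI : IsScalarTower R B (E.X a) := IsScalarTower.of_algebraMap_smul fun _ _ => rfl
  let M := E.X a ⧸ LinearMap.range (E.d (a - 1) a).hom
  -- exactness in the fibre at `z`
  have hfe : FibTorRing.FibExact (A := R) E a z := by
    obtain ⟨σ, hloc, hcomap, hsq, ⟨eT⟩⟩ := FibTor.exists_stalk_model (Spec.map φ₀) (𝟙 (Spec B)) φ₀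
      (Category.id_comp _) (P := (rC j).obj P)
      (E := E) (DerivedCategory.Q.mapIso ((rCId (Spec B)).app _) ≪≫ eU) z
    let zz : Spec B := (𝟙 (Spec B) : Spec B ⟶ Spec B) z
    letI : Algebra B ((Spec B).presheaf.stalk zz) := σ.toAlgebra
    haveI : IsLocalization.AtPrime ((Spec B).presheaf.stalk zz) z.asIdeal := hloc
    letI : Algebra R ((Spec B).presheaf.stalk zz) := (σ.comp φ₀.hom).toAlgebra
    haveI : IsScalarTower R B ((Spec B).presheaf.stalk zz) := IsScalarTower.of_algebraMap_eq fun _ => rfl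
    letI : Algebra R ((Spec R).presheaf.stalk (Spec.map φ₀ zz)) := StructureSheaf.stalkAlgebra R _
    haveI : IsLocalization.AtPrime ((Spec R).presheaf.stalk (Spec.map φ₀ zz))
        (Ideal.comap (algebraMap R B) z.asIdeal) :=
      FibTor.atPrime_congr hcomap.symm (StructureSheaf.IsLocalization.to_stalk R _)
    refine FibTorRing.fibExact_of_stalk ((Spec.map φ₀).stalkMap zz).hom hsq.symm E a fun i hi => ?_
    obtain ⟨π, hπ, hker, hex⟩ := exactAt_fibre_stalk f P s y (j zz) hy i (hfib i hi)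
    obtain ⟨ε, hε⟩ := exists_base_iso f j k φ₀ w zz
    let t := (j.stalkMap zz).hom
    have ht : Function.Bijective t := ConcreteCategory.bijective_of_isIso (j.stalkMap zz)
    let π₁ : (Spec B).presheaf.stalk zz →+* (f.fiber s).presheaf.stalk y := π.comp (inv (j.stalkMap zz)).hom
    have hπt : π₁.comp t = π := by
      rw [RingHom.comp_assoc, ← CommRingCat.hom_comp, IsIso.hom_inv_id, CommRingCat.hom_id, RingHom.comp_id]
    have hπ₁ : Function.Surjective π₁ :=
      hπ.comp (ConcreteCategory.bijective_of_isIso (inv (j.stalkMap zz))).2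
    have hker₁ : RingHom.ker π₁ = (IsLocalRing.maximalIdeal _).map ((Spec.map φ₀).stalkMap zz).hom := by
      rw [ker_comp_bijective t ht π₁ π hπt, hker, Ideal.map_map, ← CommRingCat.hom_comp, hε,
        CommRingCat.hom_comp, ← Ideal.map_map,
        map_maximalIdeal_of_bijective ε.hom.hom (ConcreteCategory.bijective_of_isIso ε.hom)]
    refine RelTorFibRing.exists_of_exactAt π₁ hπ₁ _ hker₁ ((extC σ).obj E) i ?_
    have hK : DRing.IsKFlat _ ((stC (j zz)).obj P) := (KFlatStalk.isKFlat_iff_stalk P).1 hP _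
    have hK₁ : DRing.IsKFlat _ ((extC t).obj ((stC (j zz)).obj P)) := KFlatBaseChange.isKFlat_extendScalars t hK
    have hKE : DRing.IsKFlat _ ((extC σ).obj E) := DR.KFlat.isKFlat_of_flat _ c
      (fun i hi => (extF σ).map_isZero (hc i hi))
      fun i => BaseChange.ext_flat σ _ (BaseChange.flat_of_free _ (hff i).2)
    obtain ⟨e₁⟩ := nonempty_ext_iso π₁ hK₁ hKE
      (DerivedCategory.Q.mapIso (stalkPbIso j zz P ≪≫
        (stC zz).mapIso ((Perfect.Pullback.rCIso j).app P).symm) ≪≫ eT)
    obtain ⟨e₂⟩ := ext_ext t π₁ π hπt ((stC (j zz)).obj P)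
    exact exactAt_of_iso e₁ ((exactAt_congr e₂ i).2 hex)
  -- the flat locus of the cokernel
  haveI : Module.Free B (E.X a) := (hff a).2
  haveI : Module.Finite B (E.X a) := (hff a).1
  haveI : Module.Finite B (E.X (a - 1)) := (hff _).1
  haveI : Module.FinitePresentation B (E.X a) := Module.finitePresentation_of_projective B _
  haveI : Module.FinitePresentation B M :=
    Module.finitePresentation_of_surjective _ (Submodule.mkQ_surjective _) (by
      rw [Submodule.ker_mkQ, LinearMap.range_eq_map]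
      exact Module.Finite.fg_top.map _)
  let U : Set (Spec B) := {q | Module.Flat R (LocalizedModule q.asIdeal.primeCompl M)}
  have hU : IsOpen U := H19.FlatLocus.isOpen_flat_of_finitePresentation (R := R) (S := B) (M := M)
  refine ⟨⟨j '' U, j.isOpenEmbedding.isOpenMap _ hU⟩,
    ⟨z, RelTorFibRing.flat_coker_of_fibExact E hff z hfe, rfl⟩, ?_⟩
  rintro _ ⟨z', hz', rfl⟩
  refine torAmpAt_of_chart f j k φ₀ w P z' ?_
  obtain ⟨σ, hloc, hcomap, hsq, ⟨eT⟩⟩ := FibTor.exists_stalk_model (Spec.map φ₀) (𝟙 (Spec B)) φ₀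
    (Category.id_comp _) (P := (rC j).obj P)
    (E := E) (DerivedCategory.Q.mapIso ((rCId (Spec B)).app _) ≪≫ eU) z'
  let zz : Spec B := (𝟙 (Spec B) : Spec B ⟶ Spec B) z'
  letI : Algebra B ((Spec B).presheaf.stalk zz) := σ.toAlgebra
  haveI : IsLocalization.AtPrime ((Spec B).presheaf.stalk zz) z'.asIdeal := hloc
  letI : Algebra R ((Spec B).presheaf.stalk zz) := (σ.comp φ₀.hom).toAlgebra
  haveI : IsScalarTower R B ((Spec B).presheaf.stalk zz) := IsScalarTower.of_algebraMap_eq fun _ => rfl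
  letI : Algebra R ((Spec R).presheaf.stalk (Spec.map φ₀ zz)) := StructureSheaf.stalkAlgebra R _
  haveI : IsLocalization.AtPrime ((Spec R).presheaf.stalk (Spec.map φ₀ zz))
      (Ideal.comap (algebraMap R B) z'.asIdeal) :=
    FibTor.atPrime_congr hcomap.symm (StructureSheaf.IsLocalization.to_stalk R _)
  have hb := RelTorFibRing.bdd_of_flat_coker ((Spec.map φ₀).stalkMap zz).hom hsq.symm E hff hc z'
    (a := a) (fun i hi => exactAt_of_iso eT ?_) hz'
  · exact (torAmpAt_iff _ zz _ a c).2 (Bdd.of_iso hb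
      ((ExactPush.mapQ (resF ((Spec.map φ₀).stalkMap zz).hom) _).symm ≪≫
        (resF ((Spec.map φ₀).stalkMap zz).hom).mapDerivedCategory.mapIso eT.symm ≪≫
        ExactPush.mapQ (resF ((Spec.map φ₀).stalkMap zz).hom) _))
  · refine (exactAt_congr (stalkPbIso j zz P ≪≫
      (stC zz).mapIso ((Perfect.Pullback.rCIso j).app P).symm) i).1 ?_
    haveI : PreservesFiniteLimits (extF (j.stalkMap zz).hom) :=
      ModuleCat.preservesFiniteLimits_extendScalars_of_flat
        (RingHom.Flat.of_bijective (ConcreteCategory.bijective_of_isIso (j.stalkMap zz)))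
    haveI : PreservesFiniteColimits (extF (j.stalkMap zz).hom) :=
      haveI : PreservesColimitsOfSize.{0, 0} (extF (j.stalkMap zz).hom) :=
        (ModuleCat.extendRestrictScalarsAdj.{u} (j.stalkMap zz).hom).leftAdjoint_preservesColimits
      PreservesColimitsOfSize.preservesFiniteColimits _
    exact ((exactAt_iff_isZero_homology _ _).2 ((Functor.map_isZero _
      ((exactAt_iff_isZero_homology _ _).1 (hP0 zz i hi))).of_iso
      ((((stC (j zz)).obj P).sc i).mapHomologyIso (extF (j.stalkMap zz).hom))))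

end Groth.Agent.H56.RelPC.RelTorFib
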