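import Groth.Agent.H56.RelPC.FibTorRing

/-!
Exactness in a fibre and openness of tor amplitude over the base: ring level.
-/

set_option autoImplicit false
set_option linter.style.haveILetI false

universe u

open CategoryTheory Limits HomologicalComplex
open scoped TensorProduct

attribute [local instance] HasDerivedCategory.standard

namespace Groth.Agent.H56.RelPC.RelTorFibRing

open Groth.Agent.Lib Groth.Agent.Lib.DR Groth.Agent.Lib.DR.Basic Groth.Agent.Lib.DR.FiniteComplex
  Groth.Agent.Lib.DR.PseudoCoherent Groth.Agent.Lib.DR.BaseChange Groth.Agent.Lib.DR.TorAmp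
open Groth.Agent.Lib.DerivedOX KFlatBaseChange
open Groth.Agent.Lib.BettiExact TorTensor
open FibTorRing FibMod

section Local

variable {A C : Type u} [CommRing A] [CommRing C]

/-- Exactness modulo an ideal. -/
theorem exists_of_exactAt (π : A →+* C) (hπ : Function.Surjective π) (I : Ideal A)
    (hI : RingHom.ker π = I) (F : DRing.Cx A) (j : ℤ) (h : ((extC π).obj F).ExactAt j) (w : F.X j)
    (hw : F.d j (j + 1) w ∈ I • (⊤ : Submodule A (F.X (j + 1)))) :
    ∃ u, w - F.d (j - 1) j u ∈ I • (⊤ : Submodule A (F.X j)) := by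
  subst hI
  have h0 : eta π F (j + 1) (F.d j (j + 1) w) = 0 := by
    refine Submodule.smul_induction_on hw (fun r hr v _ => ?_) fun x y hx hy => by rw [map_add, hx, hy, add_zero]
    rw [eta_smul, RingHom.mem_ker.1 hr, zero_smul]
  rw [HomologicalComplex.exactAt_iff' _ (j - 1) j (j + 1) (by simp) (by simp),
    ShortComplex.ShortExact.moduleCat_exact_iff_function_exact] at h
  obtain ⟨z, hz⟩ := (h (eta π F j w)).1 ((eta_d π F j (j + 1) w).trans h0)
  obtain ⟨u, rfl⟩ := eta_surjective π hπ F (j - 1) z
  refine ⟨u, eta_eq_zero π hπ F j ?_⟩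
  rw [map_sub, ← eta_d, sub_eq_zero]
  exact hz.symm

end Local

theorem flat_localizedModule {B M : Type u} [CommRing B] [AddCommGroup M] [Module B M] (W : Submonoid B)
    [Module.Flat B M] : Module.Flat B (LocalizedModule W M) :=
  haveI : Module.Flat (Localization W) (LocalizedModule W M) :=
    Module.Flat.of_isLocalizedModule (Localization W) W (LocalizedModule.mkLinearMap W M)
  haveI : Module.Flat B (Localization W) := IsLocalization.flat _ W
  Module.Flat.trans B (Localization W) _

section Chart

variable {A B Al Bl : Type u} [CommRing A] [CommRing B] [Algebra A B] [CommRing Al] [CommRing Bl]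
  [Algebra A Al] [Algebra B Bl] [Algebra A Bl] [IsScalarTower A B Bl] (φ : Al →+* Bl)
  (hφ : φ.comp (algebraMap A Al) = algebraMap A Bl)

include hφ in
/-- Flatness over the localized base of a localized module. -/
theorem flat_res_ext_iff (q : PrimeSpectrum B) [IsLocalization.AtPrime Bl q.asIdeal]
    [IsLocalization.AtPrime Al (q.asIdeal.comap (algebraMap A B))] (M : ModuleCat.{u} B) [Module A M]
    [IsScalarTower A B M] :
    Module.Flat Al ((resF φ).obj ((extF (algebraMap B Bl)).obj M)) ↔
      Module.Flat A (LocalizedModule q.asIdeal.primeCompl M) := by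
  let W := (resF φ).obj ((extF (algebraMap B Bl)).obj M)
  let V := Bl ⊗[B] M
  let e₀ : (extF (algebraMap B Bl)).obj M ≃ₗ[Bl] V := DR.FlatBC.extEquiv B Bl M
  haveI : IsLocalizedModule q.asIdeal.primeCompl (TensorProduct.mk B Bl M 1) :=
    (isLocalizedModule_iff_isBaseChange q.asIdeal.primeCompl Bl _).2 (TensorProduct.isBaseChange B M Bl)
  let e₁ : LocalizedModule q.asIdeal.primeCompl M ≃ₗ[B] V :=
    IsLocalizedModule.iso q.asIdeal.primeCompl (TensorProduct.mk B Bl M 1)
  let e₂ : LocalizedModule q.asIdeal.primeCompl M ≃ₗ[A] V :=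
    { e₁ with
      map_smul' := fun r x => by
        show e₁ (r • x) = r • e₁ x
        rw [← algebraMap_smul B r x, map_smul, algebraMap_smul] }
  letI : Module A W := Module.compHom W (algebraMap A Al)
  haveI : IsScalarTower A Al W := IsScalarTower.of_algebraMap_smul fun _ _ => rfl
  let e₃ : W ≃ₗ[A] V :=
    { e₀.toAddEquiv with
      map_smul' := fun r x => by
        show e₀ (φ (algebraMap A Al r) • (show (extF (algebraMap B Bl)).obj M from x)) = r • e₀ x
        rw [map_smul, ← RingHom.comp_apply, hφ]
        exact algebraMap_smul Bl r (e₀ x) }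
  rw [Module.flat_iff_of_isLocalization Al (q.asIdeal.comap (algebraMap A B)).primeCompl]
  exact ⟨fun _ => Module.Flat.of_linearEquiv (e₂.trans e₃.symm),
    fun _ => Module.Flat.of_linearEquiv (e₃.trans e₂.symm)⟩

variable (E : DRing.Cx B) {a c : ℤ} (hff : ∀ i, ff B (E.X i)) (hc : ∀ i, c < i → IsZero (E.X i))

include hff in
/-- Flatness of the cokernel from exactness in the fibre. -/
theorem flat_coker_of_fibExact [Algebra.FinitePresentation A B] [Module.Flat A B] (q : PrimeSpectrum B)
    [Module A (E.X a)] [IsScalarTower A B (E.X a)]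
    (h : FibExact (A := A) E a q) :
    Module.Flat A (LocalizedModule q.asIdeal.primeCompl (E.X a ⧸ LinearMap.range (E.d (a - 1) a).hom)) := by
  letI : ∀ i, Module A (E.X i) := fun i => Module.compHom (E.X i) (algebraMap A B)
  haveI : ∀ i, IsScalarTower A B (E.X i) := fun i => IsScalarTower.of_algebraMap_smul fun _ _ => rfl
  haveI : ∀ i, Module.Free B (E.X i) := fun i => (hff i).2
  haveI : ∀ i, Module.Finite B (E.X i) := fun i => (hff i).1
  haveI : ∀ i, Module.FinitePresentation B (E.X i) := fun i => Module.finitePresentation_of_projective B _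
  have hM : Module.Flat A (LocalizedModule q.asIdeal.primeCompl (E.X a)) :=
    haveI : Module.Flat B (LocalizedModule q.asIdeal.primeCompl (E.X a)) :=
      haveI : Module.Flat B (E.X a) := inferInstance
      flat_localizedModule _
    Module.Flat.trans A B _
  have hgf : (E.d (a - 1) a).hom ∘ₗ (E.d (a - 1 - 1) (a - 1)).hom = 0 :=
    congrArg ModuleCat.Hom.hom (E.d_comp_d (a - 1 - 1) (a - 1) a)
  have h' := h (a - 1) (by omega)
  rw [sub_add_cancel] at h'
  exact flat_coker_of_fibExactAt (q' := q) hgf hM h' le_rfl (LocalizedModule.mkLinearMap _ _)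

include hφ hff hc in
/-- Tor amplitude of the localized complex from exactness and a flat cokernel. -/
theorem bdd_of_flat_coker [Module.Flat A B] (q : PrimeSpectrum B) [IsLocalization.AtPrime Bl q.asIdeal]
    [IsLocalization.AtPrime Al (q.asIdeal.comap (algebraMap A B))]
    [Module A (E.X a)] [IsScalarTower A B (E.X a)]
    (hex : ∀ i < a, ((extC (algebraMap B Bl)).obj E).ExactAt i)
    (hM : Module.Flat A
      (LocalizedModule q.asIdeal.primeCompl (E.X a ⧸ LinearMap.range (E.d (a - 1) a).hom))) :
    Bdd (flat Al) a c (DerivedCategory.Q.obj ((resC φ).obj ((extC (algebraMap B Bl)).obj E))) := by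
  let C := (resC φ).obj ((extC (algebraMap B Bl)).obj E)
  have hBl : (algebraMap B Bl).Flat := by
    rw [RingHom.flat_algebraMap_iff]
    exact IsLocalization.flat Bl q.asIdeal.primeCompl
  haveI := ModuleCat.preservesFiniteLimits_extendScalars_of_flat hBl
  haveI : PreservesFiniteColimits (extF (algebraMap B Bl)) :=
    haveI : PreservesColimitsOfSize.{0, 0} (extF (algebraMap B Bl)) :=
      (ModuleCat.extendRestrictScalarsAdj.{u} (algebraMap B Bl)).leftAdjoint_preservesColimits
    PreservesColimitsOfSize.preservesFiniteColimits _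
  let F := extF (algebraMap B Bl) ⋙ resF φ
  haveI : PreservesFiniteLimits F := comp_preservesFiniteLimits _ _
  haveI : PreservesFiniteColimits F := comp_preservesFiniteColimits _ _
  have hfl : ∀ M : ModuleCat.{u} B, flat B M → flat Al (F.obj M) := fun M hM => by
    letI : Module A M := Module.compHom M (algebraMap A B)
    haveI : IsScalarTower A B M := IsScalarTower.of_algebraMap_smul fun _ _ => rfl
    haveI : Module.Flat B M := hM
    haveI : Module.Flat B (LocalizedModule q.asIdeal.primeCompl M) := flat_localizedModule _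
    exact (flat_res_ext_iff φ hφ q M).2 (Module.Flat.trans A B _)
  haveI : C.IsGE a :=
    (CochainComplex.isGE_iff C a).2 fun i hi => (exactAt_resC_iff φ _ i).2 (hex i hi)
  refine bdd_of_opcycles good_flat (fun i hi => (resF φ).map_isZero ((extF _).map_isZero (hc i hi)))
    (fun i _ => hfl _ (flat_of_free _ (hff i).2)) ((DerivedCategory.isGE_Q_obj_iff C a).2 inferInstance) ?_
  let op : C.opcycles a ≅ F.obj (E.opcycles a) := (E.sc a).mapOpcyclesIso F
  refine good_flat.iso ((F.mapIso (opcyclesIso E a)) ≪≫ op.symm ≪≫ (opcyclesIso C a).symm) ?_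
  exact (flat_res_ext_iff φ hφ q (ModuleCat.of B (E.X a ⧸ LinearMap.range (E.d (a - 1) a).hom))).2 hM

end Chart

end Groth.Agent.H56.RelPC.RelTorFibRing
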