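import Groth.Agent.H56.RelPC.RelTorFib

/-!
Relative tor dimension and boundedness on the fibres.
-/

set_option autoImplicit false
set_option linter.style.haveILetI false

universe u

open CategoryTheory Limits AlgebraicGeometry HomologicalComplex TopologicalSpace

attribute [local instance] HasDerivedCategory.standard

namespace Groth.Agent.H56.RelPC.RelTorMain

open Groth.Agent.Lib Groth.Agent.Lib.DerivedOX Groth.Agent.Lib.Modules.StalkModule KFlatBaseChange
open Groth.Agent.Lib.BettiExact TorTensor TorPull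
open Groth.Agent.Lib.DR Groth.Agent.Lib.DR.Basic Groth.Agent.Lib.DR.FiniteComplex
  Groth.Agent.Lib.DR.PseudoCoherent
open Groth.Agent.Lib.Perfect.Basic Groth.Agent.Lib.Perfect.PseudoCoh

variable {X S : Scheme.{u}}

theorem exactAt_of_ext_bijective {A B : Type u} [CommRing A] [CommRing B] (t : A →+* B)
    (ht : Function.Bijective t) (T : DRing.Cx A) {i : ℤ} (h : ((extC t).obj T).ExactAt i) : T.ExactAt i := by
  let e := RingEquiv.ofBijective t ht
  let t' : B →+* A := e.symm.toRingHom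
  have htt : t'.comp t = RingHom.id A := RingHom.ext fun x => e.symm_apply_apply x
  haveI : PreservesFiniteLimits (extF t') :=
    ModuleCat.preservesFiniteLimits_extendScalars_of_flat (RingHom.Flat.of_bijective e.symm.bijective)
  haveI : PreservesFiniteColimits (extF t') :=
    haveI : PreservesColimitsOfSize.{0, 0} (extF t') :=
      (ModuleCat.extendRestrictScalarsAdj.{u} t').leftAdjoint_preservesColimits
    PreservesColimitsOfSize.preservesFiniteColimits _
  obtain ⟨e₁⟩ := RelTorFib.ext_ext t t' (RingHom.id A) htt T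
  let e₂ : (extC (RingHom.id A)).obj T ≅ T :=
    (NatIso.mapHomologicalComplex (ModuleCat.extendScalarsId A) (ComplexShape.up ℤ)).app T ≪≫
      (Functor.mapHomologicalComplexIdIso _ _).app T
  refine (exactAt_congr (e₁ ≪≫ e₂) i).1 ((exactAt_iff_isZero_homology _ _).2 ?_)
  exact (Functor.map_isZero _ ((exactAt_iff_isZero_homology _ _).1 h)).of_iso
    ((((extC t).obj T).sc i).mapHomologyIso (extF t'))

/-- Stalks below a bound of the restriction to an open. -/
theorem exactAt_stalk_of_isGE (W : X.Opens) (F : CochainComplex X.Modules ℤ) {K : DCoh.D X}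
    (e : DCoh.toD X F ≅ K) {a : ℤ} (h : ((RD W.ι).obj K).IsGE a) {x : X} (hx : x ∈ W) {i : ℤ}
    (hi : i < a) : ((stC x).obj F).ExactAt i := by
  have h' : ((rC W.ι).obj F).ExactAt i := (exactAt_iff_isZero_homology _ _).2
    ((DerivedCategory.isZero_of_isGE ((RD W.ι).obj K) a i hi).of_iso
      ((homologyQIso _ _).symm ≪≫ (DerivedCategory.homologyFunctor _ i).mapIso
        ((RDQ W.ι F).symm ≪≫ (RD W.ι).mapIso e)))
  let z : W := ⟨x, hx⟩
  have h2 := (exactAt_congr (stalkPbIso W.ι z F ≪≫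
    (stC z).mapIso ((Perfect.Pullback.rCIso W.ι).app F).symm) i).2 ((Amplitude.exactAt_iff_stalk _ i).1 h' z)
  exact exactAt_of_ext_bijective _ (ConcreteCategory.bijective_of_isIso (W.ι.stalkMap z)) _ h2

/-- Finite relative tor dimension gives local lower bounds. -/
theorem exists_isGE (f : X ⟶ S) {K : DCoh.D X} (h : DCoh.LocHasFiniteRelTorDim f K) (x : X) :
    ∃ (V : X.Opens) (a : ℤ), x ∈ V ∧ ((RD V.ι).obj K).IsGE a := by
  obtain ⟨V, a, b, hx, hV⟩ := h x
  let e := DerivedCategory.Q.objObjPreimageIso K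
  obtain ⟨E, hE, -, ⟨i⟩⟩ := hV _ ⟨e⟩
  exact ⟨V, a, hx, isGE_of_iso' (i ≪≫ (RDQ V.ι _).symm ≪≫ (RD V.ι).mapIso e)
    (isGE_Q_of_isZero E a fun k hk => hE k (Or.inl hk))⟩

theorem relTorDim_iff_fibres (f : X ⟶ S) [Flat f] [LocallyOfFinitePresentation f]
    [∀ s : S, DCoh.HasLpull (f.fiberι s)] (K : DCoh.D X) (hpc : ∀ m : ℤ, DCoh.IsPseudoCoherentD m K) :
    DCoh.LocHasFiniteRelTorDim f K ↔
      ((∀ x : X, ∃ (V : X.Opens) (a : ℤ), x ∈ V ∧ ((RD V.ι).obj K).IsGE a) ∧
        ∀ (s : S) (y : ↥(f.fiber s)), ∃ (W : (f.fiber s).Opens) (a : ℤ), y ∈ W ∧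
          ((RD W.ι).obj ((DCoh.Lpull (f.fiberι s)).obj K)).IsGE a) := by
  constructor
  · intro h
    refine ⟨exists_isGE f h, fun s y => ?_⟩
    have h' := RelTorBC.relPerfect_baseChange (p := f.fiberι s) (q := f.fiberToSpecResidueField s)
      (g := S.fromSpecResidueField s) (IsPullback.of_hasPullback f (S.fromSpecResidueField s)) hpc h
    exact exists_isGE (f.fiberToSpecResidueField s) h'.2 y
  · rintro ⟨hb, hfib⟩
    let F := DerivedCategory.Q.objPreimage K
    let eF : DCoh.toD X F ≅ K := DerivedCategory.Q.objObjPreimageIso K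
    let P := (DerivedOX.KFlat.res X).obj F
    haveI : QuasiIso ((DerivedOX.KFlat.aug X).app F) := DerivedOX.KFlat.quasiIso_aug F
    let eP : DCoh.toD X P ≅ K := asIso (DerivedCategory.Q.map ((DerivedOX.KFlat.aug X).app F)) ≪≫ eF
    have hP : DCoh.IsKFlat P := DerivedOX.KFlat.isKFlat_res F
    have hPpc : ∀ (m : ℤ) (x : X), PCAt m (DerivedCategory.Q.obj P) x := fun m x =>
      ((iff_forall m K).1 (hpc m) x).of_iso eP.symm
    refine RelTor.relTorDim_of_locFiniteTorAmplitude f hpc P eP fun x => ?_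
    obtain ⟨V₁, a₁, hxV₁, hV₁⟩ := hb x
    obtain ⟨W₀, hW₀, hxW₀, -⟩ := exists_isAffineOpen_mem_and_subset (X := S) (x := f x) (U := ⊤) trivial
    obtain ⟨U, hU, hxU, hle⟩ := exists_isAffineOpen_mem_and_subset (X := X) (x := x) (U := V₁ ⊓ f ⁻¹ᵁ W₀)
      ⟨hxV₁, hxW₀⟩
    have hUW : U ≤ f ⁻¹ᵁ W₀ := fun y hy => (hle hy).2
    obtain ⟨c, E, hff, hc, ⟨eU⟩⟩ := FibTor.exists_free_model hPpc hU
    obtain ⟨z, hz⟩ : x ∈ Set.range hU.fromSpec := by rw [hU.range_fromSpec]; exact hxU
    obtain ⟨Wy, a₂, hyW, hWy⟩ := hfib (f x) (f.asFiber x)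
    obtain ⟨eL⟩ := TorPull.nonempty_lpull_iso (f.fiberι (f x)) hP
    let a := min a₁ a₂
    obtain ⟨V, hV, hamp⟩ := RelTorFib.exists_nhd f hU.fromSpec hW₀.fromSpec (f.appLE W₀ U hUW)
      (IsAffineOpen.SpecMap_appLE_fromSpec f hW₀ hU hUW).symm hP hff hc eU (a := a)
      (fun z' i hi => exactAt_stalk_of_isGE V₁ P eP hV₁ (by
          have : hU.fromSpec z' ∈ (U : Set X) := hU.range_fromSpec ▸ Set.mem_range_self z'
          exact (hle this).1) (lt_of_lt_of_le hi (min_le_left _ _)))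
      z (f x) (f.asFiber x) ((f.fiberι_asFiber x).trans hz.symm)
      (fun i hi => exactAt_stalk_of_isGE Wy _ (eL.symm ≪≫ (DCoh.Lpull (f.fiberι (f x))).mapIso eP) hWy hyW
        (lt_of_lt_of_le hi (min_le_right _ _)))
    exact ⟨V, a, c, hz ▸ hV, hamp⟩

end Groth.Agent.H56.RelPC.RelTorMain
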