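import Groth.Agent.H56.RelPC.RelTorPerfRing
import Groth.Agent.H56.RelPC.RelTorMain

/-!
Perfection by fibres.
-/

set_option autoImplicit false
set_option linter.style.haveILetI false

universe u

open CategoryTheory Limits AlgebraicGeometry HomologicalComplex TopologicalSpace

attribute [local instance] HasDerivedCategory.standard

namespace Groth.Agent.H56.RelPC.RelTorPerf

open Groth.Agent.Lib Groth.Agent.Lib.DerivedOX Groth.Agent.Lib.Modules.StalkModule KFlatBaseChange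
open Groth.Agent.Lib.BettiExact TorTensor TorPull
open Groth.Agent.Lib.DR Groth.Agent.Lib.DR.Basic Groth.Agent.Lib.DR.FiniteComplex
  Groth.Agent.Lib.DR.PseudoCoherent
open Groth.Agent.Lib.Perfect.Basic Groth.Agent.Lib.Perfect.PseudoCoh

variable {X S : Scheme.{u}}

/-- The derived stalk of a representative. -/
noncomputable def sdIso (x : X) (F : CochainComplex X.Modules ℤ) {K : DCoh.D X} (e : DCoh.toD X F ≅ K) :
    DerivedCategory.Q.obj ((stC x).obj F) ≅ (Perfect.FlatPerfect.SD x).obj K :=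
  haveI : PreservesFiniteColimits (stalkModFunctor X x) :=
    PreservesColimitsOfSize.preservesFiniteColimits _
  (ExactPush.mapQ (stalkModFunctor X x) F).symm ≪≫ (Perfect.FlatPerfect.SD x).mapIso e

/-- Flat amplitude on stalks passes to open subschemes. -/
theorem bdd_stalk_restrict {U : Scheme.{u}} (j : U ⟶ X) [IsOpenImmersion j] (y : U) {x : X} (hy : j y = x)
    (F : CochainComplex X.Modules ℤ) {a b : ℤ}
    (h : Bdd (flat _) a b (DerivedCategory.Q.obj ((stC x).obj F))) :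
    Bdd (flat _) a b (DerivedCategory.Q.obj ((stC y).obj ((rC j).obj F))) := by
  subst hy
  haveI : PreservesFiniteLimits (extF (j.stalkMap y).hom) :=
    ModuleCat.preservesFiniteLimits_extendScalars_of_flat
      (RingHom.Flat.of_bijective (ConcreteCategory.bijective_of_isIso (j.stalkMap y)))
  haveI : PreservesFiniteColimits (extF (j.stalkMap y).hom) :=
    haveI : PreservesColimitsOfSize.{0, 0} (extF (j.stalkMap y).hom) :=
      (ModuleCat.extendRestrictScalarsAdj.{u} (j.stalkMap y).hom).leftAdjoint_preservesColimits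
    PreservesColimitsOfSize.preservesFiniteColimits _
  exact Bdd.of_iso (ExactPush.bdd_map (extF (j.stalkMap y).hom) (fun M hM => BaseChange.ext_flat _ M hM) h)
    (ExactPush.mapQ (extF (j.stalkMap y).hom) _ ≪≫ DerivedCategory.Q.mapIso (stalkPbIso j y F ≪≫
      (stC y).mapIso ((Perfect.Pullback.rCIso j).app F).symm))

/-- The fibre complex on local rings. -/
theorem bdd_fibre_stalk (f : X ⟶ S) (P : CochainComplex X.Modules ℤ) (s : S) (y : f.fiber s) (x : X)
    (hx : f.fiberι s y = x) {a b : ℤ}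
    (h : Bdd (flat _) a b (DerivedCategory.Q.obj ((stC y).obj ((pbC (f.fiberι s)).obj P)))) :
    ∃ π : X.presheaf.stalk x →+* (f.fiber s).presheaf.stalk y, Function.Surjective π ∧
      RingHom.ker π = (IsLocalRing.maximalIdeal (S.presheaf.stalk (f x))).map (f.stalkMap x).hom ∧
      Bdd (flat _) a b (DerivedCategory.Q.obj ((extC π).obj ((stC x).obj P))) := by
  subst hx
  exact ⟨((f.fiberι s).stalkMap y).hom, (f.fiberι s).stalkMap_surjective y,
    H46.FiberStalk.ker_stalkMap_fiberι f s y,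
    h.of_iso (DerivedCategory.Q.mapIso (stalkPbIso (f.fiberι s) y P).symm)⟩

variable (f : X ⟶ S) [Flat f] [LocallyOfFinitePresentation f]

theorem perfAt_of_fibre {R B : CommRingCat.{u}} (j : Spec B ⟶ X) [IsOpenImmersion j] (k : Spec R ⟶ S)
    [IsOpenImmersion k] (φ₀ : R ⟶ B) (w : j ≫ f = Spec.map φ₀ ≫ k)
    {K : DCoh.D X} {P : CochainComplex X.Modules ℤ} (eP : DCoh.toD X P ≅ K)
    (hP : DCoh.IsKFlat P) (hpc : ∀ m : ℤ, DCoh.IsPseudoCoherentD m K) {E : DRing.Cx B} {c : ℤ}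
    (hff : ∀ i, ff B (E.X i)) (hc : ∀ i, c < i → IsZero (E.X i))
    (eU : DerivedCategory.Q.obj ((rC j).obj P) ≅
      DerivedCategory.Q.obj (((tilde.functor B).mapHomologicalComplex (ComplexShape.up ℤ)).obj E))
    {a b b' : ℤ} (hamp : ∀ z : Spec B, DerSch.HasTorAmplitudeAt f a b P (j z)) (z : Spec B)
    (s : S) (y : f.fiber s) (hy : f.fiberι s y = j z)
    (hfib : Bdd (flat _) a b' (DerivedCategory.Q.obj ((stC y).obj ((pbC (f.fiberι s)).obj P)))) :
    Perfect.Triangle.PerfAt K (j z) := by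
  haveI : Flat (Spec.map φ₀ ≫ k) := w ▸ inferInstance
  haveI : LocallyOfFinitePresentation (Spec.map φ₀ ≫ k) := w ▸ inferInstance
  haveI : Flat (Spec.map φ₀) := MorphismProperty.of_postcomp (W := @Flat) (W' := @IsOpenImmersion) _ k ‹_› ‹_›
  haveI : LocallyOfFinitePresentation (Spec.map φ₀) :=
    MorphismProperty.of_postcomp (W := @LocallyOfFinitePresentation) (W' := @IsOpenImmersion) _ k ‹_› ‹_›
  letI := φ₀.hom.toAlgebra
  haveI : Module.Flat R B := (HasRingHomProperty.Spec_iff (P := @Flat)).1 ‹Flat (Spec.map φ₀)›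
  haveI : Algebra.FinitePresentation R B :=
    (HasRingHomProperty.Spec_iff (P := @LocallyOfFinitePresentation)).1 ‹_›
  have hg : ∀ z', DerSch.HasTorAmplitudeAt (Spec.map φ₀) a b ((rC j).obj P) z' := fun z' =>
    TorRestrict.torAmpAt_restrict f (Spec.map φ₀) j k w P z' (hamp z')
  let eK : DCoh.toD _ ((rC j).obj P) ≅ (RD j).obj K := (RDQ j P).symm ≪≫ (RD j).mapIso eP
  have hex : ∀ (z' : Spec B) i, i < a → ((stC z').obj ((rC j).obj P)).ExactAt i := fun z' i hi =>
    (exactAt_resC_iff ((Spec.map φ₀).stalkMap z').hom _ i).1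
      (exactAt_of_bdd ((torAmpAt_iff _ z' _ a b).1 (hg z')) i (Or.inl hi))
  haveI : ((rC j).obj P).IsGE a := (CochainComplex.isGE_iff _ a).2 fun i hi =>
    (Amplitude.exactAt_iff_stalk _ i).2 fun z' => hex z' i hi
  have hge : ((RD j).obj K).IsGE a :=
    isGE_of_iso' eK ((DerivedCategory.isGE_Q_obj_iff _ a).2 inferInstance)
  obtain ⟨σ, hloc, hcomap, hsq, ⟨eT⟩⟩ := FibTor.exists_stalk_model (Spec.map φ₀) (𝟙 (Spec B)) φ₀
    (Category.id_comp _) (P := (rC j).obj P)
    (E := E) (DerivedCategory.Q.mapIso ((rCId (Spec B)).app _) ≪≫ eU) z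
  let zz : Spec B := (𝟙 (Spec B) : Spec B ⟶ Spec B) z
  letI : Algebra B ((Spec B).presheaf.stalk zz) := σ.toAlgebra
  haveI : IsLocalization.AtPrime ((Spec B).presheaf.stalk zz) z.asIdeal := hloc
  letI : Algebra R ((Spec B).presheaf.stalk zz) := (σ.comp φ₀.hom).toAlgebra
  haveI : IsScalarTower R B ((Spec B).presheaf.stalk zz) := IsScalarTower.of_algebraMap_eq fun _ => rfl
  letI : Algebra R ((Spec R).presheaf.stalk (Spec.map φ₀ zz)) := StructureSheaf.stalkAlgebra R _
  haveI : IsLocalization.AtPrime ((Spec R).presheaf.stalk (Spec.map φ₀ zz))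
      (Ideal.comap (algebraMap R B) z.asIdeal) :=
    FibTor.atPrime_congr hcomap.symm (StructureSheaf.IsLocalization.to_stalk R _)
  obtain ⟨π, hπ, hker, hπb⟩ := bdd_fibre_stalk f P s y (j zz) hy hfib
  obtain ⟨ε, hε⟩ := RelTorFib.exists_base_iso f j k φ₀ w zz
  let t := (j.stalkMap zz).hom
  have ht : Function.Bijective t := ConcreteCategory.bijective_of_isIso (j.stalkMap zz)
  let π₁ : (Spec B).presheaf.stalk zz →+* (f.fiber s).presheaf.stalk y := π.comp (inv (j.stalkMap zz)).hom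
  have hπt : π₁.comp t = π := by
    rw [RingHom.comp_assoc, ← CommRingCat.hom_comp, IsIso.hom_inv_id, CommRingCat.hom_id, RingHom.comp_id]
  have hπ₁ : Function.Surjective π₁ :=
    hπ.comp (ConcreteCategory.bijective_of_isIso (inv (j.stalkMap zz))).2
  have hker₁ : RingHom.ker π₁ = (IsLocalRing.maximalIdeal _).map ((Spec.map φ₀).stalkMap zz).hom := by
    rw [RelTorFib.ker_comp_bijective t ht π₁ π hπt, hker, Ideal.map_map, ← CommRingCat.hom_comp, hε,
      CommRingCat.hom_comp, ← Ideal.map_map,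
      RelTorFib.map_maximalIdeal_of_bijective ε.hom.hom (ConcreteCategory.bijective_of_isIso ε.hom)]
  have hK : DRing.IsKFlat _ ((stC (j zz)).obj P) := (KFlatStalk.isKFlat_iff_stalk P).1 hP _
  have hK₁ : DRing.IsKFlat _ ((extC t).obj ((stC (j zz)).obj P)) := KFlatBaseChange.isKFlat_extendScalars t hK
  have hKE : DRing.IsKFlat _ ((extC σ).obj E) := DR.KFlat.isKFlat_of_flat _ c
    (fun i hi => (extF σ).map_isZero (hc i hi))
    fun i => BaseChange.ext_flat σ _ (BaseChange.flat_of_free _ (hff i).2)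
  obtain ⟨e₁⟩ := RelTorFib.nonempty_ext_iso π₁ hK₁ hKE
    (DerivedCategory.Q.mapIso (stalkPbIso j zz P ≪≫
      (stC zz).mapIso ((Perfect.Pullback.rCIso j).app P).symm) ≪≫ eT)
  obtain ⟨e₂⟩ := RelTorFib.ext_ext t π₁ π hπt ((stC (j zz)).obj P)
  have hb := RelTorPerfRing.bdd_of_fibre ((Spec.map φ₀).stalkMap zz).hom hsq.symm z E hff hc
    (Bdd.of_iso ((torAmpAt_iff _ zz _ a b).1 (hg zz))
      ((ExactPush.mapQ (resF ((Spec.map φ₀).stalkMap zz).hom) _).symm ≪≫
        (resF ((Spec.map φ₀).stalkMap zz).hom).mapDerivedCategory.mapIso eT ≪≫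
        ExactPush.mapQ (resF ((Spec.map φ₀).stalkMap zz).hom) _))
    π₁ hπ₁ hker₁ (hπb.of_iso (DerivedCategory.Q.mapIso e₂.symm ≪≫ e₁))
  refine Perfect.Triangle.PerfAt.of_restrict (j := j) (y := zz) rfl
    (Perfect.FlatPerfect.perfAt_of_stalk (a := a) (PCAt.restrict j zz ((iff_forall (a - 1) K).1 (hpc _) _)) hge ?_)
  intro U' j' _ y' hy'
  exact ⟨c, (bdd_stalk_restrict j' y' hy' ((rC j).obj P) (hb.of_iso eT.symm)).of_iso
    (sdIso y' _ ((RDQ j' _).symm ≪≫ (RD j').mapIso eK))⟩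

theorem isPerfect_iff [∀ s : S, DCoh.HasLpull (f.fiberι s)] (K : DCoh.D X) :
    DCoh.IsPerfect K ↔
      ((∀ m : ℤ, DCoh.IsPseudoCoherentD m K) ∧ DCoh.LocHasFiniteRelTorDim f K ∧
        ∀ s : S, DCoh.IsPerfect ((DCoh.Lpull (f.fiberι s)).obj K)) := by
  constructor
  · intro h
    obtain ⟨hpc, htor⟩ := (Perfect.FlatPerfect.isPerfect_iff_pc_tor K).1 h
    refine ⟨hpc, fun x => ?_, fun s => Perfect.Pullback.isPerfect_Lpull _ h⟩
    obtain ⟨V, a, b, hx, hV⟩ := htor x
    refine ⟨V, a, b, hx, fun F hF => ?_⟩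
    obtain ⟨G, hG, hGf, i⟩ := hV F hF
    exact ⟨G, hG, fun k => RelTor.isFlatOver_of_isFlat _ (hGf k), i⟩
  · rintro ⟨hpc, htor, hfib⟩
    let F := DerivedCategory.Q.objPreimage K
    let eF : DCoh.toD X F ≅ K := DerivedCategory.Q.objObjPreimageIso K
    let P := (DerivedOX.KFlat.res X).obj F
    haveI : QuasiIso ((DerivedOX.KFlat.aug X).app F) := DerivedOX.KFlat.quasiIso_aug F
    let eP : DCoh.toD X P ≅ K := asIso (DerivedCategory.Q.map ((DerivedOX.KFlat.aug X).app F)) ≪≫ eF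
    have hP : DCoh.IsKFlat P := DerivedOX.KFlat.isKFlat_res F
    have hPpc : ∀ (m : ℤ) (x : X), PCAt m (DerivedCategory.Q.obj P) x := fun m x =>
      ((iff_forall m K).1 (hpc m) x).of_iso eP.symm
    refine (Perfect.Triangle.isPerfect_iff K).2 fun x => ?_
    obtain ⟨V₁, a₁, b₁, hxV₁, hV₁⟩ := RelTor.locFiniteTorAmplitudeD_of_relTorDim f htor P ⟨eP⟩ x
    obtain ⟨W₀, hW₀, hxW₀, -⟩ := exists_isAffineOpen_mem_and_subset (X := S) (x := f x) (U := ⊤) trivial
    obtain ⟨U, hU, hxU, hle⟩ := exists_isAffineOpen_mem_and_subset (X := X) (x := x) (U := V₁ ⊓ f ⁻¹ᵁ W₀)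
      ⟨hxV₁, hxW₀⟩
    have hUW : U ≤ f ⁻¹ᵁ W₀ := fun y hy => (hle hy).2
    obtain ⟨c, E, hff, hc, ⟨eU⟩⟩ := FibTor.exists_free_model hPpc hU
    obtain ⟨z, hz⟩ : x ∈ Set.range hU.fromSpec := by rw [hU.range_fromSpec]; exact hxU
    obtain ⟨Wy, a₂, b₂, hyW, hWy⟩ :=
      ((Perfect.FlatPerfect.isPerfect_iff_pc_tor _).1 (hfib (f x))).2 (f.asFiber x)
    obtain ⟨eL⟩ := TorPull.nonempty_lpull_iso (f.fiberι (f x)) hP
    obtain ⟨G, hG, hGf, ⟨eG⟩⟩ := hWy _ ⟨eL.symm ≪≫ (DCoh.Lpull (f.fiberι (f x))).mapIso eP⟩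
    let L₀ := (pbC (f.fiberι (f x))).obj P
    have hres : Bdd (flat _) a₂ b₂ (DerivedCategory.Q.obj ((stC (⟨f.asFiber x, hyW⟩ : Wy)).obj
        ((rC Wy.ι).obj L₀))) :=
      (Perfect.FlatPerfect.bdd_stalk (X := (Wy : Scheme.{u}))
        (K := DerivedCategory.Q.obj ((DCoh.restrictCx Wy).obj L₀)) ⟨G, hG, hGf, ⟨eG⟩⟩ _).of_iso
          (sdIso _ _ (Iso.refl _)).symm
    have hfx : Bdd (flat _) a₂ b₂ (DerivedCategory.Q.obj ((stC (f.asFiber x)).obj L₀)) := by
      let y₀ : Wy := ⟨f.asFiber x, hyW⟩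
      let t := (Wy.ι.stalkMap y₀).hom
      have ht : Function.Bijective t := ConcreteCategory.bijective_of_isIso (Wy.ι.stalkMap y₀)
      let e := RingEquiv.ofBijective t ht
      let t' : (Wy : Scheme.{u}).presheaf.stalk y₀ →+* (f.fiber (f x)).presheaf.stalk (f.asFiber x) :=
        e.symm.toRingHom
      have htt : t'.comp t = RingHom.id ((f.fiber (f x)).presheaf.stalk (f.asFiber x)) := RingHom.ext fun v => e.symm_apply_apply v
      haveI : PreservesFiniteLimits (extF t') :=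
        ModuleCat.preservesFiniteLimits_extendScalars_of_flat (RingHom.Flat.of_bijective e.symm.bijective)
      haveI : PreservesFiniteColimits (extF t') :=
        haveI : PreservesColimitsOfSize.{0, 0} (extF t') :=
          (ModuleCat.extendRestrictScalarsAdj.{u} t').leftAdjoint_preservesColimits
        PreservesColimitsOfSize.preservesFiniteColimits _
      let T := (stC (f.asFiber x)).obj L₀
      obtain ⟨e₁⟩ := RelTorFib.ext_ext t t' (RingHom.id ((f.fiber (f x)).presheaf.stalk (f.asFiber x))) htt T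
      let e₂ : (extC (RingHom.id ((f.fiber (f x)).presheaf.stalk (f.asFiber x)))).obj T ≅ T :=
        (NatIso.mapHomologicalComplex (ModuleCat.extendScalarsId ((f.fiber (f x)).presheaf.stalk (f.asFiber x))) (ComplexShape.up ℤ)).app T ≪≫
          (Functor.mapHomologicalComplexIdIso _ _).app T
      exact Bdd.of_iso (ExactPush.bdd_map (extF t') (fun M hM => BaseChange.ext_flat _ M hM)
        (hres.of_iso (DerivedCategory.Q.mapIso (stalkPbIso Wy.ι y₀ L₀ ≪≫
          (stC y₀).mapIso ((Perfect.Pullback.rCIso Wy.ι).app L₀).symm).symm)))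
        (ExactPush.mapQ (extF t') _ ≪≫ DerivedCategory.Q.mapIso (e₁ ≪≫ e₂))
    rw [← hz]
    refine perfAt_of_fibre f hU.fromSpec hW₀.fromSpec (f.appLE W₀ U hUW)
      (IsAffineOpen.SpecMap_appLE_fromSpec f hW₀ hU hUW).symm eP hP hpc hff hc eU
      (a := min a₁ a₂) (b := b₁) (b' := b₂) (fun z' => ?_) z (f x) (f.asFiber x) ((f.fiberι_asFiber x).trans hz.symm)
      (hfx.mono (min_le_right _ _) le_rfl)
    have hz' : hU.fromSpec z' ∈ (U : Set X) := hU.range_fromSpec ▸ Set.mem_range_self z'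
    obtain ⟨T, hT, hTf, e⟩ := hV₁ _ (hle hz').1
    exact ⟨T, fun i hi => hT i (by omega), hTf, e⟩

end Groth.Agent.H56.RelPC.RelTorPerf
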