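import Groth.Agent.H56.RelPC.RelTorTri
import Groth.Agent.H56.RelPC.RelTorAffine
import Groth.Agent.Lib.DerivedOX.ProjectionPerfect
import Groth.Agent.Lib.DerivedOX.UnitTensor
import Groth.Agent.Lib.BettiExact.LTensorTri

/-!
Tensor products of relatively perfect objects with perfect objects.
-/

set_option autoImplicit false
set_option linter.style.haveILetI false

universe u

open CategoryTheory Limits Pretriangulated AlgebraicGeometry HomologicalComplex
open scoped ZeroObject

attribute [local instance] HasDerivedCategory.standard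

namespace Groth.Agent.H56.RelPC.RelTorTensor

open Groth.Agent.Lib Groth.Agent.Lib.DerivedOX Groth.Agent.Lib.BettiExact
open Groth.Agent.Lib.Perfect.Basic Groth.Agent.Lib.Perfect.PseudoCoh

/-- A property of objects of the derived category closed under the triangulated operations. -/
structure Closed {X : Scheme.{u}} (P : DCoh.D X → Prop) : Prop where
  zero : P 0
  shift : ∀ {K : DCoh.D X}, P K → ∀ n : ℤ, P (K⟦n⟧)
  ext₂ : ∀ T : Triangle (DCoh.D X), T ∈ distTriang (DCoh.D X) → P T.obj₁ → P T.obj₃ → P T.obj₂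
  retract : ∀ {K L : DCoh.D X}, Retract K L → P L → P K

variable {X : Scheme.{u}} {P : DCoh.D X → Prop}

theorem Closed.iso (hP : Closed P) {K L : DCoh.D X} (e : K ≅ L) (h : P K) : P L :=
  hP.retract ⟨e.inv, e.hom, e.inv_hom_id⟩ h

theorem Closed.of_isZero (hP : Closed P) {K : DCoh.D X} (h : IsZero K) : P K :=
  hP.iso ((isZero_zero _).iso h) hP.zero

/-- An object through which a finite sum of endomorphisms factors. -/
theorem Closed.exists_sum (hP : Closed P) {ι : Type} (s : Finset ι) (C : ι → DCoh.D X)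
    {Z : DCoh.D X} (a : ∀ i, C i ⟶ Z) (b : ∀ i, Z ⟶ C i) (h : ∀ i ∈ s, P (C i)) :
    ∃ (W : DCoh.D X) (i : Z ⟶ W) (r : W ⟶ Z), P W ∧ i ≫ r = ∑ j ∈ s, b j ≫ a j := by
  classical
  induction s using Finset.induction with
  | empty => exact ⟨0, 0, 0, hP.zero, by simp⟩
  | insert j s hj ih =>
    obtain ⟨W, i, r, hW, hir⟩ := ih fun k hk => h k (Finset.mem_insert_of_mem hk)
    refine ⟨C j ⊞ W, biprod.lift (b j) i, biprod.desc (a j) r, ?_, ?_⟩
    · exact hP.ext₂ _ (binaryBiproductTriangle_distinguished (C j) W)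
        (h j (Finset.mem_insert_self j s)) hW
    · rw [biprod.lift_desc, Finset.sum_insert hj, hir]

theorem tensor_free_single (hP : Closed P) (L : CochainComplex X.Modules ℤ)
    (hL : P (DerivedCategory.Q.obj L)) (n : ℕ) (m : ℤ) :
    P ((DCoh.tensorCxQ L).obj ((HomologicalComplex.single X.Modules (.up ℤ) m).obj
      (FlatMod.freeMod X n))) := by
  classical
  let Φ := HomologicalComplex.single X.Modules (ComplexShape.up ℤ) m ⋙ DCoh.tensorCxQ L
  have h1 : P (Φ.obj (Coh.structureModule X)) :=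
    hP.iso ((DerivedCategory.Q.mapIso (UnitTensor.unitShiftIso m L) ≪≫
      (DerivedCategory.Q.commShiftIso (-m)).app L).symm) (hP.shift hL (-m))
  let C := fun _ : Fin n => Coh.structureModule X
  have hab : ∑ i, Sigma.π C i ≫ Sigma.ι C i = 𝟙 (∐ C) := by
    refine Sigma.hom_ext _ _ fun j => ?_
    rw [Preadditive.comp_sum, Category.comp_id, Finset.sum_eq_single j]
    · exact (Category.assoc _ _ _).symm.trans
        ((congrArg (· ≫ Sigma.ι C j) (Sigma.ι_π_eq_id C j)).trans (Category.id_comp _))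
    · intro i _ hi
      exact (Category.assoc _ _ _).symm.trans
        ((congrArg (· ≫ Sigma.ι C i) (Sigma.ι_π_of_ne C (Ne.symm hi))).trans zero_comp)
    · exact fun h => (h (Finset.mem_univ j)).elim
  haveI : Φ.Additive := inferInstance
  obtain ⟨W, i, r, hW, hir⟩ := hP.exists_sum Finset.univ (fun j => Φ.obj (C j))
    (fun j => Φ.map (Sigma.ι C j)) (fun j => Φ.map (Sigma.π C j)) fun _ _ => h1
  refine hP.retract ⟨i, r, hir.trans ?_⟩ hW
  simp only [← Functor.map_comp, ← Functor.map_sum]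
  exact (congrArg Φ.map hab).trans (Φ.map_id _)

/-- A bounded complex of finite free modules tensored with an object satisfying `P` satisfies `P`. -/
theorem tensor_free (hP : Closed P) (L : CochainComplex X.Modules ℤ)
    (hL : P (DerivedCategory.Q.obj L)) (E : CochainComplex X.Modules ℤ) (a b : ℤ)
    (hv : ∀ i, i < a ∨ b < i → IsZero (E.X i))
    (hf : ∀ i, a ≤ i → i ≤ b → ∃ n, Nonempty (E.X i ≅ FlatMod.freeMod X n)) :
    P ((DCoh.tensorCxQ L).obj E) := by
  obtain ⟨w, hw⟩ : ∃ w : ℕ, b < a + w := ⟨(b - a).toNat + 1, by omega⟩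
  induction w generalizing E b with
  | zero =>
    refine hP.of_isZero ((DCoh.tensorCxQ L).map_isZero ((IsZero.iff_id_eq_zero _).2
      (HomologicalComplex.hom_ext _ _ fun i => (hv i (by omega)).eq_of_src _ _)))
  | succ w ih =>
    rcases lt_or_ge b a with hba | hab
    · exact ih E b hv hf (by omega)
    let S := Perfect.Stupid.trunc E b
    let ι : S ⟶ E := Perfect.Stupid.ι E b
    haveI : ∀ i, Mono (ι.f i) := fun i => inferInstanceAs (Mono (kernel.ι _))
    haveI : Mono ι := HomologicalComplex.mono_of_mono_f _ inferInstance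
    let T := ShortComplex.mk ι (cokernel.π ι) (cokernel.condition ι)
    have hT : T.ShortExact := ShortComplex.ShortExact.mk'
      (ShortComplex.exact_cokernel ι) inferInstance inferInstance
    have hTi : ∀ i, (T.map (HomologicalComplex.eval _ _ i)).ShortExact :=
      fun i => hT.map_of_exact _
    have hSz : ∀ i, i ≠ b → IsZero (S.X i) := fun i hi => by
      rcases lt_or_gt_of_ne hi with h | h
      · exact Perfect.Stupid.isZero_trunc E b i h
      · exact IsZero.of_mono (ι.f i) (hv i (Or.inr h))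
    have hC0 : ∀ i, b ≤ i → IsZero ((cokernel ι).X i) := fun i hi => by
      haveI := Perfect.Stupid.isIso_ι E b i hi
      exact (hTi i).isIso_f_iff.1 this
    have hC1 : ∀ i, i < b → IsIso ((cokernel.π ι).f i) := fun i hi =>
      (hTi i).isIso_g_iff.2 (hSz i (by omega))
    have hsplit : ∀ i, Nonempty (T.map (HomologicalComplex.eval _ _ i)).Splitting := fun i => by
      haveI := (hTi i).mono_f
      haveI := (hTi i).epi_g
      by_cases h : b ≤ i
      · haveI : IsIso (T.map (HomologicalComplex.eval _ _ i)).f := Perfect.Stupid.isIso_ι E b i h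
        exact ⟨ShortComplex.Splitting.ofExactOfRetraction _ (hTi i).exact (inv _) (IsIso.hom_inv_id _)
          inferInstance⟩
      · haveI : IsIso (T.map (HomologicalComplex.eval _ _ i)).g := hC1 i (by omega)
        exact ⟨ShortComplex.Splitting.ofExactOfSection _ (hTi i).exact (inv _) (IsIso.inv_hom_id _)
          inferInstance⟩
    have hCz : ∀ i, i < a ∨ b - 1 < i → IsZero ((cokernel ι).X i) := fun i hi => by
      by_cases h : b ≤ i
      · exact hC0 i h
      · exact (hv i (by omega)).of_iso (@asIso _ _ _ _ _ (hC1 i (by omega))).symm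
    have hC : P ((DCoh.tensorCxQ L).obj (cokernel ι)) :=
      ih (cokernel ι) (b - 1) hCz (fun i hia hib => by
        obtain ⟨n, ⟨e⟩⟩ := hf i hia (by omega)
        exact ⟨n, ⟨(@asIso _ _ _ _ _ (hC1 i (by omega))).symm ≪≫ e⟩⟩) (by omega)
    haveI : S.IsStrictlyLE b := (CochainComplex.isStrictlyLE_iff S b).2 fun i hi => hSz i (by omega)
    haveI : S.IsStrictlyGE b := (CochainComplex.isStrictlyGE_iff S b).2 fun i hi => hSz i (by omega)
    obtain ⟨M, ⟨e⟩⟩ := S.exists_iso_single b
    obtain ⟨n, ⟨eb⟩⟩ := hf b hab le_rfl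
    let eM : M ≅ FlatMod.freeMod X n :=
      (HomologicalComplex.singleObjXSelf (ComplexShape.up ℤ) b M).symm ≪≫
        (HomologicalComplex.eval _ (ComplexShape.up ℤ) b).mapIso e.symm ≪≫
        @asIso _ _ _ _ _ (Perfect.Stupid.isIso_ι E b b le_rfl) ≪≫ eb
    have hS : P ((DCoh.tensorCxQ L).obj S) :=
      hP.iso ((DCoh.tensorCxQ L).mapIso (e ≪≫ (HomologicalComplex.single _ _ b).mapIso eM)).symm
        (tensor_free_single hP L hL n b)
    have hT' := LocalTor.Split.shortExact_tensor T (fun i => (hsplit i).some) L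
    exact hP.ext₂ _ (DerivedCategory.triangleOfSES_distinguished hT') hS hC

section

variable {S : Scheme.{u}} (f : X ⟶ S) [Flat f]

theorem closed : Closed (RelTorTri.P f) where
  zero := RelTorTri.zero f
  shift := fun h n => RelTorTri.shift f h n
  ext₂ := RelTorTri.ext₂ f
  retract := fun r h => RelTorTri.of_retract f r h

theorem props_restrict {K : DCoh.D X} (h : RelTorTri.P f K) (U : X.Opens) :
    RelTorTri.P (U.ι ≫ f) ((RD U.ι).obj K) := by
  have hpc : ∀ m : ℤ, DCoh.IsPseudoCoherentD m ((RD U.ι).obj K) := fun m =>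
    (iff_forall m _).2 fun z => PCAt.restrict U.ι z ((iff_forall m K).1 (h.1 m) _)
  refine ⟨hpc, ?_⟩
  let F := DerivedCategory.Q.objPreimage K
  let eF : DCoh.toD X F ≅ K := DerivedCategory.Q.objObjPreimageIso K
  refine RelTor.relTorDim_of_locFiniteTorAmplitude _ hpc ((rC U.ι).obj F)
    ((RDQ U.ι F).symm ≪≫ (RD U.ι).mapIso eF) fun z => ?_
  obtain ⟨V, a, b, hV, hamp⟩ := RelTor.locFiniteTorAmplitudeD_of_relTorDim f h.2 F ⟨eF⟩ (U.ι z)
  exact ⟨U.ι ⁻¹ᵁ V, a, b, hV, fun z' hz' =>
    TorRestrict.torAmpAt_restrict f (U.ι ≫ f) U.ι (𝟙 S) (Category.comp_id _).symm F z' (hamp _ hz')⟩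

theorem props_glue {K : DCoh.D X}
    (h : ∀ x : X, ∃ U : X.Opens, x ∈ U ∧ RelTorTri.P (U.ι ≫ f) ((RD U.ι).obj K)) :
    RelTorTri.P f K := by
  have hpc : ∀ m : ℤ, DCoh.IsPseudoCoherentD m K := fun m => (iff_forall m K).2 fun x => by
    obtain ⟨U, hx, hU⟩ := h x
    exact PCAt.of_restrict (y := (⟨x, hx⟩ : U)) rfl ((iff_forall m _).1 (hU.1 m) _)
  refine ⟨hpc, ?_⟩
  let F := DerivedCategory.Q.objPreimage K
  let eF : DCoh.toD X F ≅ K := DerivedCategory.Q.objObjPreimageIso K
  refine RelTor.relTorDim_of_locFiniteTorAmplitude f hpc F eF fun x => ?_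
  obtain ⟨U, hx, hU⟩ := h x
  obtain ⟨V, a, b, hV, hamp⟩ := RelTor.locFiniteTorAmplitudeD_of_relTorDim _ hU.2 ((rC U.ι).obj F)
    ⟨(RDQ U.ι F).symm ≪≫ (RD U.ι).mapIso eF⟩ ⟨x, hx⟩
  refine ⟨⟨U.ι '' V, U.ι.isOpenEmbedding.isOpenMap _ V.2⟩, a, b, ⟨⟨x, hx⟩, hV, rfl⟩, ?_⟩
  rintro _ ⟨z', hz', rfl⟩
  exact RelTor.torAmpAt_of_restrict f U F z' (hamp z' hz')

/-- Derived tensor product with a perfect object preserves relative perfection. -/
theorem props_LTensor {K : DCoh.D X} (hK : DCoh.IsPerfect K) (M : CochainComplex X.Modules ℤ)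
    [DCoh.HasLTensorCx M] (hM : RelTorTri.P f (DerivedCategory.Q.obj M)) :
    RelTorTri.P f ((DCoh.LTensorCx M).obj K) := by
  refine props_glue f fun x => ?_
  obtain ⟨U, E, a, b, hx, hv, hf, ⟨eE⟩⟩ := ProjectionPerfect.exists_free hK x
  obtain ⟨F', ⟨eF'⟩, hres⟩ := ProjectionLocal.exists_restrict_LTensor U.ι M
  haveI := LeftExists.hasLTensorCx F'
  obtain ⟨e⟩ := hres inferInstance K
  haveI : QuasiIso ((KFlat.aug _).app F') := KFlat.quasiIso_aug F'
  obtain ⟨θ⟩ := LTensorTri.nonempty_iso_tensorCxQ F' ((KFlat.aug _).app F')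
    (KFlat.isKFlat_res F')
  have hC := closed (U.ι ≫ f)
  refine ⟨U, hx, hC.iso ((θ.app E).symm ≪≫ (DCoh.LTensorCx F').mapIso eE.symm ≪≫ e.symm)
    (tensor_free hC _ ?_ E a b hv hf)⟩
  exact hC.iso (eF'.symm ≪≫ (asIso (DerivedCategory.Q.map ((KFlat.aug _).app F'))).symm)
    (props_restrict f hM U)

end

end Groth.Agent.H56.RelPC.RelTorTensor
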