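import Groth.Agent.H56.RelPC.RelTor
import Groth.Agent.Lib.Perfect.PseudoCoh

/-!
The perfect complexes relative to a base scheme form a saturated triangulated subcategory.
-/

set_option autoImplicit false
set_option linter.style.haveILetI false

universe u

open CategoryTheory Limits Pretriangulated AlgebraicGeometry
open scoped ZeroObject

attribute [local instance] HasDerivedCategory.standard

namespace Groth.Agent.H56.RelPC.RelTorTri

open Groth.Agent.Lib Groth.Agent.Lib.DerivedOX Groth.Agent.Lib.Modules.StalkModule KFlatBaseChange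
open Groth.Agent.Lib.BettiExact TorTensor TorPull
open Groth.Agent.Lib.DR Groth.Agent.Lib.DR.Basic Groth.Agent.Lib.DR.FiniteComplex
  Groth.Agent.Lib.DR.PseudoCoherent Groth.Agent.Lib.DR.BaseChange
open Groth.Agent.Lib.Perfect.Basic Groth.Agent.Lib.Perfect.PseudoCoh

variable {X S : Scheme.{u}} (f : X ⟶ S)

/-- The derived stalk over the local ring of the base. -/
noncomputable abbrev SO (x : X) : DCoh.D X ⥤ Dual.D (S.presheaf.stalk (f x)) :=
  Perfect.FlatPerfect.SD x ⋙ DRing.restrictD (f.stalkMap x).hom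

theorem torAmpAt_iff_bdd (x : X) {F : CochainComplex X.Modules ℤ} {K : DCoh.D X} (e : DCoh.toD X F ≅ K)
    (a b : ℤ) : DerSch.HasTorAmplitudeAt f a b F x ↔ Bdd (flat _) a b ((SO f x).obj K) := by
  haveI : PreservesFiniteColimits (stalkModFunctor X x) :=
    PreservesColimitsOfSize.preservesFiniteColimits _
  let i : DerivedCategory.Q.obj ((resC (f.stalkMap x).hom).obj ((stC x).obj F)) ≅ (SO f x).obj K :=
    (ExactPush.mapQ (resF (f.stalkMap x).hom) _).symm ≪≫
      (DRing.restrictD (f.stalkMap x).hom).mapIso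
        ((ExactPush.mapQ (stalkModFunctor X x) F).symm ≪≫ (Perfect.FlatPerfect.SD x).mapIso e)
  rw [torAmpAt_iff]
  exact ⟨fun h => h.of_iso i, fun h => h.of_iso i.symm⟩

/-- The object-wise local condition. -/
def Loc (K : DCoh.D X) : Prop :=
  ∀ x : X, ∃ (V : X.Opens) (a b : ℤ), x ∈ V ∧ ∀ x' ∈ V, Bdd (flat _) a b ((SO f x').obj K)

theorem iff_loc [Flat f] {K : DCoh.D X} (hpc : ∀ m : ℤ, DCoh.IsPseudoCoherentD m K) :
    DCoh.LocHasFiniteRelTorDim f K ↔ Loc f K := by
  constructor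
  · intro h x
    let e := DerivedCategory.Q.objObjPreimageIso K
    obtain ⟨V, a, b, hx, hV⟩ := RelTor.locFiniteTorAmplitudeD_of_relTorDim f h _ ⟨e⟩ x
    exact ⟨V, a, b, hx, fun x' hx' => (torAmpAt_iff_bdd f x' e a b).1 (hV x' hx')⟩
  · intro h
    let e := DerivedCategory.Q.objObjPreimageIso K
    refine RelTor.relTorDim_of_locFiniteTorAmplitude f hpc _ e fun x => ?_
    obtain ⟨V, a, b, hx, hV⟩ := h x
    exact ⟨V, a, b, hx, fun x' hx' => (torAmpAt_iff_bdd f x' e a b).2 (hV x' hx')⟩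

/-- Relatively perfect objects. -/
def P (E : DCoh.D X) : Prop :=
  (∀ m : ℤ, DCoh.IsPseudoCoherentD m E) ∧ DCoh.LocHasFiniteRelTorDim f E

variable [Flat f]

theorem P_iff (E : DCoh.D X) : P f E ↔ (∀ m x, PCAt m E x) ∧ Loc f E := by
  constructor
  · exact fun h => ⟨fun m => (iff_forall m E).1 (h.1 m), (iff_loc f h.1).1 h.2⟩
  · intro h
    have hp : ∀ m : ℤ, DCoh.IsPseudoCoherentD m E := fun m => (iff_forall m E).2 (h.1 m)
    exact ⟨hp, (iff_loc f hp).2 h.2⟩

theorem zero : P f (0 : DCoh.D X) := by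
  refine (P_iff f _).2 ⟨fun m x => pcAt_of_vanish
    (fun i _ => (DerivedCategory.homologyFunctor X.Modules i).map_isZero (isZero_zero _)) x,
    fun x => ⟨⊤, 0, 0, trivial, fun x' _ => ⟨0, fun i _ => (HomologicalComplex.eval _ _ i).map_isZero (isZero_zero _),
      fun i => good_flat.zero ((HomologicalComplex.eval _ _ i).map_isZero (isZero_zero _)),
      ⟨(DerivedCategory.Q.map_isZero (isZero_zero _)).iso ((SO f x').map_isZero (isZero_zero _))⟩⟩⟩⟩

theorem shift {E : DCoh.D X} (h : P f E) (n : ℤ) : P f (E⟦n⟧) := by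
  rw [P_iff] at h ⊢
  refine ⟨fun m x => (h.1 (n + m) x).shift n m rfl, fun x => ?_⟩
  obtain ⟨V, a, b, hx, hV⟩ := h.2 x
  exact ⟨V, a - n, b - n, hx, fun x' hx' =>
    ((hV x' hx').shift good_flat n (a - n) (b - n) (by omega) (by omega)).of_iso
      (((SO f x').commShiftIso n).app E).symm⟩

theorem ext₂ (T : Triangle (DCoh.D X)) (hT : T ∈ distTriang _) (h₁ : P f T.obj₁) (h₃ : P f T.obj₃) :
    P f T.obj₂ := by
  rw [P_iff] at h₁ h₃ ⊢
  refine ⟨fun m x => pcAt₂ hT (h₁.1 m x) (h₃.1 m x), fun x => ?_⟩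
  obtain ⟨V, a, b, hx, hV⟩ := h₁.2 x
  obtain ⟨V', a', b', hx', hV'⟩ := h₃.2 x
  exact ⟨V ⊓ V', min a a', max b b', ⟨hx, hx'⟩, fun y hy =>
    TorAmp.bdd_flat_ext _ ((SO f y).map_distinguished _ hT)
      ((hV y hy.1).mono (min_le_left _ _) (le_max_left _ _))
      ((hV' y hy.2).mono (min_le_right _ _) (le_max_right _ _))⟩

theorem of_retract {E G : DCoh.D X} (r : Retract E G) (h : P f G) : P f E := by
  rw [P_iff] at h ⊢
  refine ⟨fun m x => ?_, fun x => ?_⟩
  · obtain ⟨Z, v, w, hT⟩ := distinguished_cocone_triangle r.i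
    have hw : w = 0 := by
      have h0 := comp_distTriang_mor_zero₃₁ _ hT
      haveI : Mono (r.i⟦(1 : ℤ)⟧') := SplitMono.mono ⟨r.r⟦(1 : ℤ)⟧', by
        rw [← Functor.map_comp, r.retract]; exact (shiftFunctor (DCoh.D X) (1 : ℤ)).map_id _⟩
      exact (cancel_mono (r.i⟦(1 : ℤ)⟧')).1 (h0.trans zero_comp.symm)
    obtain ⟨e, -⟩ := exists_iso_binaryBiproduct_of_distTriang _ hT hw
    exact pcAt_of_biprod E Z (fun y => (h.1 m y).of_iso e) x
  · obtain ⟨V, a, b, hx, hV⟩ := h.2 x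
    exact ⟨V, a, b, hx, fun x' hx' => TorAmp.bdd_flat_retract (r.map (SO f x')) (hV x' hx')⟩

theorem isTriangulated : ObjectProperty.IsTriangulated (P f) :=
  { exists_zero := ⟨0, isZero_zero _, zero f⟩
    isStableUnderShiftBy := fun n => ⟨fun _ hK => shift f hK n⟩
    ext₂' := fun T hT h₁ h₃ => ObjectProperty.le_isoClosure _ _ (ext₂ f T hT h₁ h₃) }

end Groth.Agent.H56.RelPC.RelTorTri
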