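import Groth.Agent.H56.RelPC.Principal
import Mathlib.RingTheory.Localization.Away.AdjoinRoot
import Mathlib.RingTheory.Polynomial.Basic
import Mathlib.Algebra.MvPolynomial.Equiv

/-!
Surjective ring maps whose closed immersion has pseudo-coherent structure module.
-/

set_option autoImplicit false
set_option linter.style.haveILetI false

universe v u

open CategoryTheory Limits AlgebraicGeometry TopologicalSpace

namespace Groth.Agent.H56.RelPC

open Groth.Agent.Lib Groth.Agent.Lib.Perfect.Basic Groth.Agent.Lib.Perfect.PseudoCoh

attribute [local instance] HasDerivedCategory.standard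

variable {A B C : Type u} [CommRing A] [CommRing B] [CommRing C]

/-- A surjection with pseudo-coherent quotient. -/
structure PCRing (π : A →+* B) : Prop where
  surjective : Function.Surjective π
  pcStr : PCStr (Spec.map (CommRingCat.ofHom π))

theorem PCRing.comp {π₂ : B →+* C} {π₁ : A →+* B} (h₂ : PCRing π₂) (h₁ : PCRing π₁) :
    PCRing (π₂.comp π₁) := by
  haveI : IsClosedImmersion (Spec.map (CommRingCat.ofHom π₁)) :=
    IsClosedImmersion.spec_of_surjective _ h₁.surjective
  exact ⟨h₂.surjective.comp h₁.surjective, (h₂.pcStr.comp h₁.pcStr).of_eq (Spec.map_comp _ _).symm⟩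

theorem PCRing.of_bijective {π : A →+* B} (h : Function.Bijective π) : PCRing π := by
  haveI : IsIso (CommRingCat.ofHom π) := (ConcreteCategory.isIso_iff_bijective _).2 h
  exact ⟨h.2, pcStr_of_isIso _⟩

theorem PCRing.equiv (e : A ≃+* B) : PCRing (e : A →+* B) := .of_bijective e.bijective

theorem PCRing.comp_equiv {π : B →+* C} (h : PCRing π) (e : A ≃+* B) :
    PCRing (π.comp (e : A →+* B)) :=
  h.comp (.equiv e)

theorem PCRing.equiv_comp {π : A →+* B} (h : PCRing π) (e : B ≃+* C) :
    PCRing ((e : B →+* C).comp π) :=
  (PCRing.equiv e).comp h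

open Polynomial in
/-- Evaluation of a polynomial ring in one variable. -/
theorem pcRing_evalRingHom (a : A) : PCRing (Polynomial.evalRingHom a) :=
  have hs : Function.Surjective (Polynomial.evalRingHom a) := fun b => ⟨Polynomial.C b, Polynomial.eval_C⟩
  ⟨hs, pcStr_of_principal _ hs (X - Polynomial.C a) (Polynomial.ker_evalRingHom a)
    fun _ h => (monic_X_sub_C a).mul_right_eq_zero_iff.1 h⟩

/-- Evaluation of a polynomial ring in finitely many variables. -/
theorem pcRing_eval {σ : Type v} [Finite σ] (A : Type (max v u)) [CommRing A] (a : σ → A) :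
    PCRing (MvPolynomial.eval a) := by
  revert A
  apply Finite.induction_empty_option (P := fun σ : Type v =>
    ∀ (A : Type (max v u)) [CommRing A] (a : σ → A), PCRing (MvPolynomial.eval a))
  · intro α β e h A _ a
    convert (h A (a ∘ e)).comp_equiv (MvPolynomial.renameEquiv A e.symm).toRingEquiv using 1
    refine MvPolynomial.ringHom_ext (fun r => ?_) fun i => ?_ <;> simp
  · intro A _ a
    convert PCRing.equiv (MvPolynomial.isEmptyRingEquiv A PEmpty.{v + 1}) using 1
    refine MvPolynomial.ringHom_ext (fun r => ?_) fun i => i.elim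
    rw [MvPolynomial.eval_C, ← MvPolynomial.isEmptyRingEquiv_symm_apply A PEmpty.{v + 1} r]
    exact ((MvPolynomial.isEmptyRingEquiv A PEmpty.{v + 1}).apply_symm_apply r).symm
  · intro α _ h A _ a
    convert ((h A (a ∘ some)).comp
      ((pcRing_evalRingHom (MvPolynomial.C (a none) : MvPolynomial α A)).comp_equiv
        (MvPolynomial.optionEquivLeft A α).toRingEquiv)) using 1
    refine MvPolynomial.ringHom_ext (fun r => ?_) fun i => ?_
    · simp
    · cases i <;> simp

open Polynomial in
/-- The presentation of a localization away from one element. -/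
theorem pcRing_away (r : A) [Algebra A B] [IsLocalization.Away r B] :
    PCRing (A := Polynomial A) (B := B) (Polynomial.aeval (IsLocalization.Away.invSelf r : B)).toRingHom := by
  let e : AdjoinRoot (Polynomial.C r * Polynomial.X - 1) ≃ₐ[A] B :=
    (Localization.awayEquivAdjoin r).symm.trans (IsLocalization.algEquiv (Submonoid.powers r) _ _)
  have hroot : e (AdjoinRoot.root (Polynomial.C r * Polynomial.X - 1)) = IsLocalization.Away.invSelf r := by
    have h1 := congrArg e (AdjoinRoot.isRoot_root (Polynomial.C r * Polynomial.X - 1))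
    simp only [Polynomial.map_sub, Polynomial.map_mul, Polynomial.map_C, Polynomial.map_X,
      Polynomial.map_one, Polynomial.IsRoot.def, Polynomial.eval_sub, Polynomial.eval_mul,
      Polynomial.eval_C, Polynomial.eval_X, Polynomial.eval_one, map_sub, map_mul, map_one, map_zero,
      sub_eq_zero] at h1
    rw [← AdjoinRoot.algebraMap_eq, e.commutes] at h1
    have h2 : algebraMap A B r * IsLocalization.Away.invSelf r = 1 :=
      IsLocalization.Away.mul_invSelf r
    exact (IsLocalization.Away.algebraMap_isUnit (S := B) r).mul_left_cancel (h1.trans h2.symm)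
  have he : (e.toRingEquiv : _ →+* B).comp (AdjoinRoot.mk (Polynomial.C r * Polynomial.X - 1)) =
      (Polynomial.aeval (IsLocalization.Away.invSelf r : B)).toRingHom := by
    refine Polynomial.ringHom_ext (fun a => ?_) ?_
    · simp [AdjoinRoot.mk_C, ← AdjoinRoot.algebraMap_eq]
    · simp [AdjoinRoot.mk_X, hroot]
  rw [← he]
  refine PCRing.equiv_comp ⟨AdjoinRoot.mk_surjective, pcStr_of_principal _ AdjoinRoot.mk_surjective _
    (Ideal.ext fun x => by rw [RingHom.mem_ker, AdjoinRoot.mk_eq_zero, Ideal.mem_span_singleton]) ?_⟩ _
  intro q hq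
  refine Polynomial.ext fun k => ?_
  rw [sub_mul, one_mul, mul_assoc, sub_eq_zero] at hq
  induction k with
  | zero => simpa using (congrArg (fun p => Polynomial.coeff p 0) hq).symm
  | succ k ih =>
    have := congrArg (fun p => Polynomial.coeff p (k + 1)) hq
    simp [Polynomial.coeff_C_mul, ih] at this
    simpa using this.symm

/-- Setting the second block of variables equal to polynomials in the first. -/
theorem pcRing_graph {ι : Type} {κ : Type} [Finite κ] (q : κ → MvPolynomial ι A) :
    PCRing (MvPolynomial.eval₂Hom (MvPolynomial.C : A →+* MvPolynomial ι A)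
      (Sum.elim MvPolynomial.X q)) := by
  convert (pcRing_eval.{0, u} (MvPolynomial ι A) q).comp_equiv
    ((MvPolynomial.renameEquiv A (Equiv.sumComm ι κ)).toRingEquiv.trans
      (MvPolynomial.sumRingEquiv A κ ι)) using 1
  refine MvPolynomial.ringHom_ext (fun r => ?_) fun i => ?_
  · simp
  · cases i <;> simp

end Groth.Agent.H56.RelPC
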