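import Groth.Agent.H56.RelPC.RelTensor
import Groth.Agent.H56.RelPC.FlatDesc
import Groth.Agent.Lib.SourceDescent.Ring
import Groth.Agent.H54.RelLoc
import Groth.Agent.H54.RelPCApp

/-!
Descent of relative pseudo-coherence along flat extensions: polynomial, finite and etale steps.
-/

set_option autoImplicit false
set_option linter.style.haveILetI false

universe u

open CategoryTheory CategoryTheory.Limits CategoryTheory.Pretriangulated
open Groth.Agent.Lib.DR
open Groth.Agent.Lib.DR.Basic Groth.Agent.Lib.DR.FiniteComplex Groth.Agent.Lib.DR.PseudoCoherent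
open Groth.Agent.H54.PCRestrict
open scoped TensorProduct

attribute [local instance] HasDerivedCategory.standard

namespace Groth.Agent.H56.RelPC

/-- A retract of an `m`-pseudo-coherent object is `m`-pseudo-coherent. -/
theorem pcn_of_retract {A : Type u} [CommRing A] {X Y : Dual.D A} (i : X ⟶ Y) (r : Y ⟶ X)
    (h : i ≫ r = 𝟙 X) {m : ℤ} (hY : PCn (ff A) m Y) : PCn (ff A) m X := by
  obtain ⟨Z, g, δ, hd⟩ := distinguished_cocone_triangle i
  haveI : IsSplitMono i := ⟨⟨⟨r, h⟩⟩⟩
  obtain ⟨e, -, -⟩ := exists_iso_binaryBiproduct_of_distTriang _ hd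
    (Triangle.mor₃_eq_zero_of_mono₁ _ hd (inferInstanceAs (Mono i)))
  exact (PCn.biprod_summands good_ff projective_of_ff (hY.of_iso e)).1

/-- A retract of an object pseudo-coherent relative to a ring. -/
theorem rel_of_retract {R A : Type u} [CommRing R] [CommRing A] [Algebra R A] [Algebra.FiniteType R A]
    {X Y : Dual.D A} (i : X ⟶ Y) (r : Y ⟶ X) (h : i ≫ r = 𝟙 X) {m : ℤ}
    (hY : DerCA.IsRelPseudoCoherent R A m Y) : DerCA.IsRelPseudoCoherent R A m X := by
  obtain ⟨n, α, hα⟩ := H54.RelPCApp.exists_pres ‹Algebra.FiniteType R A›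
  exact (H54.RelPC.rel_iff α hα m X).2 (pcn_of_retract ((DRing.restrictD α.toRingHom).map i)
    ((DRing.restrictD α.toRingHom).map r) (by rw [← Functor.map_comp, h, CategoryTheory.Functor.map_id])
    ((H54.RelPC.rel_iff α hα m Y).1 hY))

set_option backward.isDefEq.respectTransparency.types false in
/-- Change of the first functor in a tensor product. -/
theorem nonempty_pushout_iso {Q₀ Q A P : Type u} [CommRing Q₀] [CommRing Q] [CommRing A] [CommRing P]
    [Algebra Q₀ Q] [Algebra Q₀ A] [Algebra Q₀ P] [Algebra A P] [Algebra Q P] [IsScalarTower Q₀ A P]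
    [IsScalarTower Q₀ Q P] [Algebra.IsPushout Q₀ Q A P] :
    Nonempty (res (algebraMap Q₀ A) ⋙ ModuleCat.extendScalars.{u, u, u} (algebraMap Q₀ Q) ≅
      tens (A := A) (P := P) P ⋙ res (algebraMap Q P)) :=
  ⟨NatIso.ofComponents (fun M =>
    letI : Module Q₀ M := Module.compHom M (algebraMap Q₀ A)
    haveI : IsScalarTower Q₀ A M := IsScalarTower.of_algebraMap_smul fun r x => rfl
    ((FlatBC.extEquiv Q₀ Q M).trans
      ((Algebra.IsPushout.cancelBaseChange Q₀ Q A P M).symm.trans
        (AddEquiv.toLinearEquiv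
          (M₂ := ((res (algebraMap Q P)).obj ((tens (A := A) (P := P) P).obj M) : Type u))
          (AddEquiv.refl (P ⊗[A] M)) fun q x => algebra_compatible_smul P q x))).toModuleIso)
    fun {M M'} f => by
      letI : Module Q₀ M := Module.compHom M (algebraMap Q₀ A)
      letI : Module Q₀ M' := Module.compHom M' (algebraMap Q₀ A)
      refine ModuleCat.hom_ext (LinearMap.ext fun t => ?_)
      induction t using TensorProduct.induction_on with
      | zero =>
        repeat erw [map_zero]
        all_goals rfl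
      | add a b ha hb =>
        exact ((map_add _ a b).trans (congrArg₂ (· + ·) ha hb)).trans (map_add _ a b).symm
      | tmul q x => rfl⟩

section

variable {A P : Type u} [CommRing A] [CommRing P] [Algebra A P]

/-- Extension of scalars is tensoring with the algebra. -/
theorem nonempty_tens_self [Module.Flat A P] (X : Dual.D A) :
    haveI := FlatBC.preservesFiniteLimits (A := A) (B := P)
    haveI := FlatBC.preservesFiniteColimits (A := A) (B := P)
    Nonempty ((tens (A := A) (P := P) P).mapDerivedCategory.obj X ≅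
      (ModuleCat.extendScalars.{u, u, u} (algebraMap A P)).mapDerivedCategory.obj X) := by
  haveI := FlatBC.preservesFiniteLimits (A := A) (B := P)
  haveI := FlatBC.preservesFiniteColimits (A := A) (B := P)
  obtain ⟨ν⟩ := nonempty_extend_iso (A := A) (P := P) (B := P)
  let E := ModuleCat.extendScalars.{u, u, u} (algebraMap A P)
  let ν' : tens (A := A) (P := P) P ≅ E :=
    ν.symm ≪≫ Functor.isoWhiskerLeft E (ModuleCat.restrictScalarsId'.{u} (algebraMap P P) rfl) ≪≫
      E.rightUnitor
  let i := DerivedCategory.Q.objObjPreimageIso X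
  exact ⟨(tens (A := A) (P := P) P).mapDerivedCategory.mapIso i.symm ≪≫
    ExactPush.mapQ (tens (A := A) (P := P) P) _ ≪≫
    DerivedCategory.Q.mapIso ((NatIso.mapHomologicalComplex ν' _).app _) ≪≫
    (ExactPush.mapQ E _).symm ≪≫ E.mapDerivedCategory.mapIso i⟩

/-- Restriction of an extension is tensoring. -/
theorem nonempty_tens_res {B : Type u} [CommRing B] [Algebra A B] [Algebra P B] [IsScalarTower A P B]
    [Module.Flat A B] (X : Dual.D A) :
    haveI := FlatBC.preservesFiniteLimits (A := A) (B := B)
    haveI := FlatBC.preservesFiniteColimits (A := A) (B := B)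
    Nonempty ((tens (A := A) (P := P) B).mapDerivedCategory.obj X ≅
      (DRing.restrictD (algebraMap P B)).obj
        ((ModuleCat.extendScalars.{u, u, u} (algebraMap A B)).mapDerivedCategory.obj X)) := by
  haveI := FlatBC.preservesFiniteLimits (A := A) (B := B)
  haveI := FlatBC.preservesFiniteColimits (A := A) (B := B)
  obtain ⟨ν⟩ := nonempty_extend_iso (A := A) (P := P) (B := B)
  let E := ModuleCat.extendScalars.{u, u, u} (algebraMap A B)
  let i := DerivedCategory.Q.objObjPreimageIso X
  let C := DerivedCategory.Q.objPreimage X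
  exact ⟨(tens (A := A) (P := P) B).mapDerivedCategory.mapIso i.symm ≪≫
    ExactPush.mapQ (tens (A := A) (P := P) B) C ≪≫
    DerivedCategory.Q.mapIso ((NatIso.mapHomologicalComplex ν.symm _).app C) ≪≫
    (ExactPush.mapQ (res (algebraMap P B)) ((E.mapHomologicalComplex (ComplexShape.up ℤ)).obj C)).symm ≪≫
    (DRing.restrictD (algebraMap P B)).mapIso ((ExactPush.mapQ E C).symm ≪≫ E.mapDerivedCategory.mapIso i)⟩

/-- A retract of modules gives a retract of tensor products. -/
theorem exists_tens_retract {N N' : Type u} [AddCommGroup N] [Module P N] [Module A N]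
    [IsScalarTower A P N] [Module.Flat A N] [AddCommGroup N'] [Module P N'] [Module A N']
    [IsScalarTower A P N'] [Module.Flat A N'] (i : N →ₗ[P] N') (r : N' →ₗ[P] N)
    (h : ∀ x, r (i x) = x) (X : Dual.D A) :
    ∃ (a : (tens (A := A) (P := P) N).mapDerivedCategory.obj X ⟶ (tens (A := A) (P := P) N').mapDerivedCategory.obj X)
      (b : (tens (A := A) (P := P) N').mapDerivedCategory.obj X ⟶ (tens (A := A) (P := P) N).mapDerivedCategory.obj X),
      a ≫ b = 𝟙 _ := by
  let C := DerivedCategory.Q.objPreimage X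
  let e := DerivedCategory.Q.objObjPreimageIso X
  let u := (NatTrans.mapHomologicalComplex (tensMap (A := A) i) (ComplexShape.up ℤ)).app C
  let v := (NatTrans.mapHomologicalComplex (tensMap (A := A) r) (ComplexShape.up ℤ)).app C
  have huv : u ≫ v = 𝟙 _ := by
    refine HomologicalComplex.hom_ext _ _ fun k => tens_hom_ext _ fun n x => ?_
    show (r (i n)) ⊗ₜ[A] x = n ⊗ₜ[A] x
    rw [h]
  let I := (tens (A := A) (P := P) N).mapDerivedCategory.mapIso e.symm ≪≫
    ExactPush.mapQ (tens (A := A) (P := P) N) C
  let I' := (tens (A := A) (P := P) N').mapDerivedCategory.mapIso e.symm ≪≫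
    ExactPush.mapQ (tens (A := A) (P := P) N') C
  refine ⟨I.hom ≫ DerivedCategory.Q.map u ≫ I'.inv, I'.hom ≫ DerivedCategory.Q.map v ≫ I.inv, ?_⟩
  simp only [Category.assoc, Iso.inv_hom_id_assoc]
  rw [← Functor.map_comp_assoc, huv, CategoryTheory.Functor.map_id, Category.id_comp, Iso.hom_inv_id]

end

section

variable {R A : Type u} [CommRing R] [CommRing A] [Algebra R A]

/-- Descent along a finite flat extension. -/
theorem rel_of_finite {C D : Type u} [CommRing C] [CommRing D] [Algebra A C] [Algebra A D]
    [Algebra C D] [IsScalarTower A C D] [Algebra R C] [Algebra R D] [IsScalarTower R C D]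
    [Algebra.FiniteType R C] [Algebra.FiniteType R D] [Module.Flat A C] [Module.Flat A D]
    [Module.Finite C D] [Algebra.FinitePresentation C D] [Module.FaithfullyFlat C D] {m : ℤ}
    {K : Dual.D A}
    (h : haveI := FlatBC.preservesFiniteLimits (A := A) (B := D)
      haveI := FlatBC.preservesFiniteColimits (A := A) (B := D)
      DerCA.IsRelPseudoCoherent R D m
      ((ModuleCat.extendScalars.{u, u, u} (algebraMap A D)).mapDerivedCategory.obj K)) :
    haveI := FlatBC.preservesFiniteLimits (A := A) (B := C)
    haveI := FlatBC.preservesFiniteColimits (A := A) (B := C)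
    DerCA.IsRelPseudoCoherent R C m
      ((ModuleCat.extendScalars.{u, u, u} (algebraMap A C)).mapDerivedCategory.obj K) := by
  haveI := FlatBC.preservesFiniteLimits (A := A) (B := D)
  haveI := FlatBC.preservesFiniteColimits (A := A) (B := D)
  haveI : Module.FinitePresentation C D :=
    Module.FinitePresentation.of_finite_of_finitePresentation _ _
  haveI : Module.Projective C D := Module.Flat.projective_of_finitePresentation
  obtain ⟨φ, hφ⟩ : ∃ φ : D →ₗ[C] C, φ 1 = 1 := by
    let J : Ideal C := LinearMap.range (LinearMap.applyₗ (1 : D) : (D →ₗ[C] C) →ₗ[C] C)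
    suffices hJ : J = ⊤ from (hJ ▸ Submodule.mem_top : (1 : C) ∈ J)
    by_contra hJ
    obtain ⟨M, hM, hJM⟩ := J.exists_le_maximal hJ
    obtain ⟨s, hs⟩ := (Module.projective_def (R := C) (P := D)).1 inferInstance
    refine Module.FaithfullyFlat.submodule_ne_top (M := D) hM ((Ideal.smul_top_eq_map M).trans ?_)
    have h1 : (1 : D) ∈ M.map (algebraMap C D) := by
      rw [← hs 1, Finsupp.linearCombination_apply]
      refine Submodule.sum_mem _ fun x _ => ?_
      show (s 1 x) • x ∈ _
      rw [Algebra.smul_def]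
      exact Ideal.mul_mem_right _ _ (Ideal.mem_map_of_mem _
        (hJM ⟨(Finsupp.lapply x).comp s, rfl⟩))
    rw [(Ideal.eq_top_iff_one _).2 h1]
    rfl
  obtain ⟨e₁⟩ := nonempty_tens_self (A := A) (P := C) K
  obtain ⟨e₂⟩ := nonempty_tens_res (A := A) (P := C) (B := D) K
  obtain ⟨a, b, hab⟩ := exists_tens_retract (A := A) (P := C) (Algebra.linearMap C D) φ (fun x => by
    rw [Algebra.linearMap_apply, Algebra.algebraMap_eq_smul_one, map_smul, hφ, smul_eq_mul, mul_one]) K
  have hD := (H54.RelPC.rel_finite_iff (A := C) _ m).1 h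
  refine rel_of_retract (e₁.inv ≫ a ≫ e₂.hom) (e₂.inv ≫ b ≫ e₁.hom) ?_ hD
  simp only [Category.assoc, Iso.hom_inv_id_assoc]
  rw [reassoc_of% hab, Iso.inv_hom_id]

/-- The base change of a surjection along the kernel is a pushout. -/
theorem isPushout_of_surjective {P Q A C : Type u} [CommRing P] [CommRing Q] [CommRing A] [CommRing C]
    [Algebra P Q] [Algebra P A] [Algebra P C] [Algebra A C] [Algebra Q C] [IsScalarTower P A C]
    [IsScalarTower P Q C] (hA : Function.Surjective (algebraMap P A))
    (hC : Function.Surjective (algebraMap Q C))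
    (hker : RingHom.ker (algebraMap Q C) = (RingHom.ker (algebraMap P A)).map (algebraMap P Q)) :
    Algebra.IsPushout P Q A C := by
  let I := RingHom.ker (algebraMap P A)
  let eA : (P ⧸ I) ≃ₐ[P] A := Ideal.quotientKerAlgEquivOfSurjective (f := Algebra.ofId P A) hA
  let eC : (Q ⧸ I.map (algebraMap P Q)) ≃ₐ[Q] C := (Ideal.quotientEquivAlgOfEq Q hker.symm).trans
    (Ideal.quotientKerAlgEquivOfSurjective (f := Algebra.ofId Q C) hC)
  let e : Q ⊗[P] A ≃ₐ[Q] C := (Algebra.TensorProduct.congr (AlgEquiv.refl (R := Q) (A₁ := Q)) eA.symm).trans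
    ((Algebra.TensorProduct.quotIdealMapEquivTensorQuot Q I).symm.trans eC)
  refine ⟨IsBaseChange.of_equiv e.toLinearEquiv fun x => ?_⟩
  obtain ⟨p, rfl⟩ := hA x
  have h1 : eA.symm (algebraMap P A p) = Ideal.Quotient.mk I p := eA.symm.commutes p
  show eC ((Algebra.TensorProduct.quotIdealMapEquivTensorQuot Q I).symm
    ((1 : Q) ⊗ₜ eA.symm (algebraMap P A p))) = algebraMap A C (algebraMap P A p)
  rw [h1, ← IsScalarTower.algebraMap_apply, IsScalarTower.algebraMap_apply P Q C]
  show eC (Ideal.Quotient.mk _ (p • (1 : Q))) = _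
  rw [Algebra.smul_def, mul_one]
  exact eC.commutes _

/-- Extension to a localization at an element of the kernel vanishes. -/
theorem isZero_extend_of_ker {P A : Type u} [CommRing P] [CommRing A] (φ : P →+* A) {i₀ : P}
    (hi₀ : φ i₀ = 0) (L : Type u) [CommRing L] [Algebra P L] [IsLocalization.Away i₀ L]
    (M : ModuleCat.{u} A) :
    IsZero ((ModuleCat.extendScalars.{u, u, u} (algebraMap P L)).obj ((res φ).obj M)) := by
  letI : Module P M := Module.compHom M φ
  have hu := IsLocalization.Away.algebraMap_isUnit (S := L) i₀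
  haveI : Subsingleton (L ⊗[P] M) := by
    refine subsingleton_of_forall_eq 0 fun t => hu.smul_left_cancel.1 ?_
    rw [smul_zero]
    induction t using TensorProduct.induction_on with
    | zero => exact smul_zero _
    | add a b ha hb => rw [smul_add, ha, hb, add_zero]
    | tmul q x =>
      rw [TensorProduct.smul_tmul', smul_eq_mul, ← Algebra.smul_def, TensorProduct.smul_tmul]
      show q ⊗ₜ[P] (φ i₀ • x) = 0
      rw [hi₀, zero_smul, TensorProduct.tmul_zero]
  haveI : Subsingleton ((ModuleCat.extendScalars.{u, u, u} (algebraMap P L)).obj ((res φ).obj M) : Type u) :=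
    (FlatBC.extEquiv P L M).toEquiv.subsingleton
  exact ModuleCat.isZero_of_subsingleton _

/-- Descent along an etale covering. -/
theorem rel_of_etale_cover [Algebra.FiniteType R A] {ι : Type} [Finite ι] (C : ι → Type u)
    [∀ j, CommRing (C j)] [∀ j, Algebra A (C j)] [∀ j, Algebra R (C j)]
    [∀ j, IsScalarTower R A (C j)] [∀ j, Algebra.Etale A (C j)] [∀ j, Module.Flat A (C j)]
    (hcov : ∀ p : PrimeSpectrum A, ∃ (j : ι) (q : PrimeSpectrum (C j)),
      PrimeSpectrum.comap (algebraMap A (C j)) q = p) {m : ℤ} {K : Dual.D A}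
    (h : ∀ j, haveI := FlatBC.preservesFiniteLimits (A := A) (B := C j)
      haveI := FlatBC.preservesFiniteColimits (A := A) (B := C j)
      DerCA.IsRelPseudoCoherent R (C j) m
        ((ModuleCat.extendScalars.{u, u, u} (algebraMap A (C j))).mapDerivedCategory.obj K)) :
    DerCA.IsRelPseudoCoherent R A m K := by
  obtain ⟨n, α, hα⟩ := H54.RelPCApp.exists_pres ‹Algebra.FiniteType R A›
  let P := MvPolynomial (Fin n) R
  letI : Algebra P A := α.toRingHom.toAlgebra
  haveI : IsScalarTower R P A := .of_algebraMap_eq fun r => (α.commutes r).symm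
  letI := fun j => ((algebraMap A (C j)).comp α.toRingHom).toAlgebra
  haveI : ∀ j, IsScalarTower P A (C j) := fun j => .of_algebraMap_eq' rfl
  choose Q _ _ π hQe hπ hker using fun j =>
    Lib.SourceDescent.Ring.exists_etale_lift (B := A) (C := C j) (P := P) hα
  let I := RingHom.ker α.toRingHom
  -- elements of the kernel whose loci cover the complement of the image
  have hopen : IsOpen (⋃ j, Set.range (PrimeSpectrum.comap (algebraMap P (Q j)))) :=
    isOpen_iUnion fun j => by
      haveI := hQe j
      haveI : Algebra.HasGoingDown P (Q j) := inferInstance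
      exact (PrimeSpectrum.isOpenMap_comap_of_hasGoingDown_of_finitePresentation (R := P)
        (S := Q j)).isOpen_range
  obtain ⟨L, hL⟩ := (PrimeSpectrum.isClosed_iff_zeroLocus_ideal _).mp hopen.isClosed_compl
  have hIL : I ⊔ L = ⊤ := by
    rw [← PrimeSpectrum.zeroLocus_empty_iff_eq_top, PrimeSpectrum.zeroLocus_sup, ← hL]
    refine Set.eq_empty_of_forall_notMem fun p hp => hp.2 ?_
    obtain ⟨p', rfl⟩ : p ∈ Set.range (PrimeSpectrum.comap α.toRingHom) := by
      rw [range_comap_of_surjective _ α.toRingHom hα]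
      exact hp.1
    obtain ⟨j, q, rfl⟩ := hcov p'
    refine Set.mem_iUnion.2 ⟨j, PrimeSpectrum.comap (π j).toRingHom q, ?_⟩
    ext x
    exact Iff.of_eq (congrArg (· ∈ q.asIdeal) ((π j).commutes x))
  obtain ⟨i₀, hi₀, k₀, hk₀, hik⟩ := Submodule.mem_sup.mp ((Ideal.eq_top_iff_one _).mp hIL)
  have hfL : (algebraMap P (Localization.Away i₀)).Flat := RingHom.flat_algebraMap_iff.2 inferInstance
  have hfQ : ∀ j, (algebraMap P (Q j)).Flat := fun j => by
    haveI := hQe j
    exact RingHom.flat_algebraMap_iff.2 inferInstance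
  let Bc : Option ι → Σ' S : CommRingCat.{u}, (P →+* S) := fun o =>
    o.elim ⟨CommRingCat.of (Localization.Away i₀), algebraMap P (Localization.Away i₀)⟩
      fun j => ⟨CommRingCat.of (Q j), algebraMap P (Q j)⟩
  let B : Option ι → Type u := fun o => (Bc o).1
  letI : ∀ o, Algebra P (B o) := fun o => (Bc o).2.toAlgebra
  haveI : ∀ o, Module.Flat P (B o) := fun o => by
    suffices h : (Bc o).2.Flat from h
    cases o with
    | none => exact hfL
    | some j => exact hfQ j
  have hdet : Descent.Detects (A := P) B := by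
    refine detects_of_cover B fun p => ?_
    by_cases hp : p ∈ ⋃ j, Set.range (PrimeSpectrum.comap (algebraMap P (Q j)))
    · obtain ⟨j, q, hq⟩ := Set.mem_iUnion.1 hp
      exact ⟨some j, q, hq⟩
    · refine ⟨none, ?_⟩
      have hpi : p ∈ PrimeSpectrum.basicOpen i₀ := fun hi => p.2.ne_top
        ((Ideal.eq_top_iff_one _).2 (hik ▸ p.asIdeal.add_mem hi ((hL.le hp : _) hk₀)))
      exact (PrimeSpectrum.localization_away_comap_range (Localization.Away i₀) i₀).ge hpi
  refine (H54.RelPC.rel_iff α hα m K).2 (Descent.pcn_desc hdet m _ fun o => ?_)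
  let C₀ := DerivedCategory.Q.objPreimage K
  let i := DerivedCategory.Q.objObjPreimageIso K
  cases o with
  | none =>
    change PCn (ff (Localization.Away i₀)) m
      ((ModuleCat.extendScalars.{u, u, u} (algebraMap P (Localization.Away i₀))).mapDerivedCategory.obj
        ((DRing.restrictD α.toRingHom).obj K))
    let E := ModuleCat.extendScalars.{u, u, u} (algebraMap P (Localization.Away i₀))
    refine (bdd_zero good_ff ?_ 0 0).pcn _
    refine IsZero.of_iso ?_ (E.mapDerivedCategory.mapIso ((DRing.restrictD α.toRingHom).mapIso i.symm ≪≫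
      ExactPush.mapQ (res α.toRingHom) C₀) ≪≫ ExactPush.mapQ E _)
    refine DerivedCategory.Q.map_isZero ((IsZero.iff_id_eq_zero _).2
      (HomologicalComplex.hom_ext _ _ fun k => ?_))
    exact (isZero_extend_of_ker α.toRingHom (RingHom.mem_ker.1 hi₀) (Localization.Away i₀) (C₀.X k)).eq_of_src _ _
  | some j =>
    change PCn (ff (Q j)) m ((ModuleCat.extendScalars.{u, u, u} (algebraMap P (Q j))).mapDerivedCategory.obj
      ((DRing.restrictD α.toRingHom).obj K))
    haveI := hQe j
    letI : Algebra (Q j) (C j) := (π j).toRingHom.toAlgebra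
    haveI : IsScalarTower P (Q j) (C j) := .of_algebraMap_eq fun x => ((π j).commutes x).symm
    haveI : Algebra.IsPushout P (Q j) A (C j) := by
      refine isPushout_of_surjective hα (hπ j) ?_
      exact hker j
    letI : Algebra R (Q j) := ((algebraMap P (Q j)).comp (algebraMap R P)).toAlgebra
    haveI : IsScalarTower R P (Q j) := .of_algebraMap_eq' rfl
    haveI : Module.Flat R (Q j) := Module.Flat.trans R P (Q j)
    haveI : Algebra.FinitePresentation R (Q j) := Algebra.FinitePresentation.trans R P (Q j)
    obtain ⟨N, η, hη, hη'⟩ := H54.RelPC.hom_iff.1 (H54.FlatFP.hom_of_flat R (Q j))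
    let γ : MvPolynomial (Fin N) R →ₐ[R] C j :=
      { (π j).toRingHom.comp η.toRingHom with
        commutes' := fun r => by
          show π j (η (algebraMap R _ r)) = _
          rw [η.commutes, IsScalarTower.algebraMap_apply R P (Q j), (π j).commutes]
          exact ((congrArg (algebraMap A (C j)) (α.commutes r)).trans
            (IsScalarTower.algebraMap_apply R A (C j) r).symm) }
    have hγ : Function.Surjective γ := (hπ j).comp hη
    haveI := FlatBC.preservesFiniteLimits (A := A) (B := C j)
    haveI := FlatBC.preservesFiniteColimits (A := A) (B := C j)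
    obtain ⟨e₁⟩ := restrictD_comp η.toRingHom (π j).toRingHom
      ((ModuleCat.extendScalars.{u, u, u} (algebraMap A (C j))).mapDerivedCategory.obj K)
    have h1 := pcn_of_res hη' (((H54.RelPC.rel_iff γ hγ m _).1 (h j)).of_iso e₁)
    obtain ⟨e₂⟩ := nonempty_tens_self (A := A) (P := C j) K
    obtain ⟨ν⟩ := nonempty_pushout_iso (Q₀ := P) (Q := Q j) (A := A) (P := C j)
    let E := ModuleCat.extendScalars.{u, u, u} (algebraMap P (Q j))
    refine h1.of_iso ((DRing.restrictD (π j).toRingHom).mapIso (e₂.symm ≪≫
        (tens (A := A) (P := C j) (C j)).mapDerivedCategory.mapIso i.symm ≪≫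
        ExactPush.mapQ (tens (A := A) (P := C j) (C j)) C₀) ≪≫
      ExactPush.mapQ (res (π j).toRingHom)
        (((tens (A := A) (P := C j) (C j)).mapHomologicalComplex (ComplexShape.up ℤ)).obj C₀) ≪≫
      DerivedCategory.Q.mapIso ((NatIso.mapHomologicalComplex ν.symm _).app C₀) ≪≫
      (ExactPush.mapQ E (((res α.toRingHom).mapHomologicalComplex (ComplexShape.up ℤ)).obj C₀)).symm ≪≫
      E.mapDerivedCategory.mapIso ((ExactPush.mapQ (res α.toRingHom) C₀).symm ≪≫
        (DRing.restrictD α.toRingHom).mapIso i))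

end

end Groth.Agent.H56.RelPC
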