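import Groth.Agent.Lib.Flat55.GenericStrata
import Groth.Agent.Lib.DR.Nilp
import Mathlib.RingTheory.Flat.FaithfullyFlat.Algebra
import Mathlib.RingTheory.Spectrum.Prime.RingHom

/-!
Flatness of a complex is detected by a surjective morphism of finite presentation.
-/

set_option autoImplicit false
set_option linter.style.haveILetI false

universe u

open CategoryTheory TensorProduct

namespace Groth.Agent.H56.RelPC.SurjDetect

open Groth.Agent.Lib.DR.PseudoCoherent

variable {A : Type u} [CommRing A]

/-- Surjectivity on spectra is stable under base change. -/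
theorem comap_surjective_baseChange {B C : Type u} [CommRing B] [CommRing C] [Algebra A B] [Algebra A C]
    (h : Function.Surjective (PrimeSpectrum.comap (algebraMap A B))) :
    Function.Surjective (PrimeSpectrum.comap (algebraMap C (C ⊗[A] B))) := by
  intro p
  let p₀ : PrimeSpectrum A := PrimeSpectrum.comap (algebraMap A C) p
  let k₀ := p₀.asIdeal.ResidueField
  let k := p.asIdeal.ResidueField
  letI : Algebra k₀ k := (Ideal.ResidueField.mapₐ p₀.asIdeal p.asIdeal (Algebra.ofId A C) rfl).toRingHom.toAlgebra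
  haveI : IsScalarTower A k₀ k := IsScalarTower.of_algebraMap_eq fun a =>
    ((Ideal.ResidueField.mapₐ p₀.asIdeal p.asIdeal (Algebra.ofId A C) rfl).commutes a).symm
  haveI : Nontrivial (k₀ ⊗[A] B) := (PrimeSpectrum.nontrivial_iff_mem_rangeComap p₀).2 (h p₀)
  haveI : Nontrivial (k ⊗[k₀] (k₀ ⊗[A] B)) := inferInstance
  haveI : Nontrivial (k ⊗[A] B) :=
    (AlgebraTensorModule.cancelBaseChange A k₀ k k B).toEquiv.symm.nontrivial
  haveI : Nontrivial (k ⊗[C] (C ⊗[A] B)) :=
    (AlgebraTensorModule.cancelBaseChange A C k k B).toEquiv.nontrivial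
  exact (PrimeSpectrum.nontrivial_iff_mem_rangeComap p).1 inferInstance

variable (E : CochainComplex (ModuleCat.{u} A) ℤ)

/-- Exactness of `N ⊗ E` in negative degrees. -/
def Ex (N : Type u) [AddCommGroup N] [Module A N] : Prop :=
  ∀ j : ℤ, j < 0 → Function.Exact ((E.d (j - 1) j).hom.lTensor N) ((E.d j (j + 1)).hom.lTensor N)

variable {E}

theorem Ex.congr {N M : Type u} [AddCommGroup N] [Module A N] [AddCommGroup M] [Module A M]
    (e : N ≃ₗ[A] M) (h : Ex E N) : Ex E M := fun j hj => by
  refine (Function.Exact.iff_of_ladder_linearEquiv (e₁ := e.rTensor (E.X (j - 1)))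
    (e₂ := e.rTensor (E.X j)) (e₃ := e.rTensor (E.X (j + 1))) ?_ ?_).2 (h j hj) <;>
    exact TensorProduct.ext' fun _ _ => rfl

variable (hE : ∀ i, flat A (E.X i))
include hE

theorem Ex.ext {M : Type u} [AddCommGroup M] [Module A M] (N : Submodule A M) (h₁ : Ex E N)
    (h₃ : Ex E (M ⧸ N)) : Ex E M := fun j hj =>
  Groth.Agent.Lib.DR.Nilp.exact_ext E hE _ j _ M N (h₁ j hj) (h₃ j hj)

/-- The kernel of a map between modules with exact complexes. -/
theorem Ex.sub {M : Type u} [AddCommGroup M] [Module A M] (N : Submodule A M) (h₂ : Ex E M)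
    (h₃ : Ex E (M ⧸ N)) : Ex E N := by
  intro j hj
  haveI : ∀ i, Module.Flat A (E.X i) := hE
  intro z
  refine ⟨fun hz => ?_, ?_⟩
  · let i₁ := N.subtype.rTensor (E.X j)
    have h0 : (E.d j (j + 1)).hom.lTensor M (i₁ z) = 0 := by
      rw [← LinearMap.comp_apply, LinearMap.lTensor_comp_rTensor, ← LinearMap.rTensor_comp_lTensor,
        LinearMap.comp_apply, hz, map_zero]
    obtain ⟨w, hw⟩ := (h₂ j hj _).1 h0
    have h1 : (E.d (j - 1) j).hom.lTensor (M ⧸ N) (N.mkQ.rTensor (E.X (j - 1)) w) = 0 := by
      rw [← LinearMap.comp_apply, LinearMap.lTensor_comp_rTensor, ← LinearMap.rTensor_comp_lTensor,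
        LinearMap.comp_apply, hw, ← LinearMap.comp_apply, ← LinearMap.rTensor_comp,
        (LinearMap.exact_subtype_mkQ N).linearMap_comp_eq_zero, LinearMap.rTensor_zero, LinearMap.zero_apply]
    have h3' := h₃ (j - 1) (by omega)
    rw [sub_add_cancel] at h3'
    obtain ⟨v, hv⟩ := (h3' _).1 h1
    obtain ⟨v, rfl⟩ := LinearMap.rTensor_surjective (E.X (j - 1 - 1)) N.mkQ_surjective v
    have h2 : N.mkQ.rTensor (E.X (j - 1)) (w - (E.d (j - 1 - 1) (j - 1)).hom.lTensor M v) = 0 := by
      rw [map_sub, sub_eq_zero, ← hv, ← LinearMap.comp_apply, ← LinearMap.comp_apply,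
        LinearMap.lTensor_comp_rTensor, LinearMap.rTensor_comp_lTensor]
    obtain ⟨x, hx⟩ :=
      (rTensor_exact (E.X (j - 1)) (LinearMap.exact_subtype_mkQ N) N.mkQ_surjective _).1 h2
    refine ⟨x, Module.Flat.rTensor_preserves_injective_linearMap (M := E.X j) N.subtype N.subtype_injective ?_⟩
    rw [← LinearMap.comp_apply, LinearMap.rTensor_comp_lTensor, ← LinearMap.lTensor_comp_rTensor,
      LinearMap.comp_apply, hx, map_sub, hw, ← LinearMap.comp_apply, ← LinearMap.lTensor_comp,
      show (E.d (j - 1) j).hom ∘ₗ (E.d (j - 1 - 1) (j - 1)).hom = 0 from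
        congrArg ModuleCat.Hom.hom (E.d_comp_d _ _ _), LinearMap.lTensor_zero]
    simp [i₁]
  · rintro ⟨w, rfl⟩
    rw [← LinearMap.comp_apply, ← LinearMap.lTensor_comp,
      show (E.d j (j + 1)).hom ∘ₗ (E.d (j - 1) j).hom = 0 from
        congrArg ModuleCat.Hom.hom (E.d_comp_d _ _ _), LinearMap.lTensor_zero]
    rfl

omit hE in
theorem exists_of_mem_iSup {M : Type u} [AddCommGroup M] [Module A M] {P : ℕ → Submodule A M}
    (hP : Monotone P) (h : ⨆ n, P n = ⊤) {V : Type u} [AddCommGroup V] [Module A V] (z : M ⊗[A] V) :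
    ∃ n y, (P n).subtype.rTensor V y = z := by
  induction z with
  | zero => exact ⟨0, 0, map_zero _⟩
  | tmul m v =>
    obtain ⟨n, hn⟩ := (Submodule.mem_iSup_of_directed P hP.directed_le).1
      (h ▸ Submodule.mem_top (x := m) : m ∈ ⨆ n, P n)
    exact ⟨n, ⟨m, hn⟩ ⊗ₜ[A] v, rfl⟩
  | add a b ha hb =>
    obtain ⟨n, y, rfl⟩ := ha
    obtain ⟨n', y', rfl⟩ := hb
    refine ⟨max n n', (Submodule.inclusion (hP (le_max_left n n'))).rTensor V y +
      (Submodule.inclusion (hP (le_max_right n n'))).rTensor V y', ?_⟩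
    rw [map_add, ← LinearMap.comp_apply, ← LinearMap.comp_apply, ← LinearMap.rTensor_comp,
      ← LinearMap.rTensor_comp]
    rfl

/-- Unions. -/
theorem Ex.iSup {M : Type u} [AddCommGroup M] [Module A M] {P : ℕ → Submodule A M} (hP : Monotone P)
    (h : ⨆ n, P n = ⊤) (hn : ∀ n, Ex E (P n)) : Ex E M := by
  intro j hj
  haveI : ∀ i, Module.Flat A (E.X i) := hE
  intro z
  refine ⟨fun hz => ?_, ?_⟩
  · obtain ⟨n, y, rfl⟩ := exists_of_mem_iSup hP h z
    have h0 : (E.d j (j + 1)).hom.lTensor (P n) y = 0 := by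
      apply Module.Flat.rTensor_preserves_injective_linearMap (M := E.X (j + 1)) (P n).subtype
        (P n).subtype_injective
      rw [← LinearMap.comp_apply, LinearMap.rTensor_comp_lTensor, ← LinearMap.lTensor_comp_rTensor,
        LinearMap.comp_apply, hz, map_zero]
    obtain ⟨x, rfl⟩ := (hn n j hj _).1 h0
    exact ⟨(P n).subtype.rTensor _ x, by
      rw [← LinearMap.comp_apply, LinearMap.lTensor_comp_rTensor, ← LinearMap.rTensor_comp_lTensor]
      rfl⟩
  · rintro ⟨w, rfl⟩
    rw [← LinearMap.comp_apply, ← LinearMap.lTensor_comp,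
      show (E.d j (j + 1)).hom ∘ₗ (E.d (j - 1) j).hom = 0 from
        congrArg ModuleCat.Hom.hom (E.d_comp_d _ _ _), LinearMap.lTensor_zero]
    rfl

omit hE in
/-- The submodule killed by `g ^ n`. -/
abbrev killed (g : A) (n : ℕ) (M : Type u) [AddCommGroup M] [Module A M] : Submodule A M :=
  LinearMap.ker (LinearMap.lsmul A M (g ^ n))

theorem ex_killed {J : Ideal A} {g : A}
    (h : ∀ (N : Type u) [AddCommGroup N] [Module A N],
      (∀ a ∈ J, ∀ x : N, a • x = 0) → (∀ x : N, g • x = 0) → Ex E N) :
    ∀ (n : ℕ) (N : Type u) [AddCommGroup N] [Module A N],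
      (∀ a ∈ J, ∀ x : N, a • x = 0) → (∀ x : N, g ^ n • x = 0) → Ex E N := by
  intro n
  induction n with
  | zero => exact fun N _ _ hJ hn => h N hJ fun x => by simpa using congrArg (g • ·) (hn x)
  | succ n ih =>
    intro N _ _ hJ hn
    refine Ex.ext hE (killed g n N) (ih _ (fun a ha x => Subtype.ext (hJ a ha _))
      fun x => Subtype.ext x.2) (h _ ?_ ?_)
    · intro a ha x
      obtain ⟨x, rfl⟩ := Submodule.Quotient.mk_surjective _ x
      rw [← Submodule.Quotient.mk_smul, hJ a ha x, Submodule.Quotient.mk_zero]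
    · intro x
      obtain ⟨x, rfl⟩ := Submodule.Quotient.mk_surjective _ x
      rw [← Submodule.Quotient.mk_smul, Submodule.Quotient.mk_eq_zero, LinearMap.mem_ker,
        LinearMap.lsmul_apply, smul_smul, ← pow_succ]
      exact hn x

/-- Modules whose elements are killed by powers of `g`. -/
theorem ex_torsion {J : Ideal A} {g : A}
    (h : ∀ (N : Type u) [AddCommGroup N] [Module A N],
      (∀ a ∈ J, ∀ x : N, a • x = 0) → (∀ x : N, g • x = 0) → Ex E N)
    (N : Type u) [AddCommGroup N] [Module A N] (hJ : ∀ a ∈ J, ∀ x : N, a • x = 0)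
    (ht : ∀ x : N, ∃ n : ℕ, g ^ n • x = 0) : Ex E N := by
  refine Ex.iSup hE (P := fun n => killed g n N) (fun m n hmn x hx => ?_) ?_
    fun n => ex_killed hE h n _ (fun a ha x => Subtype.ext (hJ a ha _)) fun x => Subtype.ext x.2
  · rw [LinearMap.mem_ker, LinearMap.lsmul_apply] at hx ⊢
    rw [← Nat.sub_add_cancel hmn, pow_add, mul_smul, hx, smul_zero]
  · refine eq_top_iff.2 fun x _ => ?_
    obtain ⟨n, hn⟩ := ht x
    exact Submodule.mem_iSup_of_mem n hn

variable {B : Type u} [CommRing B] [Algebra A B]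

omit hE in
/-- Exactness descends along a faithfully flat base change. -/
theorem ex_of_faithfullyFlat {C : Type u} [CommRing C] [Algebra A C]
    [Module.FaithfullyFlat C (C ⊗[A] B)]
    (hB : ∀ (N : Type u) [AddCommGroup N] [Module A N] [Module B N] [IsScalarTower A B N], Ex E N)
    (N : Type u) [AddCommGroup N] [Module A N] [Module C N] [IsScalarTower A C N] : Ex E N := by
  intro j hj
  let D := C ⊗[A] B
  let V := D ⊗[C] N
  letI : Module B V := Module.compHom V (Algebra.TensorProduct.includeRight : B →ₐ[A] D).toRingHom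
  haveI : IsScalarTower A B V := IsScalarTower.of_algebraMap_smul fun a v => by
    show (Algebra.TensorProduct.includeRight : B →ₐ[A] D) (algebraMap A B a) • v = a • v
    rw [AlgHom.commutes, algebraMap_smul]
  let L : ∀ i k, N ⊗[A] E.X i →ₗ[C] N ⊗[A] E.X k := fun i k =>
    AlgebraTensorModule.lTensor C N (E.d i k).hom
  refine (Module.FaithfullyFlat.lTensor_exact_iff_exact C D (l12 := L (j - 1) j) (l23 := L j (j + 1))).1 ?_
  refine (Function.Exact.iff_of_ladder_linearEquiv
    (e₁ := ((AlgebraTensorModule.assoc A C C D N (E.X (j - 1))).symm.restrictScalars A))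
    (e₂ := ((AlgebraTensorModule.assoc A C C D N (E.X j)).symm.restrictScalars A))
    (e₃ := ((AlgebraTensorModule.assoc A C C D N (E.X (j + 1))).symm.restrictScalars A))
    (f₁₂ := ((L (j - 1) j).lTensor D).restrictScalars A)
    (f₂₃ := ((L j (j + 1)).lTensor D).restrictScalars A)
    (g₁₂ := (E.d (j - 1) j).hom.lTensor V) (g₂₃ := (E.d j (j + 1)).hom.lTensor V) ?_ ?_).1 (hB V j hj)
  all_goals
    refine LinearMap.ext fun z => ?_
    induction z using TensorProduct.induction_on with
    | zero => simp
    | add a b ha hb => simp only [map_add, ha, hb]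
    | tmul d w =>
      induction w using TensorProduct.induction_on with
      | zero => simp
      | add a b ha hb => simp only [tmul_add, map_add, ha, hb]
      | tmul n e => rfl

/-- One stratum. -/
theorem ex_step [Module.FinitePresentation B B]
    (hsurj : Function.Surjective (PrimeSpectrum.comap (algebraMap A B)))
    (hB : ∀ (N : Type u) [AddCommGroup N] [Module A N] [Module B N] [IsScalarTower A B N], Ex E N)
    {I I' J : Ideal A} (hst : Groth.Agent.Lib.Flat55.GenericStrata.Step A B I I') (hIJ : I ≤ J) {g : A}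
    (hg : g ∈ I')
    (h : ∀ (N : Type u) [AddCommGroup N] [Module A N],
      (∀ a ∈ J, ∀ x : N, a • x = 0) → (∀ x : N, g • x = 0) → Ex E N)
    (N : Type u) [AddCommGroup N] [Module A N] (hN : ∀ a ∈ J, ∀ x : N, a • x = 0) : Ex E N := by
  let T : Submodule A N :=
    { carrier := {x | ∃ n : ℕ, g ^ n • x = 0}
      zero_mem' := ⟨0, smul_zero _⟩
      add_mem' := by
        rintro x y ⟨m, hm⟩ ⟨n, hn⟩
        refine ⟨m + n, ?_⟩
        rw [smul_add, show g ^ (m + n) • x = g ^ n • (g ^ m • x) from by rw [smul_smul, ← pow_add, add_comm],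
          show g ^ (m + n) • y = g ^ m • (g ^ n • y) from by rw [smul_smul, ← pow_add], hm, hn,
          smul_zero, smul_zero, add_zero]
      smul_mem' := by
        rintro a x ⟨n, hn⟩
        exact ⟨n, by rw [smul_comm, hn, smul_zero]⟩ }
  refine Ex.ext hE T (ex_torsion hE h T (fun a ha x => Subtype.ext (hN a ha _))
    fun x => x.2.imp fun n hn => Subtype.ext hn) ?_
  -- the torsion free quotient and its localization
  let Q := N ⧸ T
  have hQ : ∀ a ∈ J, ∀ x : Q, a • x = 0 := by
    intro a ha x
    obtain ⟨x, rfl⟩ := Submodule.Quotient.mk_surjective _ x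
    rw [← Submodule.Quotient.mk_smul, hN a ha x, Submodule.Quotient.mk_zero]
  let l := LocalizedModule.mkLinearMap (Submonoid.powers g) Q
  have hl : Function.Injective l := by
    rw [injective_iff_map_eq_zero]
    intro x hx
    obtain ⟨⟨_, n, rfl⟩, hs⟩ := (IsLocalizedModule.eq_zero_iff (Submonoid.powers g) l).1 hx
    obtain ⟨x, rfl⟩ := Submodule.Quotient.mk_surjective _ x
    change g ^ n • (Submodule.Quotient.mk x : Q) = 0 at hs
    rw [← Submodule.Quotient.mk_smul, Submodule.Quotient.mk_eq_zero] at hs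
    obtain ⟨m, hm⟩ := hs
    exact (Submodule.Quotient.mk_eq_zero T).2 ⟨m + n, by rw [pow_add, mul_smul]; exact hm⟩
  refine Ex.congr (LinearEquiv.ofInjective l hl).symm (Ex.sub hE (LinearMap.range l) ?_ ?_)
  · -- the localized module is a module over the stratum
    let Ag := Localization.Away g
    let C := Ag ⧸ J.map (algebraMap A Ag)
    let Qg := LocalizedModule (Submonoid.powers g) Q
    have hJQ : ∀ a ∈ J, ∀ x : Qg, a • x = 0 := by
      intro a ha x
      obtain ⟨⟨q, s⟩, hq⟩ := IsLocalizedModule.surj (Submonoid.powers g) l x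
      apply ((Module.End.isUnit_iff _).1 (IsLocalizedModule.map_units l s)).1
      change (s : A) • a • x = (s : A) • (0 : Qg)
      rw [smul_comm, show (s : A) • x = l q from hq, ← map_smul, hQ a ha, map_zero, smul_zero]
    have hle : J.map (algebraMap A Ag) ≤ Module.annihilator Ag Qg :=
      Ideal.map_le_iff_le_comap.2 fun a ha => by
        rw [Ideal.mem_comap, Module.mem_annihilator]
        intro x
        rw [algebraMap_smul]
        exact hJQ a ha x
    letI : Module C Qg := Module.IsTorsionBySet.module (I := J.map (algebraMap A Ag))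
      (fun x a => Module.mem_annihilator.1 (hle a.2) x)
    haveI : IsScalarTower A C Qg := by
      exact IsScalarTower.of_algebraMap_smul (R := A) (A := C) (M := Qg) (fun a x => algebraMap_smul Ag a x)
    have h1 : I.map (algebraMap A C) = ⊥ := by
      rw [IsScalarTower.algebraMap_eq A Ag C, ← Ideal.map_map, Ideal.map_eq_bot_iff_le_ker,
        Ideal.Quotient.algebraMap_eq, Ideal.mk_ker]
      exact Ideal.map_mono hIJ
    have h2 : I'.map (algebraMap A C) = ⊤ := Ideal.eq_top_of_isUnit_mem _ (Ideal.mem_map_of_mem _ hg) (by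
      rw [IsScalarTower.algebraMap_apply A Ag C]
      exact (IsLocalization.map_units Ag (⟨g, 1, pow_one g⟩ : Submonoid.powers g)).map _)
    haveI : Module.Flat C (C ⊗[A] B) := hst.2.2 C h1 h2
    haveI : Module.FaithfullyFlat C (C ⊗[A] B) :=
      Module.FaithfullyFlat.of_comap_surjective (comap_surjective_baseChange hsurj)
    exact ex_of_faithfullyFlat (B := B) (C := C) hB Qg
  · -- the cokernel is torsion
    refine ex_torsion hE h _ (fun a ha x => ?_) fun x => ?_
    · obtain ⟨x, rfl⟩ := Submodule.Quotient.mk_surjective _ x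
      obtain ⟨⟨q, s⟩, hq⟩ := IsLocalizedModule.surj (Submonoid.powers g) l x
      have hax : a • x = 0 := by
        apply ((Module.End.isUnit_iff _).1 (IsLocalizedModule.map_units l s)).1
        change (s : A) • a • x = (s : A) • 0
        rw [smul_comm, show (s : A) • x = l q from hq, ← map_smul, hQ a ha, map_zero, smul_zero]
      rw [← Submodule.Quotient.mk_smul, hax, Submodule.Quotient.mk_zero]
    · obtain ⟨x, rfl⟩ := Submodule.Quotient.mk_surjective _ x
      obtain ⟨⟨q, ⟨_, n, rfl⟩⟩, hq⟩ := IsLocalizedModule.surj (Submonoid.powers g) l x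
      exact ⟨n, by rw [← Submodule.Quotient.mk_smul, Submodule.Quotient.mk_eq_zero]; exact ⟨q, hq.symm⟩⟩

/-- Exactness is detected by a surjective algebra of finite presentation. -/
theorem ex_of_surjective [Algebra.FinitePresentation A B]
    (hsurj : Function.Surjective (PrimeSpectrum.comap (algebraMap A B)))
    (hB : ∀ (N : Type u) [AddCommGroup N] [Module A N] [Module B N] [IsScalarTower A B N], Ex E N)
    (N : Type u) [AddCommGroup N] [Module A N] : Ex E N := by
  classical
  haveI : Module.FinitePresentation B B := Module.finitePresentation_of_projective B B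
  suffices H : ∀ I : Ideal A, Relation.ReflTransGen (Groth.Agent.Lib.Flat55.GenericStrata.Step A B) I ⊤ →
      ∀ (N : Type u) [AddCommGroup N] [Module A N], (∀ a ∈ I, ∀ x : N, a • x = 0) → Ex E N from
    H ⊥ (Groth.Agent.Lib.Flat55.GenericStrata.exists_chain A B B ⊥ Submodule.fg_bot) N
      fun a ha x => by rw [(Submodule.mem_bot A).1 ha, zero_smul]
  intro I hI
  induction hI using Relation.ReflTransGen.head_induction_on with
  | refl =>
    intro N _ _ hN j _
    have h0 : ∀ x : N, x = 0 := fun x => by simpa using hN 1 Submodule.mem_top x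
    haveI : Subsingleton N := subsingleton_of_forall_eq 0 h0
    exact fun z => ⟨fun _ => ⟨0, Subsingleton.elim _ _⟩, fun _ => Subsingleton.elim _ _⟩
  | @head I I' hst _ ih =>
    obtain ⟨s, hs⟩ := hst.2.1
    suffices H' : ∀ t : Finset A, t ⊆ s → ∀ (N : Type u) [AddCommGroup N] [Module A N],
        (∀ a ∈ I ⊔ Ideal.span ((s \ t : Finset A) : Set A), ∀ x : N, a • x = 0) → Ex E N by
      intro N _ _ hN
      refine H' s (le_refl _) N fun a ha => ?_
      rw [Finset.sdiff_self, Finset.coe_empty, Ideal.span_empty, sup_bot_eq] at ha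
      exact hN a ha
    intro t
    induction t using Finset.induction with
    | empty =>
      intro _ N _ _ hN
      exact ih N fun a ha => hN a (Submodule.mem_sup_right (by rwa [Finset.sdiff_empty, hs]))
    | @insert g t hgt IH =>
      intro hsub N _ _ hN
      have hgI' : g ∈ I' := hs ▸ Submodule.subset_span (hsub (Finset.mem_insert_self g t))
      refine ex_step hE hsurj hB (J := I ⊔ Ideal.span ((s \ insert g t : Finset A) : Set A)) hst
        le_sup_left hgI' (fun M _ _ hJ hg => ?_) N hN
      refine IH (fun x hx => hsub (Finset.mem_insert_of_mem hx)) M fun a ha x => ?_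
      obtain ⟨b, hb, c, hc, rfl⟩ := Submodule.mem_sup.1 ha
      rw [add_smul, hJ b (Submodule.mem_sup_left hb), zero_add]
      clear ha
      induction hc using Submodule.span_induction generalizing x with
      | mem c hc =>
        by_cases hcg : c = g
        · rw [hcg, hg]
        · exact hJ c (Submodule.mem_sup_right (Ideal.subset_span (by
            simp only [Finset.coe_sdiff, Set.mem_diff, Finset.mem_coe, Finset.mem_insert] at hc ⊢
            exact ⟨hc.1, fun h' => h'.elim hcg hc.2⟩))) x
      | zero => rw [zero_smul]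
      | add c d _ _ hc hd => rw [add_smul, hc, hd, add_zero]
      | smul r c _ hc => rw [smul_eq_mul, mul_comm, mul_smul, hc]

end Groth.Agent.H56.RelPC.SurjDetect
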