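import Groth.Agent.H56.RelPC.SurjDetect
import Groth.Agent.H56.RelPC.ChartModule
import Groth.Agent.H56.PCSingle.Basic
import Groth.Agent.Lib.DerivedOX.TildeStalk
import Groth.Agent.Lib.Perfect.Pullback
import Groth.Agent.Lib.Perfect.FlatPerfect
import Groth.Agent.Lib.Perfect.Coherent
import Groth.Agent.Lib.BettiExact.TorPull

/-!
A complex which becomes a flat module after a surjective base change of finite presentation is a flat
module.
-/

set_option autoImplicit false
set_option linter.style.haveILetI false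

universe u

open CategoryTheory Limits AlgebraicGeometry TopologicalSpace HomologicalComplex
open scoped TensorProduct

attribute [local instance] HasDerivedCategory.standard

namespace Groth.Agent.H56.RelPC.SurjFlat

open Groth.Agent.Lib Groth.Agent.Lib.DerivedOX Groth.Agent.Lib.Modules.StalkModule KFlatBaseChange
open Groth.Agent.Lib.BettiExact TorTensor TorPull
open Groth.Agent.Lib.DR Groth.Agent.Lib.DR.Basic Groth.Agent.Lib.DR.FiniteComplex
  Groth.Agent.Lib.DR.PseudoCoherent Groth.Agent.Lib.DR.BaseChange Groth.Agent.Lib.DR.Representative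
open Groth.Agent.Lib.Perfect.Basic

section Algebra

variable {A : Type u} [CommRing A]

/-- Tensoring through an algebra. -/
theorem exact_of_ext {L : Type u} [CommRing L] (φ : A →+* L) (E : DRing.Cx A) (j : ℤ) (M : Type u)
    [AddCommGroup M] [Module A M] [Module L M] (hM : ∀ (a : A) (x : M), φ a • x = a • x)
    (h : ((TorAmp.tens (ModuleCat.of L M)).obj ((ext φ).obj E)).ExactAt j) :
    Function.Exact ((E.d (j - 1) j).hom.lTensor M) ((E.d j (j + 1)).hom.lTensor M) := by
  letI := φ.toAlgebra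
  haveI : IsScalarTower A L M := IsScalarTower.of_algebraMap_smul hM
  rw [HomologicalComplex.exactAt_iff' _ (j - 1) j (j + 1) (by simp) (by simp),
    ShortComplex.ShortExact.moduleCat_exact_iff_function_exact] at h
  let c : ∀ X : ModuleCat.{u} A, (L ⊗[A] X) ⊗[L] M ≃+ M ⊗[A] X := fun X =>
    (TensorProduct.comm L (L ⊗[A] X) M).toAddEquiv.trans
      (TensorProduct.AlgebraTensorModule.cancelBaseChange A L L M X).toAddEquiv
  have hc : ∀ (X Y : ModuleCat.{u} A) (g : X ⟶ Y) (z : (L ⊗[A] X) ⊗[L] M),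
      (g.hom.lTensor M) (c X z) = c Y ((g.hom.baseChange L).rTensor M z) := by
    intro X Y g z
    induction z using TensorProduct.induction_on with
    | zero => simp
    | add x y hx hy => simp only [map_add, hx, hy]
    | tmul w m =>
      induction w using TensorProduct.induction_on with
      | zero => simp
      | add x y hx hy => simp only [map_add, TensorProduct.add_tmul, hx, hy]
      | tmul b x => simp [c]
  intro z
  obtain ⟨z, rfl⟩ := (c (E.X j)).surjective z
  rw [hc, map_eq_zero_iff _ (c (E.X (j + 1))).injective]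
  refine Iff.trans (h z) ⟨?_, ?_⟩
  · rintro ⟨w, hw⟩
    exact ⟨c (E.X (j - 1)) w, (hc _ _ _ w).trans (congrArg (c (E.X j)) hw)⟩
  · rintro ⟨w, hw⟩
    obtain ⟨w, rfl⟩ := (c (E.X (j - 1))).surjective w
    exact ⟨w, (c (E.X j)).injective ((hc _ _ _ w).symm.trans hw)⟩

/-- Exactness for modules over an algebra is local on the algebra. -/
theorem ex_of_local {B : Type u} [CommRing B] [Algebra A B] (E : DRing.Cx A) {c : ℤ}
    (hc : ∀ i, c < i → IsZero (E.X i)) (hE : ∀ i, flat A (E.X i))
    (h : ∀ w : PrimeSpectrum B, ∃ (L : Type u) (_ : CommRing L) (_ : Algebra B L),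
      IsLocalization.AtPrime L w.asIdeal ∧
        Bdd (flat L) 0 0 (DerivedCategory.Q.obj ((ext ((algebraMap B L).comp (algebraMap A B))).obj E)))
    (N : Type u) [AddCommGroup N] [Module A N] [Module B N] [IsScalarTower A B N] :
    SurjDetect.Ex E N := by
  intro j hj z
  have hdd : ((E.d j (j + 1)).hom) ∘ₗ (E.d (j - 1) j).hom = 0 :=
    congrArg ModuleCat.Hom.hom (E.d_comp_d (j - 1) j (j + 1))
  refine ⟨fun hz => ?_, ?_⟩
  · let f := TensorProduct.AlgebraTensorModule.lTensor B N (E.d (j - 1) j).hom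
    let g := TensorProduct.AlgebraTensorModule.lTensor B N (E.d j (j + 1)).hom
    let I : Ideal B :=
      { carrier := {b : B | b • z ∈ (LinearMap.range f : Submodule B (N ⊗[A] E.X j))}
        zero_mem' := ⟨0, by simp⟩
        add_mem' := fun {a b} ha hb => by
          show (a + b) • z ∈ LinearMap.range f
          rw [add_smul]; exact Submodule.add_mem _ ha hb
        smul_mem' := fun a b hb => by
          show (a * b) • z ∈ LinearMap.range f
          rw [mul_smul]; exact Submodule.smul_mem _ _ hb }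
    suffices hI : I = ⊤ by
      have h1 : (1 : B) • z ∈ LinearMap.range f := hI.ge (Submodule.mem_top (x := (1 : B)))
      rwa [one_smul] at h1
    by_contra hne
    obtain ⟨P, hP, hIP⟩ := I.exists_le_maximal hne
    obtain ⟨L, _, _, hL, hb⟩ := h ⟨P, hP.isPrime⟩
    haveI := hP.isPrime
    haveI : IsLocalization.AtPrime L P := hL
    letI : Algebra A L := ((algebraMap B L).comp (algebraMap A B)).toAlgebra
    haveI : IsScalarTower A B L := IsScalarTower.of_algebraMap_eq fun _ => rfl
    let M := L ⊗[B] N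
    haveI : IsScalarTower A B M := IsScalarTower.of_algebraMap_smul fun a x => by
      rw [← algebraMap_smul L (algebraMap A B a), ← IsScalarTower.algebraMap_apply, algebraMap_smul]
    have hex := exact_of_ext (algebraMap A L) E j M (fun a x => algebraMap_smul L a x) (TorAmp.exactAt_tens_of_bdd (ModuleCat.of L M) ((ext (algebraMap A L)).obj E)
      (fun i hi => (ModuleCat.extendScalars _).map_isZero (hc i hi))
      (fun i => ext_flat _ _ (hE i)) hb j hj)
    let l : N →ₗ[B] M := TensorProduct.mk B L N 1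
    haveI : IsLocalizedModule P.primeCompl l :=
      (isLocalizedModule_iff_isBaseChange P.primeCompl L l).2 (TensorProduct.isBaseChange B N L)
    let lT : ∀ i, N ⊗[A] E.X i →ₗ[B] M ⊗[A] E.X i := fun i =>
      TensorProduct.AlgebraTensorModule.rTensor A (E.X i) l
    have hnat : ∀ (i k : ℤ) (v : N ⊗[A] E.X i),
        (E.d i k).hom.lTensor M (lT i v) = lT k ((E.d i k).hom.lTensor N v) := fun i k v => by
      induction v with
      | zero => simp
      | tmul a b => rfl
      | add a b ha hb => simp only [map_add, ha, hb]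
    obtain ⟨w, hw⟩ := (hex (lT j z)).1 (by rw [hnat, hz, map_zero])
    obtain ⟨⟨v, t⟩, ht⟩ := IsLocalizedModule.surj P.primeCompl (lT (j - 1)) w
    have h1 : lT j ((t : B) • z) = lT j (f v) := by
      rw [map_smul, show f v = (E.d (j - 1) j).hom.lTensor N v from rfl, ← hnat,
        ← show (t : B) • w = lT (j - 1) v from ht, ← hw]
      exact (map_smul (TensorProduct.AlgebraTensorModule.lTensor B M (E.d (j - 1) j).hom) (t : B) w).symm
    obtain ⟨s, hs⟩ := IsLocalizedModule.exists_of_eq (S := P.primeCompl) h1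
    have hmem : (s : B) * (t : B) ∈ I := ⟨(s : B) • v, by
      rw [map_smul, mul_smul]
      exact hs.symm⟩
    exact (hP.isPrime.mem_or_mem (hIP hmem)).elim s.2 t.2
  · rintro ⟨w, rfl⟩
    rw [← LinearMap.comp_apply, ← LinearMap.lTensor_comp, hdd, LinearMap.lTensor_zero]
    rfl

/-- A complex of flat modules in degrees `≤ 0`, exact after tensoring, is a flat module. -/
theorem bdd_of_ex (E : DRing.Cx A) (hc : ∀ i, 0 < i → IsZero (E.X i)) (hE : ∀ i, flat A (E.X i))
    (h : ∀ (N : Type u) [AddCommGroup N] [Module A N], SurjDetect.Ex E N) :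
    Bdd (flat A) 0 0 (DerivedCategory.Q.obj E) := by
  have hge : ∀ M : ModuleCat.{u} A, (DerivedCategory.Q.obj ((TorAmp.tens M).obj E)).IsGE 0 := fun M =>
    (DerivedCategory.isGE_iff _ _).2 fun j hj => by
      refine ((HomologicalComplex.exactAt_iff_isZero_homology _ _).1 ?_).of_iso (homologyQIso _ j)
      rw [HomologicalComplex.exactAt_iff' _ (j - 1) j (j + 1) (by simp) (by simp),
        ShortComplex.ShortExact.moduleCat_exact_iff_function_exact]
      exact (Function.Exact.iff_of_ladder_linearEquiv (e₁ := TensorProduct.comm A M (E.X (j - 1)))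
        (e₂ := TensorProduct.comm A M (E.X j)) (e₃ := TensorProduct.comm A M (E.X (j + 1)))
        (TensorProduct.ext' fun _ _ => rfl) (TensorProduct.ext' fun _ _ => rfl)).2 (h M j hj)
  refine TorAmp.bdd_flat_of_isGE_tens E hc hE ?_ hge
  exact isGE_of_iso' (DerivedCategory.Q.mapIso
    ((NatIso.mapHomologicalComplex (MonoidalCategory.rightUnitorNatIso (ModuleCat.{u} A)) _).app E ≪≫
      (Functor.mapHomologicalComplexIdIso (ModuleCat.{u} A) _).app E)) (hge (ModuleCat.of A A))

/-- An object of flat amplitude zero is a flat module. -/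
theorem exists_flat_of_bdd {K : Dual.D A} (h : Bdd (flat A) 0 0 K) :
    ∃ N : ModuleCat.{u} A, flat A N ∧
      Nonempty (K ≅ (DerivedCategory.singleFunctor (ModuleCat.{u} A) 0).obj N) := by
  obtain ⟨E, hE, hf, ⟨e⟩⟩ := h
  haveI : E.IsStrictlyGE 0 := (E.isStrictlyGE_iff 0).2 fun i hi => hE i (Or.inl hi)
  haveI : E.IsStrictlyLE 0 := (E.isStrictlyLE_iff 0).2 fun i hi => hE i (Or.inr hi)
  obtain ⟨N, ⟨e'⟩⟩ := CochainComplex.exists_iso_single E 0
  exact ⟨N, good_flat.iso ((show E.X 0 ≅ ((HomologicalComplex.single _ (ComplexShape.up ℤ) 0).obj N).X 0 from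
      (HomologicalComplex.eval _ _ 0).mapIso e') ≪≫
    HomologicalComplex.singleObjXSelf (ComplexShape.up ℤ) 0 N) (hf 0),
    ⟨e.symm ≪≫ DerivedCategory.Q.mapIso e' ≪≫
      ((DerivedCategory.singleFunctorIsoCompQ (ModuleCat.{u} A) 0).app N).symm⟩⟩

end Algebra

variable {X S : Scheme.{u}} (f : X ⟶ S)

/-- The local form on an affine open of the target. -/
theorem exists_flat_local [Surjective f] [LocallyOfFinitePresentation f] [QuasiCompact f]
    {M : DCoh.D S} (hM : DCoh.IsQCohD M) (hpos : ∀ i : ℤ, 0 < i → IsZero (DCoh.HD M i))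
    {P : CochainComplex S.Modules ℤ} (hP : Perfect.Pullback.StalkKProj P)
    (eP : DerivedCategory.Q.obj P ≅ M)
    (hflat : DCoh.HasFlatAmplitudeIn 0 0 (DerivedCategory.Q.obj ((Perfect.Pullback.pC f).obj P)))
    {U : S.Opens} (hU : IsAffineOpen U) :
    ∃ N : ModuleCat.{u} Γ(S, U), flat Γ(S, U) N ∧
      Nonempty ((RD hU.fromSpec).obj M ≅
        DCoh.inD (Spec Γ(S, U)) ((tilde.functor Γ(S, U)).obj N)) := by
  haveI : PreservesFiniteLimits (tilde.functor Γ(S, U)) := QCoh.Tilde.tildeFunctor_preservesFiniteLimits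
  obtain ⟨M₀, hM₀⟩ := exists_chartModule hU hM
  obtain ⟨H, ⟨eH⟩, ⟨eM⟩⟩ := hM₀
  let ι : Scheme.Modules.restrictFunctor U.ι ⋙ Scheme.Modules.pushforward hU.isoSpec.hom ≅
      Scheme.Modules.restrictFunctor hU.fromSpec :=
    restrictPushIso hU ≪≫ (Scheme.Modules.restrictFunctorIsoPullback hU.fromSpec).symm
  let eT : (DCoh.tildeD Γ(S, U)).obj M₀ ≅ (RD hU.fromSpec).obj M :=
    eM ≪≫ DerivedCategory.Q.mapIso ((NatIso.mapHomologicalComplex ι (ComplexShape.up ℤ)).app H) ≪≫
      (RDQ hU.fromSpec H).symm ≪≫ (RD hU.fromSpec).mapIso eH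
  -- the module complex has no positive cohomology
  have hLE : M₀.IsLE 0 := by
    refine (DerivedCategory.isLE_iff _ _).2 fun i hi => ?_
    have h1 : IsZero ((tilde.functor Γ(S, U)).obj ((DerivedCategory.homologyFunctor _ i).obj M₀)) := by
      let e₀ := DerivedCategory.Q.objObjPreimageIso M₀
      have h2 : IsZero (DCoh.HD ((DCoh.tildeD Γ(S, U)).obj M₀) i) :=
        ((Scheme.Modules.restrictFunctor hU.fromSpec).map_isZero (hpos i hi)).of_iso
          ((DerivedCategory.homologyFunctor _ i).mapIso eT ≪≫ Perfect.Coherent.homologyIso hU.fromSpec M i)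
      let K₀ := DerivedCategory.Q.objPreimage M₀
      let F := tilde.functor Γ(S, U)
      let a : (DerivedCategory.homologyFunctor _ i).obj M₀ ≅ K₀.homology i :=
        (DerivedCategory.homologyFunctor _ i).mapIso e₀.symm ≪≫ homologyQIso K₀ i
      let b : DCoh.HD ((DCoh.tildeD Γ(S, U)).obj M₀) i ≅
          ((F.mapHomologicalComplex (ComplexShape.up ℤ)).obj K₀).homology i :=
        (DerivedCategory.homologyFunctor _ i).mapIso
          ((DCoh.tildeD Γ(S, U)).mapIso e₀.symm ≪≫ DR.ExactPush.mapQ F K₀) ≪≫ homologyQIso _ i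
      let c : ((F.mapHomologicalComplex (ComplexShape.up ℤ)).obj K₀).homology i ≅ F.obj (K₀.homology i) :=
        (K₀.sc i).mapHomologyIso F
      exact h2.of_iso (b ≪≫ c ≪≫ F.mapIso a.symm).symm
    exact (IsZero.iff_id_eq_zero _).2 ((tilde.functor Γ(S, U)).map_injective
      (h1.eq_of_src _ _))
  obtain ⟨E, hc, hEp, ⟨eE⟩⟩ := ba_free hLE
  have hEf : ∀ i, flat Γ(S, U) (E.X i) := fun i => flat_of_free _ (hEp i)
  let eU : DerivedCategory.Q.obj ((rC hU.fromSpec).obj P) ≅
      DerivedCategory.Q.obj (((tilde.functor Γ(S, U)).mapHomologicalComplex (ComplexShape.up ℤ)).obj E) :=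
    (RDQ hU.fromSpec P).symm ≪≫ (RD hU.fromSpec).mapIso eP ≪≫ eT.symm ≪≫
      (DCoh.tildeD Γ(S, U)).mapIso eE.symm ≪≫ DR.ExactPush.mapQ (tilde.functor Γ(S, U)) E
  -- an affine scheme covering the preimage
  have hpre : IsCompact ((f ⁻¹ᵁ U : X.Opens) : Set X) :=
    QuasiCompact.isCompact_preimage _ U.isOpen hU.isCompact
  obtain ⟨s, hs⟩ := hpre.elim_finite_subcover
    (fun V : {V : X.Opens // IsAffineOpen V ∧ V ≤ f ⁻¹ᵁ U} => (V.1 : Set X))
    (fun V => V.1.isOpen) fun x hx => by
      obtain ⟨V, hV, hxV, hVU⟩ := exists_isAffineOpen_mem_and_subset (X := X) (x := x) (U := f ⁻¹ᵁ U) hx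
      exact Set.mem_iUnion.2 ⟨⟨V, hV, hVU⟩, hxV⟩
  let V : s → Scheme.{u} := fun V => (V.1.1 : Scheme.{u})
  haveI : ∀ k, IsAffine (V k) := fun k => k.1.2.1
  let W : Scheme.{u} := ∐ V
  let p₀ : W ⟶ X := Sigma.desc fun k => k.1.1.ι
  let B := Γ(W, ⊤)
  let p : Spec B ⟶ X := W.isoSpec.inv ≫ p₀
  have hrange : Set.range (p ≫ f) ⊆ (U : Set S) := by
    rintro _ ⟨z, rfl⟩
    obtain ⟨k, v, hv⟩ := (sigmaOpenCover V).exists_eq (W.isoSpec.inv z)
    show f (p₀ (W.isoSpec.inv z)) ∈ U
    rw [← hv]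
    show f ((Sigma.ι V k ≫ p₀) v) ∈ U
    rw [Sigma.ι_desc]
    exact k.1.2.2 v.2
  let g : Spec B ⟶ Spec Γ(S, U) :=
    IsOpenImmersion.lift hU.fromSpec (p ≫ f) (by rwa [hU.range_fromSpec])
  have hg : g ≫ hU.fromSpec = p ≫ f := IsOpenImmersion.lift_fac _ _ _
  obtain ⟨ψ, hψ⟩ : ∃ ψ, Spec.map ψ = g := ⟨Spec.preimage g, Spec.map_preimage g⟩
  letI : Algebra Γ(S, U) B := ψ.hom.toAlgebra
  haveI : Algebra.FinitePresentation Γ(S, U) B := by
    haveI : LocallyOfFinitePresentation p₀ := IsZariskiLocalAtSource.sigmaDesc fun _ => inferInstance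
    haveI : LocallyOfFinitePresentation (g ≫ hU.fromSpec) := by rw [hg]; infer_instance
    haveI : LocallyOfFinitePresentation g := MorphismProperty.of_isPullback (P := @LocallyOfFinitePresentation)
      (IsPullback.of_horiz_isIso_mono (fst := 𝟙 _) (snd := g) (f := g ≫ hU.fromSpec)
        (g := hU.fromSpec) ⟨by simp⟩) ‹_›
    haveI : LocallyOfFinitePresentation (Spec.map ψ) := by rw [hψ]; infer_instance
    exact (HasRingHomProperty.Spec_iff (P := @LocallyOfFinitePresentation)).1 ‹_›
  have hsurj : Function.Surjective (PrimeSpectrum.comap (algebraMap Γ(S, U) B)) := by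
    intro y
    obtain ⟨x, hx⟩ := f.surjective (hU.fromSpec y)
    have hxU : x ∈ f ⁻¹ᵁ U := by
      show f x ∈ U
      rw [hx]
      exact hU.range_fromSpec.le ⟨y, rfl⟩
    obtain ⟨V₀, hV₀, hxV⟩ := Set.mem_iUnion₂.1 (hs hxU)
    refine ⟨W.isoSpec.hom (Sigma.ι V ⟨V₀, hV₀⟩ ⟨x, hxV⟩), hU.fromSpec.isOpenEmbedding.injective ?_⟩
    show hU.fromSpec ((Spec.map ψ) _) = hU.fromSpec y
    rw [hψ, ← Scheme.Hom.comp_apply, hg, ← Scheme.Hom.comp_apply, ← Scheme.Hom.comp_apply, ← hx]
    simp [p, p₀]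
    rfl
  -- local amplitude upstairs
  have hloc : ∀ w : PrimeSpectrum B, ∃ (L : Type u) (_ : CommRing L) (_ : Algebra B L),
      IsLocalization.AtPrime L w.asIdeal ∧
        Bdd (flat L) 0 0 (DerivedCategory.Q.obj
          ((ext ((algebraMap B L).comp (algebraMap Γ(S, U) B))).obj E)) := by
    intro w
    let z : Spec B := w
    let a : Spec Γ(S, U) := (Spec.map ψ) z
    let L := (Spec B).presheaf.stalk z
    let σw := TildeStalk.σ B z
    let σa := TildeStalk.σ Γ(S, U) a
    refine ⟨L, inferInstance, StructureSheaf.stalkAlgebra B z, StructureSheaf.IsLocalization.to_stalk B z, ?_⟩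
    let gz := ((Spec.map ψ).stalkMap z).hom
    have hsq : gz.comp σa = σw.comp ψ.hom := RingHom.ext fun r => stalkMap_toStalk_apply ψ z r
    haveI : PreservesFiniteColimits (stalkModFunctor (Spec Γ(S, U)) a) :=
      PreservesColimitsOfSize.preservesFiniteColimits _
    haveI := BaseChangeU.hasLBaseChange gz
    haveI := BaseChangeU.hasLBaseChange (p.stalkMap z).hom
    let P₁ := (Perfect.Pullback.pC hU.fromSpec).obj P
    -- the model at the point
    let T₁ := (stC a).obj P₁
    haveI hT₁ : T₁.IsKProjective :=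
      @CochainComplex.isKProjective_of_iso _ _ _ _ _ (stalkPbIso hU.fromSpec a P)
        (@DR.BaseChangeU.isKProjective_ext _ _ _ _ _ ((stC (hU.fromSpec a)).obj P) (hP _))
    let F := (extC σa).obj E
    let eA : DerivedCategory.Q.obj T₁ ≅ DerivedCategory.Q.obj F :=
      DerivedCategory.Q.mapIso ((stC a).mapIso ((Perfect.Pullback.rCIso hU.fromSpec).app P).symm) ≪≫
        (DR.ExactPush.mapQ (stalkModFunctor (Spec Γ(S, U)) a) _).symm ≪≫
        (stalkModFunctor (Spec Γ(S, U)) a).mapDerivedCategory.mapIso eU ≪≫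
        DR.ExactPush.mapQ (stalkModFunctor (Spec Γ(S, U)) a) _ ≪≫
        DerivedCategory.Q.mapIso ((NatIso.mapHomologicalComplex
          (TildeStalk.tildeStalkIso Γ(S, U) a).symm (ComplexShape.up ℤ)).app E)
    -- flat amplitude of the pullback to `Spec B`
    let T₂ := (stC (p z)).obj ((Perfect.Pullback.pC f).obj P)
    haveI hT₂ : T₂.IsKProjective :=
      @CochainComplex.isKProjective_of_iso _ _ _ _ _ (stalkPbIso f (p z) P)
        (@DR.BaseChangeU.isKProjective_ext _ _ _ _ _ ((stC (f (p z))).obj P) (hP _))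
    haveI : PreservesFiniteColimits (stalkModFunctor X (p z)) :=
      PreservesColimitsOfSize.preservesFiniteColimits _
    have hT₂b : Bdd (flat (X.presheaf.stalk (p z))) 0 0 (DerivedCategory.Q.obj T₂) :=
      (Perfect.FlatPerfect.bdd_stalk hflat (p z)).of_iso
        (DR.ExactPush.mapQ (stalkModFunctor X (p z)) _)
    have hb := (bdd_LBaseChange (p.stalkMap z).hom (fun _ h => h)
      (fun M h => ext_flat (p.stalkMap z).hom M h) hT₂b).of_iso (bc (p.stalkMap z).hom T₂)
    let cG : (Perfect.Pullback.pC p).obj ((Perfect.Pullback.pC f).obj P) ≅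
        (Perfect.Pullback.pC (Spec.map ψ)).obj P₁ :=
      (Perfect.Pullback.pCComp p f).app P ≪≫
        (NatIso.mapHomologicalComplex (Scheme.Modules.pullbackCongr
          (show p ≫ f = Spec.map ψ ≫ hU.fromSpec by rw [hψ, hg])) (ComplexShape.up ℤ)).app P ≪≫
        ((Perfect.Pullback.pCComp (Spec.map ψ) hU.fromSpec).app P).symm
    let eB : DerivedCategory.Q.obj ((extC (p.stalkMap z).hom).obj T₂) ≅
        DerivedCategory.Q.obj ((extC gz).obj F) :=
      DerivedCategory.Q.mapIso (stalkPbIso p z _ ≪≫ (stC z).mapIso cG ≪≫ (stalkPbIso (Spec.map ψ) z P₁).symm) ≪≫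
        (bc gz T₁).symm ≪≫ (DRing.LBaseChange gz).mapIso eA ≪≫
        bcFlat gz F 0 (fun i hi => (ModuleCat.extendScalars σa).map_isZero (hc i hi))
          (fun i => ext_flat σa _ (hEf i))
    refine (hb.of_iso eB).of_iso (DerivedCategory.Q.mapIso ?_)
    exact (NatIso.mapHomologicalComplex (ModuleCat.extendScalarsComp σa gz).symm (ComplexShape.up ℤ)).app E ≪≫
      (NatIso.mapHomologicalComplex (eqToIso (congrArg (fun h => ModuleCat.extendScalars.{u, u, u} h) hsq))
        (ComplexShape.up ℤ)).app E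
  have hbdd := bdd_of_ex E hc hEf fun N _ _ =>
    SurjDetect.ex_of_surjective hEf hsurj (fun N' _ _ _ _ => ex_of_local E hc hEf hloc N') N
  obtain ⟨N, hN, ⟨eN⟩⟩ := exists_flat_of_bdd hbdd
  exact ⟨N, hN, ⟨eT.symm ≪≫ (DCoh.tildeD Γ(S, U)).mapIso (eE.symm ≪≫ eN) ≪≫
    ((tilde.functor Γ(S, U)).mapDerivedCategorySingleFunctor 0).app N⟩⟩

/-- Flatness in degree zero descends. -/
theorem flat_in_degree_zero [Surjective f] [LocallyOfFinitePresentation f] [QuasiCompact f]
    [DCoh.HasLpull f] (M : DCoh.D S) (hM : DCoh.IsQCohD M) (hpos : ∀ i : ℤ, 0 < i → IsZero (DCoh.HD M i))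
    (F : X.Modules) (hF : FlatMod.IsFlat F) (e : (DCoh.Lpull f).obj M ≅ DCoh.inD X F) :
    ∃ G : S.Modules, FlatMod.IsFlat G ∧ Nonempty (M ≅ DCoh.inD S G) := by
  obtain ⟨P, hP, ⟨eP⟩, ⟨eL⟩⟩ := Perfect.Pullback.exists_Lpull_iso f M
  have hflat : DCoh.HasFlatAmplitudeIn 0 0 (DerivedCategory.Q.obj ((Perfect.Pullback.pC f).obj P)) := by
    refine ⟨(HomologicalComplex.single X.Modules (ComplexShape.up ℤ) 0).obj F,
      fun i hi => HomologicalComplex.isZero_single_obj_X _ _ _ i (by omega), fun i => ?_,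
      ⟨((DerivedCategory.singleFunctorIsoCompQ X.Modules 0).app F).symm ≪≫ e.symm ≪≫ eL⟩⟩
    rcases eq_or_ne i 0 with rfl | hi
    · intro x
      haveI : Module.Flat (X.presheaf.stalk x) (F.presheaf.stalk x) := hF x
      exact Module.Flat.of_linearEquiv (stalkLinearEquiv
        (HomologicalComplex.singleObjXSelf (ComplexShape.up ℤ) 0 F) x)
    · intro x
      haveI : Subsingleton (((HomologicalComplex.single X.Modules (ComplexShape.up ℤ) 0).obj F).X i |>.presheaf.stalk x) :=
        Modules.Stalk.isZero_iff_stalk_subsingleton.1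
          (HomologicalComplex.isZero_single_obj_X _ _ _ i hi) x
      show Module.Flat (X.presheaf.stalk x) _
      infer_instance
  have hlocal := fun (U : S.Opens) (hU : IsAffineOpen U) =>
    exists_flat_local f hM hpos (fun y => LeftExists.isKProjective_stalk hP y) eP hflat hU
  have key : ∀ y : S, (∀ i : ℤ, i ≠ 0 → Subsingleton ((DCoh.HD M i).presheaf.stalk y)) ∧
      FlatMod.IsFlatAt (DCoh.HD M 0) y := by
    intro y
    obtain ⟨U, hU, hyU, -⟩ := exists_isAffineOpen_mem_and_subset (X := S) (x := y) (U := ⊤) trivial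
    obtain ⟨z, rfl⟩ : y ∈ Set.range hU.fromSpec := by rw [hU.range_fromSpec]; exact hyU
    obtain ⟨N, hN, ⟨eN⟩⟩ := hlocal U hU
    let eH : ∀ i, (DCoh.HD M i).restrict hU.fromSpec ≅
        DCoh.HD (DCoh.inD (Spec Γ(S, U)) ((tilde.functor Γ(S, U)).obj N)) i := fun i =>
      (Perfect.Coherent.homologyIso hU.fromSpec M i).symm ≪≫
        (DerivedCategory.homologyFunctor _ i).mapIso eN
    refine ⟨fun i hi => ?_, ?_⟩
    · have h0 : IsZero ((DCoh.HD M i).restrict hU.fromSpec) :=
        (H56.PCSingle.isZero_HD_inD _ i hi).of_iso (eH i)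
      haveI := Modules.Stalk.isZero_iff_stalk_subsingleton.1 h0 z
      exact (Modules.StalkRestrict.restrictStalkAddEquiv hU.fromSpec (DCoh.HD M i) z).symm.toEquiv.subsingleton
    · refine Perfect.FlatPerfect.isFlatAt_of_restrict hU.fromSpec z ?_
      have e0 := eH 0 ≪≫ (DerivedCategory.singleFunctorCompHomologyFunctorIso _ 0).app _
      have hT : Module.Flat ((Spec Γ(S, U)).presheaf.stalk z)
          ((stalkModFunctor (Spec Γ(S, U)) z).obj ((tilde.functor Γ(S, U)).obj N) : Type u) :=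
        good_flat.iso ((TildeStalk.tildeStalkIso Γ(S, U) z).app N) (ext_flat _ _ hN)
      haveI : Module.Flat ((Spec Γ(S, U)).presheaf.stalk z)
          ((((𝟭 (Spec Γ(S, U)).Modules).obj ((tilde.functor Γ(S, U)).obj N))).presheaf.stalk z) := hT
      exact Module.Flat.of_linearEquiv (stalkLinearEquiv e0 z)
  haveI : M.IsLE 0 := (DerivedCategory.isLE_iff _ _).2 fun i hi => hpos i hi
  haveI : M.IsGE 0 := (DerivedCategory.isGE_iff _ _).2 fun i hi =>
    Modules.Stalk.isZero_iff_stalk_subsingleton.2 fun y => (key y).1 i hi.ne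
  obtain ⟨G, ⟨eG⟩⟩ := DerivedCategory.exists_iso_singleFunctor_obj_of_isGE_of_isLE M 0
  refine ⟨G, fun y => ?_, ⟨eG⟩⟩
  haveI : Module.Flat (S.presheaf.stalk y) ((DCoh.HD M 0).presheaf.stalk y) := (key y).2
  exact Module.Flat.of_linearEquiv (stalkLinearEquiv
    (((DerivedCategory.singleFunctorCompHomologyFunctorIso _ 0).app G).symm ≪≫
      (DerivedCategory.homologyFunctor _ 0).mapIso eG.symm) y)

end Groth.Agent.H56.RelPC.SurjFlat
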