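import Groth.Agent.H54.RelPCTensor
import Groth.Agent.Lib.FlatCx.Ker
import Mathlib.CategoryTheory.Abelian.Exact
import Mathlib.Algebra.Homology.DerivedCategory.SingleTriangle

/-!
Relative pseudo-coherence of the tensor product of a complex with a flat pseudo-coherent module.
-/

set_option autoImplicit false
set_option linter.style.haveILetI false

universe u

open CategoryTheory CategoryTheory.Limits CategoryTheory.Pretriangulated
open Groth.Agent.Lib.DR
open Groth.Agent.Lib.DR.Basic Groth.Agent.Lib.DR.FiniteComplex Groth.Agent.Lib.DR.PseudoCoherent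
open Groth.Agent.H54.PCRestrict
open scoped TensorProduct

attribute [local instance] HasDerivedCategory.standard

namespace Groth.Agent.H56.RelPC

section

variable {A P : Type u} [CommRing A] [CommRing P] [Algebra A P] (N : Type u) [AddCommGroup N]
  [Module P N] [Module A N] [IsScalarTower A P N]

/-- `M ↦ N ⊗[A] M`. -/
noncomputable def tens : ModuleCat.{u} A ⥤ ModuleCat.{u} P where
  obj M := ModuleCat.of P (N ⊗[A] M)
  map f := ModuleCat.ofHom (TensorProduct.AlgebraTensorModule.lTensor P N f.hom)
  map_id M := by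
    refine ModuleCat.hom_ext (TensorProduct.AlgebraTensorModule.ext fun n x => ?_)
    rfl
  map_comp f g := by
    refine ModuleCat.hom_ext (TensorProduct.AlgebraTensorModule.ext fun n x => ?_)
    rfl

instance additive_tens : (tens (A := A) (P := P) N).Additive where
  map_add {M M'} {f g} :=
    ModuleCat.hom_ext (map_add (TensorProduct.AlgebraTensorModule.lTensor P N) f.hom g.hom)

theorem tens_hom_ext {M : ModuleCat.{u} A} {T : ModuleCat.{u} P} {f g : (tens (P := P) N).obj M ⟶ T}
    (h : ∀ (n : N) (x : M), f.hom (n ⊗ₜ[A] x) = g.hom (n ⊗ₜ[A] x)) : f = g := by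
  refine ModuleCat.hom_ext (LinearMap.ext fun (t : N ⊗[A] M) => ?_)
  induction t using TensorProduct.induction_on with
  | zero => exact (map_zero f.hom).trans (map_zero g.hom).symm
  | tmul n x => exact h n x
  | add a b ha hb => exact ((map_add f.hom a b).trans (congrArg₂ (· + ·) ha hb)).trans (map_add g.hom a b).symm

variable [Module.Flat A N]

instance preservesHomology_tens : (tens (A := A) (P := P) N).PreservesHomology := by
  refine Functor.preservesHomology_of_map_exact _ fun S hS => ?_
  rw [ShortComplex.ShortExact.moduleCat_exact_iff_function_exact] at hS ⊢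
  exact Module.Flat.lTensor_exact N hS

instance preservesFiniteLimits_tens : PreservesFiniteLimits (tens (A := A) (P := P) N) :=
  Functor.preservesFiniteLimits_of_preservesHomology _

instance preservesFiniteColimits_tens : PreservesFiniteColimits (tens (A := A) (P := P) N) :=
  Functor.preservesFiniteColimits_of_preservesHomology _

variable {N} {N' : Type u} [AddCommGroup N'] [Module P N'] [Module A N'] [IsScalarTower A P N']
  [Module.Flat A N']

omit [Module.Flat A N] [Module.Flat A N'] in
/-- Functoriality in the module. -/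
noncomputable def tensMap (g : N →ₗ[P] N') :
    tens (A := A) (P := P) N ⟶ tens (A := A) (P := P) N' where
  app M := ModuleCat.ofHom (TensorProduct.AlgebraTensorModule.rTensor A M g)
  naturality {M M'} f := by
    refine tens_hom_ext _ fun n x => ?_
    rfl

/-- Isomorphic modules give isomorphic functors. -/
noncomputable def tensCongr (e : N ≃ₗ[P] N') :
    tens (A := A) (P := P) N ≅ tens (A := A) (P := P) N' where
  hom := tensMap e.toLinearMap
  inv := tensMap e.symm.toLinearMap
  hom_inv_id := by
    refine NatTrans.ext (funext fun M => tens_hom_ext _ fun n x => ?_)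
    exact congrArg (· ⊗ₜ[A] x) (e.symm_apply_apply n)
  inv_hom_id := by
    refine NatTrans.ext (funext fun M => tens_hom_ext _ fun n x => ?_)
    exact congrArg (· ⊗ₜ[A] x) (e.apply_symm_apply n)

end

variable {A P Q : Type u} [CommRing A] [CommRing P] [CommRing Q] [Algebra A P] (ρ : Q →+* P)

/-- The complex `N ⊗ X` seen over `Q`. -/
noncomputable abbrev tensD (N : Type u) [AddCommGroup N] [Module P N] [Module A N]
    [IsScalarTower A P N] [Module.Flat A N] (X : Dual.D A) : Dual.D Q :=
  (DRing.restrictD ρ).obj ((tens (A := A) (P := P) N).mapDerivedCategory.obj X)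

/-- Cohomology of a flat tensor product. -/
theorem nonempty_homology_tens (N : Type u) [AddCommGroup N] [Module P N] [Module A N]
    [IsScalarTower A P N] [Module.Flat A N] (X : Dual.D A) (j : ℤ) :
    Nonempty ((DerivedCategory.homologyFunctor (ModuleCat.{u} P) j).obj
        ((tens (A := A) (P := P) N).mapDerivedCategory.obj X) ≅
      (tens (A := A) (P := P) N).obj ((DerivedCategory.homologyFunctor (ModuleCat.{u} A) j).obj X)) := by
  let K := DerivedCategory.Q.objPreimage X
  let e : DerivedCategory.Q.obj K ≅ X := DerivedCategory.Q.objObjPreimageIso X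
  exact ⟨(DerivedCategory.homologyFunctor _ j).mapIso ((tens N).mapDerivedCategory.mapIso e.symm ≪≫
      ExactPush.mapQ (tens N) K) ≪≫ homologyQIso _ j ≪≫ (K.sc j).mapHomologyIso (tens N) ≪≫
    (tens N).mapIso ((homologyQIso K j).symm ≪≫ (DerivedCategory.homologyFunctor _ j).mapIso e)⟩

/-- An upper bound after tensoring with the algebra bounds all tensor products. -/
theorem isLE_tensD_of_algebra [Module.Flat A P] (N : Type u) [AddCommGroup N] [Module P N]
    [Module A N] [IsScalarTower A P N] [Module.Flat A N] {X : Dual.D A} {b : ℤ}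
    (hX : (tensD ρ P X).IsLE b) : (tensD ρ N X).IsLE b := by
  refine ExactPush.isLE_map _ ((isLE_iff_subsingleton _ b).2 fun j hj => ?_)
  obtain ⟨e⟩ := nonempty_homology_tens (P := P) N X j
  obtain ⟨e'⟩ := nonempty_homology_tens (P := P) P X j
  obtain ⟨e''⟩ := homology_res ρ ((tens (A := A) (P := P) P).mapDerivedCategory.obj X) j
  haveI : Subsingleton ((DerivedCategory.homologyFunctor (ModuleCat.{u} P) j).obj
      ((tens (A := A) (P := P) P).mapDerivedCategory.obj X) : Type u) :=
    haveI := (isLE_iff_subsingleton _ b).1 hX j hj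
    e''.toLinearEquiv.symm.toEquiv.subsingleton
  let M := (DerivedCategory.homologyFunctor (ModuleCat.{u} A) j).obj X
  haveI : Subsingleton (P ⊗[A] M) := e'.toLinearEquiv.symm.toEquiv.subsingleton
  haveI : Subsingleton (N ⊗[A] M) := by
    refine subsingleton_of_forall_eq 0 fun t => ?_
    induction t using TensorProduct.induction_on with
    | zero => rfl
    | add a b ha hb => rw [ha, hb, add_zero]
    | tmul n x =>
      have h := congrArg (TensorProduct.AlgebraTensorModule.rTensor A M (LinearMap.toSpanSingleton P N n))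
        (Subsingleton.elim ((1 : P) ⊗ₜ[A] x) 0)
      simpa using h
  haveI : Subsingleton ((tens (A := A) (P := P) N).obj M : Type u) := ‹Subsingleton (N ⊗[A] M)›
  exact e.toLinearEquiv.toEquiv.subsingleton

/-- Isomorphic modules. -/
theorem pcn_tensD_congr {N N' : Type u} [AddCommGroup N] [Module P N] [Module A N]
    [IsScalarTower A P N] [Module.Flat A N] [AddCommGroup N'] [Module P N'] [Module A N']
    [IsScalarTower A P N'] [Module.Flat A N'] (e : N ≃ₗ[P] N') {X : Dual.D A} {m : ℤ}
    (h : PCn (ff Q) m (tensD ρ N X)) : PCn (ff Q) m (tensD ρ N' X) := by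
  let i := DerivedCategory.Q.objObjPreimageIso X
  exact h.of_iso ((DRing.restrictD ρ).mapIso
    ((tens N).mapDerivedCategory.mapIso i.symm ≪≫ ExactPush.mapQ (tens N) _ ≪≫
      DerivedCategory.Q.mapIso ((NatIso.mapHomologicalComplex (tensCongr e) _).app _) ≪≫
      (ExactPush.mapQ (tens N') _).symm ≪≫ (tens N').mapDerivedCategory.mapIso i))

/-- A short exact sequence of flat modules gives a distinguished triangle. -/
theorem exists_triangle {N₁ N₂ N₃ : Type u} [AddCommGroup N₁] [Module P N₁] [Module A N₁]
    [IsScalarTower A P N₁] [Module.Flat A N₁] [AddCommGroup N₂] [Module P N₂] [Module A N₂]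
    [IsScalarTower A P N₂] [Module.Flat A N₂] [AddCommGroup N₃] [Module P N₃] [Module A N₃]
    [IsScalarTower A P N₃] [Module.Flat A N₃] (f : N₁ →ₗ[P] N₂) (g : N₂ →ₗ[P] N₃)
    (hf : Function.Injective f) (hg : Function.Surjective g) (hfg : Function.Exact f g) (X : Dual.D A) :
    ∃ T ∈ distTriang (Dual.D Q), Nonempty (T.obj₁ ≅ tensD ρ N₁ X) ∧
      Nonempty (T.obj₂ ≅ tensD ρ N₂ X) ∧ Nonempty (T.obj₃ ≅ tensD ρ N₃ X) := by
  let C := DerivedCategory.Q.objPreimage X
  let i := DerivedCategory.Q.objObjPreimageIso X
  let F := fun (N : Type u) [AddCommGroup N] [Module P N] [Module A N] [IsScalarTower A P N] =>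
    (tens (A := A) (P := P) N).mapHomologicalComplex (ComplexShape.up ℤ)
  let u₁ := (NatTrans.mapHomologicalComplex (tensMap (A := A) f) (ComplexShape.up ℤ)).app C
  let u₂ := (NatTrans.mapHomologicalComplex (tensMap (A := A) g) (ComplexShape.up ℤ)).app C
  have w : u₁ ≫ u₂ = 0 := by
    refine HomologicalComplex.hom_ext _ _ fun k => tens_hom_ext _ fun n x => ?_
    show (g (f n)) ⊗ₜ[A] x = 0
    rw [hfg.apply_apply_eq_zero, TensorProduct.zero_tmul]
  let S := ShortComplex.mk u₁ u₂ w
  have hS : S.ShortExact := by
    refine HomologicalComplex.shortExact_of_degreewise_shortExact S fun k => ?_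
    refine ModuleCat.shortComplex_shortExact _ ?_ ?_ ?_
    · exact rTensor_exact (C.X k) (f := f.restrictScalars A) (g := g.restrictScalars A) hfg hg
    · show Function.Injective ((f.restrictScalars A).rTensor (C.X k))
      rw [← LinearMap.lTensor_inj_iff_rTensor_inj]
      exact LinearMap.lTensor_injective_of_exact_of_flat (g.restrictScalars A) hg
        (f.restrictScalars A) hf hfg (C.X k)
    · exact LinearMap.rTensor_surjective (C.X k) (g := g.restrictScalars A) hg
  refine ⟨(DRing.restrictD ρ).mapTriangle.obj (DerivedCategory.triangleOfSES hS),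
    (DRing.restrictD ρ).map_distinguished _ (DerivedCategory.triangleOfSES_distinguished hS),
    ⟨(DRing.restrictD ρ).mapIso ((ExactPush.mapQ (tens N₁) C).symm ≪≫
      (tens N₁).mapDerivedCategory.mapIso i)⟩,
    ⟨(DRing.restrictD ρ).mapIso ((ExactPush.mapQ (tens N₂) C).symm ≪≫
      (tens N₂).mapDerivedCategory.mapIso i)⟩,
    ⟨(DRing.restrictD ρ).mapIso ((ExactPush.mapQ (tens N₃) C).symm ≪≫
      (tens N₃).mapDerivedCategory.mapIso i)⟩⟩

instance flat_fin [Module.Flat A P] (k : ℕ) : Module.Flat A (Fin k → P) :=
  haveI : Module.Flat P (Fin k → P) := Module.Flat.of_linearEquiv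
    (Finsupp.linearEquivFunOnFinite P P (Fin k)).symm
  Module.Flat.trans A P (Fin k → P)

/-- Tensoring with finite free modules. -/
theorem pcn_tensD_free [Module.Flat A P] {X : Dual.D A} {m : ℤ} (h : PCn (ff Q) m (tensD ρ P X)) :
    ∀ k : ℕ, PCn (ff Q) m (tensD ρ (Fin k → P) X) := by
  intro k
  induction k with
  | zero =>
    refine (bdd_zero good_ff ((DRing.restrictD ρ).map_isZero ?_) 0 0).pcn _
    let i := DerivedCategory.Q.objObjPreimageIso X
    refine IsZero.of_iso ?_ ((tens _).mapDerivedCategory.mapIso i.symm ≪≫ ExactPush.mapQ (tens _) _)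
    refine DerivedCategory.Q.map_isZero ?_
    rw [IsZero.iff_id_eq_zero]
    refine HomologicalComplex.hom_ext _ _ fun k => tens_hom_ext _ fun n x => ?_
    show n ⊗ₜ[A] x = 0
    rw [Subsingleton.elim n 0, TensorProduct.zero_tmul]
  | succ k ih =>
    let f : P →ₗ[P] (Fin (k + 1) → P) :=
      ((Fin.consLinearEquiv P fun _ : Fin (k + 1) => P).toLinearMap).comp (LinearMap.inl P P (Fin k → P))
    let g : (Fin (k + 1) → P) →ₗ[P] (Fin k → P) := LinearMap.funLeft P P Fin.succ
    obtain ⟨T, hT, ⟨e₁⟩, ⟨e₂⟩, ⟨e₃⟩⟩ := exists_triangle ρ f g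
      (fun a b hab => by simpa [f] using congrFun hab 0)
      (fun y => ⟨Fin.cons 0 y, funext fun j => by simp [g, LinearMap.funLeft_apply]⟩)
      (fun y => ⟨fun hy => ⟨y 0, funext fun j => by
          induction j using Fin.cases with
          | zero => simp [f]
          | succ j => simpa [f, g] using (congrFun hy j).symm⟩,
        fun ⟨a, ha⟩ => ha ▸ funext fun j => by simp [f, g]⟩) X
    exact (PCn.ext good_ff projective_of_ff T hT (h.of_iso e₁.symm) (ih.of_iso e₃.symm)).of_iso e₂

/-- Tensoring with a flat pseudo-coherent module. -/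
theorem pcn_tensD [Module.Flat A P] {X : Dual.D A} {m : ℤ}
    (h : PCn (ff Q) m (tensD ρ P X)) (N : Type u) [AddCommGroup N] [Module P N] [Module A N]
    [IsScalarTower A P N] [Module.Flat A N] (hN : ∀ j, PCn (ff P) j (Dual.inD P N)) :
    PCn (ff Q) m (tensD ρ N X) := by
  obtain ⟨b, hX⟩ := h.exists_isLE
  suffices key : ∀ (k : ℕ) (l : ℤ), m ≤ l → b + 1 ≤ l + k → ∀ (N : Type u) [AddCommGroup N]
      [Module P N] [Module A N] [IsScalarTower A P N] [Module.Flat A N],
      (∀ j, PCn (ff P) j (Dual.inD P N)) → PCn (ff Q) l (tensD ρ N X) from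
    key (b + 1 - m).toNat m le_rfl (by omega) N hN
  intro k
  induction k with
  | zero => exact fun l _ hl N _ _ _ _ _ _ => pcn_of_isLE good_ff (isLE_mono (isLE_tensD_of_algebra ρ N hX) (by omega))
  | succ k ih =>
    intro l hml hl N _ _ _ _ _ hN
    haveI : Module.Finite P N := by
      have hfin := (TopCohomology.finite_top ((TopCohomology.pcn_ff_iff_fproj _ _).1 (hN 0)) (le_refl 0)
        (inferInstance : DerivedCategory.IsLE (Dual.inD P N) 0)).1
      exact @Module.Finite.equiv _ _ _ _ _ _ _ _ hfin ((DerivedCategory.singleFunctorCompHomologyFunctorIso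
        (ModuleCat.{u} P) 0).app (ModuleCat.of P N)).toLinearEquiv
    obtain ⟨n, π, hπ⟩ := Module.Finite.exists_fin' P N
    let K := LinearMap.ker π
    haveI : Module.Flat A K := Groth.Agent.Lib.FlatCx.Ker.flat_of_exact (K.subtype.restrictScalars A)
      (π.restrictScalars A) Subtype.val_injective hπ (LinearMap.exact_subtype_ker_map π)
    have hK : ∀ j, PCn (ff P) j (Dual.inD P K) := fun j => by
      let S : ShortComplex (ModuleCat.{u} P) := ShortComplex.mk (ModuleCat.ofHom K.subtype)
        (ModuleCat.ofHom π) (ModuleCat.hom_ext (LinearMap.comp_ker_subtype π))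
      have hS : S.ShortExact := ModuleCat.shortComplex_shortExact _
        (LinearMap.exact_subtype_ker_map π) Subtype.val_injective hπ
      exact PCn.fiber good_ff projective_of_ff _ hS.singleTriangle_distinguished
        ((bdd_single good_ff (show ff P (ModuleCat.of P (Fin n → P)) from
          ⟨inferInstanceAs (Module.Finite P (Fin n → P)), inferInstanceAs (Module.Free P (Fin n → P))⟩) 0).pcn j)
        (hN (j - 1))
    obtain ⟨T, hT, ⟨e₁⟩, ⟨e₂⟩, ⟨e₃⟩⟩ := exists_triangle ρ K.subtype π Subtype.val_injective hπ
      (LinearMap.exact_subtype_ker_map π) X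
    exact (PCn.cone good_ff projective_of_ff T hT ((ih (l + 1) (by omega) (by omega) K hK).of_iso e₁.symm)
      (((pcn_tensD_free ρ h n).mono hml).of_iso e₂.symm)).of_iso e₃

end Groth.Agent.H56.RelPC
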