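import Groth.Agent.H56.RelPC.Square
import Groth.Agent.H56.RelPC.RingMap
import Mathlib.RingTheory.Spectrum.Prime.Topology

/-!
The chart test for a ring presentation of an affine open, and its independence of the presentation.
-/

set_option autoImplicit false
set_option linter.style.haveILetI false

universe u

open CategoryTheory Limits AlgebraicGeometry TopologicalSpace

namespace Groth.Agent.H56.RelPC

open Groth.Agent.Lib Groth.Agent.Lib.Perfect.Basic Groth.Agent.Lib.Perfect.PseudoCoh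

attribute [local instance] HasDerivedCategory.standard

variable {X Y Y' Z Z' : Scheme.{u}}

section Imm

/-- The test along a closed immersion `c : Z ⟶ Y` and an open immersion `j : Z ⟶ X`. -/
def PCTest (m : ℤ) (K : DCoh.D X) (c : Z ⟶ Y) [IsClosedImmersion c] (j : Z ⟶ X)
    [IsOpenImmersion j] : Prop :=
  ∀ x, PCAt m ((GD c j).obj K) x

/-- `GD` as a composite. -/
noncomputable def GDIso (c : Z ⟶ Y) [IsClosedImmersion c] (j : Z ⟶ X) [IsOpenImmersion j]
    (K : DCoh.D X) : (PD c).obj ((RD j).obj K) ≅ (GD c j).obj K :=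
  mapDerivedComp (Scheme.Modules.restrictFunctor j) (Scheme.Modules.pushforward c) K

theorem pcAt_GD_of_notMem {c : Z ⟶ Y} [IsClosedImmersion c] {j : Z ⟶ X} [IsOpenImmersion j]
    (m : ℤ) (K : DCoh.D X) {x : Y} (hx : x ∉ Set.range c) : PCAt m ((GD c j).obj K) x :=
  (pcAt_PD_of_notMem c _ m hx).of_iso (GDIso c j K)

theorem pcTest_iff_restrict {c : Z ⟶ Y} [IsClosedImmersion c] (hc : PCStr c) (j : Z ⟶ X)
    [IsOpenImmersion j] (m : ℤ) (K : DCoh.D X) :
    PCTest m K c j ↔ ∀ z, PCAt m ((RD j).obj K) z :=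
  ⟨fun h => pcAt_of_push c hc fun x => (h x).of_iso (GDIso c j K).symm,
    fun h x => (pcAt_push c hc h x).of_iso (GDIso c j K)⟩

theorem pcTest_comp {c : Z ⟶ Y} [IsClosedImmersion c] {d : Y ⟶ Y'} [IsClosedImmersion d]
    (hd : PCStr d) {e : Z ⟶ Y'} [IsClosedImmersion e] (he : c ≫ d = e) (j : Z ⟶ X)
    [IsOpenImmersion j] (m : ℤ) (K : DCoh.D X) : PCTest m K e j ↔ PCTest m K c j := by
  subst he
  let i : (PD d).obj ((GD c j).obj K) ≅ (GD (c ≫ d) j).obj K :=
    (PD d).mapIso (GDIso c j K).symm ≪≫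
      mapDerivedComp (Scheme.Modules.pushforward c) (Scheme.Modules.pushforward d) _ ≪≫
      mapDerivedCongr _ (Scheme.Modules.pushforwardComp c d) _ ≪≫ GDIso (c ≫ d) j K
  exact ⟨fun h => pcAt_of_push d hd fun x => (h x).of_iso i.symm,
    fun h x => (pcAt_push d hd h x).of_iso i⟩

/-- The test over an open of the ambient scheme. -/
theorem pcTest_square {c : Z ⟶ Y} [IsClosedImmersion c] {c' : Z' ⟶ Y'} [IsClosedImmersion c']
    {v : Z' ⟶ Z} [IsOpenImmersion v] {s : Y' ⟶ Y} [IsOpenImmersion s] (H : c' ≫ s = v ≫ c)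
    (H' : c ⁻¹ᵁ s.opensRange = v.opensRange) {j : Z ⟶ X} [IsOpenImmersion j] {j' : Z' ⟶ X}
    [IsOpenImmersion j'] (hj : v ≫ j = j') (m : ℤ) (K : DCoh.D X) :
    PCTest m K c' j' ↔ ∀ x, PCAt m ((GD c j).obj K) (s x) := by
  subst hj
  let F := G c j ⋙ Scheme.Modules.restrictFunctor s
  haveI : PreservesFiniteLimits F := comp_preservesFiniteLimits _ _
  haveI : PreservesFiniteColimits F := comp_preservesFiniteColimits _ _
  let e : F ≅ G c' (v ≫ j) :=
    Functor.associator _ _ _ ≪≫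
      Functor.isoWhiskerLeft _ (squareIso (IsOpenImmersion.isPullback c' v s c H.symm H')) ≪≫
      (Functor.associator _ _ _).symm ≪≫
      Functor.isoWhiskerRight (Scheme.Modules.restrictFunctorComp v j).symm _
  let i : (RD s).obj ((GD c j).obj K) ≅ (GD c' (v ≫ j)).obj K :=
    mapDerivedComp (G c j) (Scheme.Modules.restrictFunctor s) K ≪≫ mapDerivedCongr F e K
  exact ⟨fun h x => PCAt.of_restrict (j := s) (y := x) rfl ((h x).of_iso i.symm),
    fun h x => (PCAt.restrict s x (h x)).of_iso i⟩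

end Imm

section Ring

variable {U : X.Opens}

/-- The morphism to the spectrum of a ring mapping to the sections. -/
noncomputable abbrev imm (U : X.Opens) {P : Type u} [CommRing P] (φ : P →+* Γ(X, U)) :
    (U : Scheme.{u}) ⟶ Spec (CommRingCat.of P) :=
  U.toSpecΓ ≫ Spec.map (CommRingCat.ofHom φ)

theorem isClosedImmersion_imm (hU : IsAffineOpen U) {P : Type u} [CommRing P]
    {φ : P →+* Γ(X, U)} (hφ : Function.Surjective φ) : IsClosedImmersion (imm U φ) := by
  have : IsClosedImmersion (Spec.map (CommRingCat.ofHom φ)) :=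
    IsClosedImmersion.spec_of_surjective _ hφ
  rw [imm, ← hU.isoSpec_hom]
  infer_instance

/-- The chart test for a presentation. -/
def RingTest (m : ℤ) (K : DCoh.D X) (U : X.Opens) {P : Type u} [CommRing P]
    (φ : P →+* Γ(X, U)) : Prop :=
  ∃ _ : IsClosedImmersion (imm U φ), PCTest m K (imm U φ) U.ι

theorem ringTest_iff_chartPC (hU : IsAffineOpen U) {S : Scheme.{u}} {V : S.Opens} {n : ℕ}
    {φ : MvPolynomial (Fin n) Γ(S, V) →+* Γ(X, U)} (hφ : Function.Surjective φ) (m : ℤ)
    (K : DCoh.D X) : DerSch.ChartPC m K U V φ ↔ RingTest m K U φ := by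
  haveI := isClosedImmersion_chartImm hU hφ
  rw [chartPC_iff]
  exact ⟨fun h => ⟨this, h⟩, fun ⟨_, h⟩ => h⟩

variable (hU : IsAffineOpen U) (m : ℤ) (K : DCoh.D X)
include hU

theorem ringTest_comp {P P' : Type u} [CommRing P] [CommRing P'] {φ : P →+* Γ(X, U)}
    (hφ : Function.Surjective φ) {π : P' →+* P} (hπ : PCRing π) {θ : P' →+* Γ(X, U)}
    (hθ : φ.comp π = θ) : RingTest m K U θ ↔ RingTest m K U φ := by
  haveI := isClosedImmersion_imm hU hφ
  haveI := isClosedImmersion_imm hU (φ := θ) (hθ ▸ hφ.comp hπ.surjective)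
  haveI : IsClosedImmersion (Spec.map (CommRingCat.ofHom π)) :=
    IsClosedImmersion.spec_of_surjective _ hπ.surjective
  have he : imm U φ ≫ Spec.map (CommRingCat.ofHom π) = imm U θ := by
    subst hθ
    rw [imm, imm, Category.assoc, ← Spec.map_comp]
    rfl
  have := pcTest_comp hπ.pcStr he U.ι m K
  exact ⟨fun ⟨_, h⟩ => ⟨‹_›, this.1 h⟩, fun ⟨_, h⟩ => ⟨‹_›, this.2 h⟩⟩

/-- The test does not depend on the presentation. -/
theorem ringTest_indep {R : Type u} [CommRing R] {ι κ : Type} [Finite ι] [Finite κ]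
    {φ : MvPolynomial ι R →+* Γ(X, U)} (hφ : Function.Surjective φ)
    {ψ : MvPolynomial κ R →+* Γ(X, U)} (hψ : Function.Surjective ψ)
    (hC : φ.comp MvPolynomial.C = ψ.comp MvPolynomial.C) :
    RingTest m K U φ ↔ RingTest m K U ψ := by
  choose q hq using fun k : κ => hφ (ψ (MvPolynomial.X k))
  choose p hp using fun i : ι => hψ (φ (MvPolynomial.X i))
  let θ : MvPolynomial (ι ⊕ κ) R →+* Γ(X, U) := MvPolynomial.eval₂Hom (φ.comp MvPolynomial.C)
    (Sum.elim (fun i => φ (MvPolynomial.X i)) fun k => ψ (MvPolynomial.X k))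
  rw [← ringTest_comp hU m K hφ (pcRing_graph q) (θ := θ), ← ringTest_comp hU m K hψ
    ((pcRing_graph p).comp_equiv (MvPolynomial.renameEquiv R (Equiv.sumComm ι κ)).toRingEquiv)
    (θ := θ)]
  · refine MvPolynomial.ringHom_ext (fun r => ?_) fun i => ?_
    · simpa [θ] using (RingHom.congr_fun hC r).symm
    · cases i <;> simp [θ, hp]
  · refine MvPolynomial.ringHom_ext (fun r => ?_) fun i => ?_
    · simp [θ]
    · cases i <;> simp [θ, hq]

/-- The test over a basic open of the ambient affine scheme. -/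
theorem ringTest_away {P P' : Type u} [CommRing P] [CommRing P'] [Algebra P P'] (a : P)
    [IsLocalization.Away a P'] {φ : P →+* Γ(X, U)} (hφ : Function.Surjective φ) {U' : X.Opens}
    (hU' : IsAffineOpen U') (hle : U' ≤ U) (ha : U' = X.basicOpen (φ a))
    {φ' : P' →+* Γ(X, U')} (hφ' : Function.Surjective φ')
    (hcomp : φ'.comp (algebraMap P P') = (X.presheaf.map (homOfLE hle).op).hom.comp φ) :
    haveI := isClosedImmersion_imm hU hφ
    RingTest m K U' φ' ↔ ∀ x ∈ PrimeSpectrum.basicOpen a,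
      PCAt m ((GD (imm U φ) U.ι).obj K) x := by
  haveI := isClosedImmersion_imm hU hφ
  haveI := isClosedImmersion_imm hU' hφ'
  let s := Spec.map (CommRingCat.ofHom (algebraMap P P'))
  haveI : IsOpenImmersion s := IsOpenImmersion.of_isLocalization a
  have H : imm U' φ' ≫ s = X.homOfLE hle ≫ imm U φ := by
    rw [imm, imm, Category.assoc, ← Spec.map_comp, ← CommRingCat.ofHom_comp, hcomp,
      ← Scheme.Opens.toSpecΓ_SpecMap_presheaf_map_assoc, ← Spec.map_comp]
    rfl
  have hr' : s.opensRange = PrimeSpectrum.basicOpen a :=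
    TopologicalSpace.Opens.ext (PrimeSpectrum.localization_away_comap_range P' a)
  have H' : imm U φ ⁻¹ᵁ s.opensRange = (X.homOfLE hle).opensRange := by
    rw [hr', Scheme.opensRange_homOfLE]
    subst ha
    exact (congrArg (fun V => U.toSpecΓ ⁻¹ᵁ V) (PrimeSpectrum.comap_basicOpen φ a)).trans
      (Scheme.Opens.toSpecΓ_preimage_basicOpen U (φ a))
  have key := pcTest_square H H' (j := U.ι) (j' := U'.ι) (X.homOfLE_ι hle) m K
  refine ⟨fun ⟨_, h⟩ x hx => ?_, fun h => ⟨‹_›, key.2 fun x => h _ (hr'.le ⟨x, rfl⟩)⟩⟩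
  obtain ⟨y, rfl⟩ := hr'.ge hx
  exact key.1 h y

end Ring

end Groth.Agent.H56.RelPC
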