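import Groth.Agent.H56.RelPC.FppfPC
import Groth.Agent.H56.RelPC.ThickStalk
import Groth.Agent.Lib.DR.Nilp
import Groth.Agent.Lib.Perfect.PullPC

/-!
Pseudo-coherence is detected modulo a nilpotent ideal.
-/

set_option autoImplicit false
set_option linter.style.haveILetI false

universe u

open CategoryTheory Limits CategoryTheory.Pretriangulated AlgebraicGeometry TopologicalSpace
open scoped TensorProduct

namespace Groth.Agent.H56.RelPC.Thick

open Groth.Agent.Lib Groth.Agent.Lib.Perfect.Basic Groth.Agent.Lib.Perfect.PseudoCoh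
open Groth.Agent.Lib.Modules.StalkModule
open Groth.Agent.Lib.Perfect.Pullback (pC pCComp rCIso StalkKProj)
open Groth.Agent.H56.RelPC.Fppf (exists_pcAt_nhds exists_bound)

attribute [local instance] HasDerivedCategory.standard

variable {X X' : Scheme.{u}}

/-- The complex of stalks. -/
noncomputable abbrev stC (X : Scheme.{u}) (x : X) :
    CochainComplex X.Modules ℤ ⥤ DRing.Cx (X.presheaf.stalk x : Type u) :=
  (stalkModFunctor X x).mapHomologicalComplex (ComplexShape.up ℤ)

noncomputable instance (x : X) : PreservesFiniteColimits (stalkModFunctor X x) :=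
  PreservesColimitsOfSize.preservesFiniteColimits _

/-- Stalks of cohomology. -/
noncomputable def stalkHD (P : CochainComplex X.Modules ℤ) (x : X) (j : ℤ) :
    (DerivedCategory.homologyFunctor (ModuleCat.{u} (X.presheaf.stalk x)) j).obj
        (DerivedCategory.Q.obj ((stC X x).obj P)) ≅
      (stalkModFunctor X x).obj (DCoh.HD (DerivedCategory.Q.obj P) j) :=
  DR.Basic.homologyQIso _ j ≪≫ (P.sc j).mapHomologyIso (stalkModFunctor X x) ≪≫
    (stalkModFunctor X x).mapIso ((DerivedCategory.homologyFunctorFactors X.Modules j).app P).symm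

/-- A map of local rings with nilpotent kernel. -/
structure NilStalks (i : X ⟶ X') : Prop where
  surj : ∀ y, Function.Surjective (i.stalkMap y)
  nil : ∀ y, IsNilpotent (RingHom.ker (i.stalkMap y).hom)

theorem nilStalks (i : X ⟶ X') [IsClosedImmersion i] (hn : IsNilpotent i.ker) : NilStalks i :=
  ⟨fun y => i.stalkMap_surjective y, isNilpotent_ker_stalkMap i hn⟩

theorem NilStalks.restrict {i : X ⟶ X'} (h : NilStalks i) (U : X'.Opens) : NilStalks (i ∣_ U) := by
  have key : ∀ {A B C D : CommRingCat.{u}} (f : A ⟶ B) (g : C ⟶ D)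
      (e : Arrow.mk f ≅ Arrow.mk g), Function.Surjective g → IsNilpotent (RingHom.ker g.hom) →
      Function.Surjective f ∧ IsNilpotent (RingHom.ker f.hom) := by
    intro A B C D f g e hs hn
    let l : A ≃+* C := (Arrow.leftFunc.mapIso e).commRingCatIsoToRingEquiv
    let r : B ≃+* D := (Arrow.rightFunc.mapIso e).commRingCatIsoToRingEquiv
    have hw : ∀ a, g (l a) = r (f a) := fun a => congr($(e.hom.w) a)
    refine ⟨fun b => ?_, ?_⟩
    · obtain ⟨c, hc⟩ := hs (r b)
      exact ⟨l.symm c, r.injective (by rw [← hw, l.apply_symm_apply, hc])⟩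
    · obtain ⟨n, hn⟩ := hn
      have hle : (RingHom.ker f.hom).map (l : A →+* C) ≤ RingHom.ker g.hom :=
        Ideal.map_le_iff_le_comap.2 fun a ha => by
          show g (l a) = 0
          rw [hw, RingHom.mem_ker.1 ha, map_zero]
      refine ⟨n, le_bot_iff.1 fun a ha => ?_⟩
      have h' : l a ∈ RingHom.ker g.hom ^ n := Ideal.pow_right_mono hle n (by
        rw [← Ideal.map_pow]
        exact Ideal.mem_map_of_mem _ ha)
      rw [hn] at h'
      exact (map_eq_zero_iff _ l.injective).1 h'
  exact ⟨fun y => (key _ _ (morphismRestrictStalkMap i U y) (h.surj _) (h.nil _)).1,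
    fun y => (key _ _ (morphismRestrictStalkMap i U y) (h.surj _) (h.nil _)).2⟩

section

variable {i : X ⟶ X'} (h : NilStalks i) {P : CochainComplex X'.Modules ℤ} (hP : StalkKProj P) (y : X)
include h hP

/-- Bounds descend. -/
theorem subsingleton_of_pullback (b : ℤ)
    (hb : ∀ j, b < j → Subsingleton ((DCoh.HD (DerivedCategory.Q.obj ((pC i).obj P)) j).presheaf.stalk y))
    (j : ℤ) (hj : b < j) :
    Subsingleton ((DCoh.HD (DerivedCategory.Q.obj P) j).presheaf.stalk (i y)) := by
  let φ := (i.stalkMap y).hom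
  haveI := DR.BaseChangeU.hasLBaseChange φ
  haveI := hP (i y)
  let T := (stC X' (i y)).obj P
  let eC : (DR.BaseChange.ext φ).obj T ≅ (stC X y).obj ((pC i).obj P) :=
    (NatIso.mapHomologicalComplex (DerivedOX.PullbackStalk.pullbackStalkIso i y) (ComplexShape.up ℤ)).app P
  let e : (DRing.LBaseChange φ).obj (DerivedCategory.Q.obj T) ≅
      DerivedCategory.Q.obj ((stC X y).obj ((pC i).obj P)) :=
    DR.BaseChange.bc φ T ≪≫ DerivedCategory.Q.mapIso eC
  have hLE : ((DRing.LBaseChange φ).obj (DerivedCategory.Q.obj T)).IsLE b :=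
    (DR.PseudoCoherent.isLE_iff_subsingleton _ b).2 fun k hk => by
      haveI : Subsingleton ((stalkModFunctor X y).obj (DCoh.HD (DerivedCategory.Q.obj ((pC i).obj P)) k) : Type u) :=
        hb k hk
      exact ((DerivedCategory.homologyFunctor _ k).mapIso e ≪≫
        stalkHD ((pC i).obj P) y k).toLinearEquiv.toEquiv.subsingleton
  have hT := DR.Nilp.isLE_of_LBC (fun _ : Fin 1 => φ) (fun _ => h.surj y)
    (DR.Nilp.devisses_nilpotent _ (h.nil y)) _ b fun _ => hLE
  haveI := (DR.PseudoCoherent.isLE_iff_subsingleton _ b).1 hT j hj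
  exact (stalkHD P (i y) j).toLinearEquiv.symm.toEquiv.subsingleton

/-- The stalk of the top cohomology of the inverse image. -/
theorem nonempty_top_stalk (b : ℤ) [(DerivedCategory.Q.obj P).IsLE b] :
    letI := (i.stalkMap y).hom.toAlgebra
    Nonempty (((stalkModFunctor X y).obj (DCoh.HD (DerivedCategory.Q.obj ((pC i).obj P)) b) : Type u) ≃ₗ[X.presheaf.stalk y]
      X.presheaf.stalk y ⊗[X'.presheaf.stalk (i y)]
        ((stalkModFunctor X' (i y)).obj (DCoh.HD (DerivedCategory.Q.obj P) b) : Type u)) := by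
  let φ := (i.stalkMap y).hom
  letI := φ.toAlgebra
  haveI := DR.BaseChangeU.hasLBaseChange φ
  haveI := hP (i y)
  let T := (stC X' (i y)).obj P
  let eC : (DR.BaseChange.ext φ).obj T ≅ (stC X y).obj ((pC i).obj P) :=
    (NatIso.mapHomologicalComplex (DerivedOX.PullbackStalk.pullbackStalkIso i y) (ComplexShape.up ℤ)).app P
  have hLE : DerivedCategory.IsLE (DerivedCategory.Q.obj T) b :=
    (DR.PseudoCoherent.isLE_iff_subsingleton _ b).2 fun k hk => by
      haveI := Modules.Stalk.isZero_iff_stalk_subsingleton.1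
        (DerivedCategory.isZero_of_isLE (DerivedCategory.Q.obj P) b k hk) (i y)
      haveI : Subsingleton ((stalkModFunctor X' (i y)).obj (DCoh.HD (DerivedCategory.Q.obj P) k) : Type u) :=
        ‹Subsingleton _›
      exact (stalkHD P (i y) k).toLinearEquiv.toEquiv.subsingleton
  obtain ⟨e⟩ := DR.Nilp.nonempty_top_iso (fun _ : Fin 1 => φ) 0 (DerivedCategory.Q.obj T) b hLE
  exact ⟨((stalkHD ((pC i).obj P) y b).symm ≪≫
    (DerivedCategory.homologyFunctor _ b).mapIso
      ((DR.BaseChange.bc φ T ≪≫ DerivedCategory.Q.mapIso eC).symm) ≪≫ e ≪≫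
    (ModuleCat.extendScalars.{u, u, u} φ).mapIso (stalkHD P (i y) b)).toLinearEquiv.trans
      (DR.FlatBC.extEquiv (X'.presheaf.stalk (i y)) (X.presheaf.stalk y) _)⟩

/-- The stalk of the top cohomology vanishes with that of the inverse image. -/
theorem subsingleton_top_iff (b : ℤ) [(DerivedCategory.Q.obj P).IsLE b] :
    Subsingleton ((DCoh.HD (DerivedCategory.Q.obj ((pC i).obj P)) b).presheaf.stalk y) ↔
      Subsingleton ((DCoh.HD (DerivedCategory.Q.obj P) b).presheaf.stalk (i y)) := by
  letI := (i.stalkMap y).hom.toAlgebra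
  obtain ⟨e⟩ := nonempty_top_stalk h hP y b
  refine e.toEquiv.subsingleton_congr.trans ⟨fun hs => ?_, fun hs => ?_⟩
  · obtain ⟨n, hn⟩ := h.nil y
    let A := X'.presheaf.stalk (i y)
    let B := X.presheaf.stalk y
    let M := ((stalkModFunctor X' (i y)).obj (DCoh.HD (DerivedCategory.Q.obj P) b) : Type u)
    have hsurj : Function.Surjective (algebraMap A B) := h.surj y
    haveI : Subsingleton (B ⊗[A] M) := hs
    have hker : (RingHom.ker (algebraMap A B)) • (⊤ : Submodule A M) = ⊤ := by
      rw [eq_top_iff]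
      intro x _
      let e : (A ⧸ RingHom.ker (algebraMap A B)) ≃ₐ[A] B :=
        Ideal.quotientKerAlgEquivOfSurjective (f := Algebra.ofId A B) hsurj
      have h1 : TensorProduct.mk A (A ⧸ RingHom.ker (algebraMap A B)) M 1 x = 0 :=
        (TensorProduct.congr e.toLinearEquiv (LinearEquiv.refl A M)).injective (Subsingleton.elim _ _)
      rwa [← LinearMap.mem_ker, LinearMap.ker_tensorProductMk] at h1
    have hk : ∀ k, RingHom.ker (algebraMap A B) ^ k • (⊤ : Submodule A M) = ⊤ := fun k => by
      induction k with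
      | zero => rw [pow_zero, Ideal.one_eq_top, Submodule.top_smul]
      | succ k ih => rw [pow_succ, Submodule.mul_smul, hker, ih]
    have h0 := hk n
    rw [show RingHom.ker (algebraMap A B) ^ n = 0 from hn, Submodule.zero_eq_bot,
      Submodule.bot_smul] at h0
    exact show Subsingleton M from
      (Submodule.subsingleton_iff A).1 (subsingleton_of_bot_eq_top h0)
  · haveI : Subsingleton ((stalkModFunctor X' (i y)).obj (DCoh.HD (DerivedCategory.Q.obj P) b) : Type u) := hs
    infer_instance

/-- Finiteness of the stalk of the top cohomology descends. -/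
theorem finite_top (b : ℤ) [(DerivedCategory.Q.obj P).IsLE b]
    (hf : Module.Finite (X.presheaf.stalk y)
      ((DCoh.HD (DerivedCategory.Q.obj ((pC i).obj P)) b).presheaf.stalk y)) :
    Module.Finite (X'.presheaf.stalk (i y))
      ((DCoh.HD (DerivedCategory.Q.obj P) b).presheaf.stalk (i y)) := by
  letI := (i.stalkMap y).hom.toAlgebra
  obtain ⟨e⟩ := nonempty_top_stalk h hP y b
  let A := X'.presheaf.stalk (i y)
  let B := X.presheaf.stalk y
  let M := ((stalkModFunctor X' (i y)).obj (DCoh.HD (DerivedCategory.Q.obj P) b) : Type u)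
  have hsurj : Function.Surjective (algebraMap A B) := h.surj y
  have hdet : DR.Descent.Detects (A := A) (fun _ : Fin 1 => (B : Type u)) := fun N _ _ hN => by
    obtain ⟨n, hn⟩ := h.nil y
    haveI := hN 0
    have hker : (RingHom.ker (algebraMap A B)) • (⊤ : Submodule A N) = ⊤ := by
      rw [eq_top_iff]
      intro x _
      let e : (A ⧸ RingHom.ker (algebraMap A B)) ≃ₐ[A] B :=
        Ideal.quotientKerAlgEquivOfSurjective (f := Algebra.ofId A B) hsurj
      have h1 : TensorProduct.mk A (A ⧸ RingHom.ker (algebraMap A B)) N 1 x = 0 :=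
        (TensorProduct.congr e.toLinearEquiv (LinearEquiv.refl A N)).injective (Subsingleton.elim _ _)
      rwa [← LinearMap.mem_ker, LinearMap.ker_tensorProductMk] at h1
    have hk : ∀ k, RingHom.ker (algebraMap A B) ^ k • (⊤ : Submodule A N) = ⊤ := fun k => by
      induction k with
      | zero => rw [pow_zero, Ideal.one_eq_top, Submodule.top_smul]
      | succ k ih => rw [pow_succ, Submodule.mul_smul, hker, ih]
    have h0 := hk n
    rw [show RingHom.ker (algebraMap A B) ^ n = 0 from hn, Submodule.zero_eq_bot,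
      Submodule.bot_smul] at h0
    exact (Submodule.subsingleton_iff A).1 (subsingleton_of_bot_eq_top h0)
  exact DR.Descent.finite_of_detects hdet M fun _ =>
    @Module.Finite.equiv _ _ _ _ _ _ _ _ hf e

end

end Groth.Agent.H56.RelPC.Thick
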