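import Groth.Agent.Lib.BettiExact.TorBaseChange
import Groth.Agent.Lib.DR.Nilp
import Groth.Agent.Lib.DR.LocalAmp

/-!
Tor amplitude is detected modulo a nilpotent ideal, for a flat algebra.
-/

set_option autoImplicit false
set_option linter.style.haveILetI false

universe u

open CategoryTheory Limits HomologicalComplex
open scoped TensorProduct

attribute [local instance] HasDerivedCategory.standard

namespace Groth.Agent.H56.RelPC.ThickTorRing

open Groth.Agent.Lib Groth.Agent.Lib.DR Groth.Agent.Lib.DR.Basic Groth.Agent.Lib.DR.FiniteComplex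
  Groth.Agent.Lib.DR.PseudoCoherent Groth.Agent.Lib.DR.BaseChange Groth.Agent.Lib.DR.Representative
open Groth.Agent.Lib.DerivedOX KFlatBaseChange
open Groth.Agent.Lib.BettiExact TorTensor TorBaseChange

variable {R A S L : Type u} [CommRing R] [CommRing A] [CommRing S] [CommRing L]
  (φ : R →+* A) (ψ : R →+* S) (θ : TP φ ψ →+* L)

theorem inA_surjective (hs : Function.Surjective ψ) : Function.Surjective (inA φ ψ) := by
  letI := φ.toAlgebra
  letI := ψ.toAlgebra
  intro z
  change A ⊗[R] S at z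
  induction z with
  | zero => exact ⟨0, map_zero _⟩
  | tmul a s =>
    obtain ⟨r, rfl⟩ := hs s
    refine ⟨r • a, ?_⟩
    show (r • a) ⊗ₜ[R] (1 : S) = a ⊗ₜ[R] algebraMap R S r
    rw [TensorProduct.smul_tmul, Algebra.smul_def, mul_one]
  | add z w hz hw =>
    obtain ⟨a, ha⟩ := hz
    obtain ⟨b, hb⟩ := hw
    exact ⟨a + b, by rw [map_add, ha, hb]⟩

theorem ker_inA_le (hs : Function.Surjective ψ) :
    RingHom.ker (inA φ ψ) ≤ (RingHom.ker ψ).map φ := by
  letI := φ.toAlgebra
  letI := ψ.toAlgebra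
  intro a ha
  let e : (R ⧸ RingHom.ker ψ) ≃ₐ[R] S :=
    Ideal.quotientKerAlgEquivOfSurjective (f := Algebra.ofId R S) hs
  have h : TensorProduct.mk R (R ⧸ RingHom.ker ψ) A 1 a = 0 := by
    apply ((TensorProduct.congr e.toLinearEquiv (LinearEquiv.refl R A)).trans
      (TensorProduct.comm R S A)).injective
    rw [map_zero]
    show a ⊗ₜ[R] e 1 = 0
    rw [map_one]
    exact ha
  rw [← LinearMap.mem_ker, LinearMap.ker_tensorProductMk, Ideal.smul_top_eq_map] at h
  exact h

theorem isNilpotent_ker_inA (hs : Function.Surjective ψ) (hn : IsNilpotent (RingHom.ker ψ)) :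
    IsNilpotent (RingHom.ker (inA φ ψ)) := by
  obtain ⟨n, hn⟩ := hn
  refine ⟨n, le_bot_iff.1 ((Ideal.pow_right_mono (ker_inA_le φ ψ hs) n).trans ?_)⟩
  rw [← Ideal.map_pow, hn, Ideal.zero_eq_bot, Ideal.map_bot]

/-- A flat local surjection is bijective. -/
theorem bijective_of_flat {B C : Type u} [CommRing B] [CommRing C] [IsLocalRing C] [IsLocalRing B]
    (f : B →+* C) (hf : f.Flat) (hs : Function.Surjective f) : Function.Bijective f := by
  letI := f.toAlgebra
  haveI : Module.Flat B C := hf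
  haveI : IsLocalHom (algebraMap B C) := Function.Surjective.isLocalHom _ hs
  haveI := Module.FaithfullyFlat.of_flat_of_isLocalHom (A := B) (B := C)
  exact ⟨FaithfulSMul.algebraMap_injective B C, hs⟩

theorem isIso_unit {B C : Type u} [CommRing B] [CommRing C] (f : B →+* C) (hf : Function.Bijective f) :
    IsIso (ModuleCat.extendRestrictScalarsAdj.{u} f).unit := by
  letI := f.toAlgebra
  haveI : ∀ M : ModuleCat.{u} B, IsIso ((ModuleCat.extendRestrictScalarsAdj.{u} f).unit.app M) := fun M => by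
    apply (ConcreteCategory.isIso_iff_bijective _).2
    let e : M ≃ₗ[B] C ⊗[B] M := (TensorProduct.lid B M).symm.trans
      (TensorProduct.congr (LinearEquiv.ofBijective (Algebra.linearMap B C) hf) (LinearEquiv.refl B M))
    have hu : ∀ m : M, (ModuleCat.extendRestrictScalarsAdj.{u} f).unit.app M m = e m := fun m => by
      show (1 : C) ⊗ₜ[B] m = algebraMap B C 1 ⊗ₜ[B] m
      rw [map_one]
    have hb : Function.Bijective fun m : M => (ModuleCat.extendRestrictScalarsAdj.{u} f).unit.app M m := by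
      rw [funext hu]
      exact e.bijective
    exact hb
  exact NatIso.isIso_of_isIso_app _

theorem isLE_of_res {B : Type u} [CommRing B] {b : ℤ} (g : B →+* L) (C : DRing.Cx L)
    (h : (DerivedCategory.Q.obj ((resC g).obj C)).IsLE b) : (DerivedCategory.Q.obj C).IsLE b := by
  refine (isLE_iff_subsingleton _ b).2 fun k hk => ?_
  haveI := (isLE_iff_subsingleton _ b).1 h k hk
  exact (homologyQIso C k).toLinearEquiv.toEquiv.trans
    (((homologyQIso ((resC g).obj C) k) ≪≫ (C.sc k).mapHomologyIso (resF g)).toLinearEquiv.toEquiv.symm)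
      |>.subsingleton

theorem bdd_of_thick (hφ : φ.Flat) (hθ : Function.Bijective θ) (hs : Function.Surjective ψ)
    (hn : IsNilpotent (RingHom.ker ψ)) {π : A →+* L} (hπ : θ.comp (inA φ ψ) = π) {πS : S →+* L}
    (hπS : θ.comp (inS φ ψ) = πS) (T : DRing.Cx A) [T.IsKProjective] {a b : ℤ}
    (h : Bdd (flat S) a b (DerivedCategory.Q.obj ((resC πS).obj ((extC π).obj T)))) :
    Bdd (flat R) a b (DerivedCategory.Q.obj ((resC φ).obj T)) := by
  subst hπ hπS
  let π := θ.comp (inA φ ψ)
  let πS := θ.comp (inS φ ψ)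
  haveI := BaseChangeU.hasLBaseChange π
  haveI := BaseChangeU.hasLBaseChange ψ
  haveI : PreservesFiniteLimits (resF φ) := inferInstance
  haveI : PreservesFiniteColimits (resF φ) := inferInstance
  haveI : PreservesFiniteLimits (resF πS) := inferInstance
  haveI : PreservesFiniteColimits (resF πS) := inferInstance
  have hπs : Function.Surjective π := hθ.2.comp (inA_surjective φ ψ hs)
  have hπn : IsNilpotent (RingHom.ker π) := by
    rw [show RingHom.ker π = RingHom.ker (inA φ ψ) from by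
      ext x
      exact map_eq_zero_iff θ hθ.1]
    exact isNilpotent_ker_inA φ ψ hs hn
  have hLE : (DerivedCategory.Q.obj T).IsLE b :=
    Nilp.isLE_of_LBC (fun _ : Fin 1 => π) (fun _ => hπs) (Nilp.devisses_nilpotent _ hπn) _ b fun _ =>
      isLE_of_iso' (bc π T).symm (isLE_of_res πS _ h.isLE)
  obtain ⟨E, hE, hEp, ⟨e⟩⟩ := ba_free hLE
  haveI : E.IsKProjective := isKProjective_of_bounds projective_of_free' hE hEp
  let e₁ : DerivedCategory.Q.obj ((extC π).obj E) ≅ DerivedCategory.Q.obj ((extC π).obj T) :=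
    (bc π E).symm ≪≫ (DRing.LBaseChange π).mapIso e ≪≫ bc π T
  have h1 : Bdd (flat S) a b (DerivedCategory.Q.obj ((resC πS).obj ((extC π).obj E))) :=
    Bdd.of_iso h ((ExactPush.mapQ (resF πS) _).symm ≪≫
      (resF πS).mapDerivedCategory.mapIso e₁.symm ≪≫ ExactPush.mapQ (resF πS) _)
  let θe : TP φ ψ ≃+* L := RingEquiv.ofBijective θ hθ
  haveI := isIso_unit θ hθ
  have h2 : Bdd (flat S) a b (DerivedCategory.Q.obj ((extC ψ).obj ((resC φ).obj E))) := by
    let η : resF (inS φ ψ) ≅ ModuleCat.extendScalars.{u, u, u} θ ⋙ resF πS :=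
      (Functor.leftUnitor _).symm ≪≫
        Functor.isoWhiskerRight (asIso (ModuleCat.extendRestrictScalarsAdj.{u} θ).unit) _ ≪≫
        Functor.associator _ _ _ ≪≫
        Functor.isoWhiskerLeft _ (ModuleCat.restrictScalarsComp'.{u} (inS φ ψ) θ πS rfl).symm
    let c₁ : (resC πS).obj ((extC π).obj E) ≅ (resC πS).obj ((extC θ).obj ((extC (inA φ ψ)).obj E)) :=
      (resC πS).mapIso ((NatIso.mapHomologicalComplex
          (ModuleCat.extendScalarsComp (inA φ ψ) θ) (ComplexShape.up ℤ)).app E)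
    let c₂ : (resC πS).obj ((extC θ).obj ((extC (inA φ ψ)).obj E)) ≅
        (resC (inS φ ψ)).obj ((extC (inA φ ψ)).obj E) :=
      (NatIso.mapHomologicalComplex η.symm (ComplexShape.up ℤ)).app ((extC (inA φ ψ)).obj E)
    let c₃ : (resC (inS φ ψ)).obj ((extC (inA φ ψ)).obj E) ≅ (extC ψ).obj ((resC φ).obj E) :=
      (NatIso.mapHomologicalComplex (bcIso φ ψ) (ComplexShape.up ℤ)).app E
    exact Bdd.of_iso h1 (DerivedCategory.Q.mapIso (c₁ ≪≫ c₂ ≪≫ c₃))
  have hflat : ∀ i, flat R (((resC φ).obj E).X i) := fun i =>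
    LocalAmp.flat_restrict φ hφ _ (flat_of_free _ (hEp i))
  have hz : ∀ i, b < i → IsZero (((resC φ).obj E).X i) := fun i hi => (resF φ).map_isZero (hE i hi)
  have h3 : Bdd (flat R) a b (DerivedCategory.Q.obj ((resC φ).obj E)) :=
    Nilp.bdd_flat_of_LBC (fun _ : Fin 1 => ψ) (fun _ => hs) (Nilp.devisses_nilpotent _ hn) _ a b
      fun _ => Bdd.of_iso h2 (bcFlat ψ _ b hz hflat).symm
  exact Bdd.of_iso h3 ((ExactPush.mapQ (resF φ) _).symm ≪≫
    (resF φ).mapDerivedCategory.mapIso e ≪≫ ExactPush.mapQ (resF φ) _)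

end Groth.Agent.H56.RelPC.ThickTorRing
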