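import Groth.Agent.H56.PCSingle.Induct
import Groth.Agent.Lib.Perfect.Top
import Groth.Agent.Lib.Modules.GenStalk
import Groth.Agent.Lib.Modules.Support
import Groth.Agent.Lib.Modules.StalkRestrict
import Mathlib.Algebra.Homology.DerivedCategory.TStructure

/-!
A map from a free module onto the stalk of the top cohomology.
-/

set_option autoImplicit false
set_option linter.style.haveILetI false

universe u

open CategoryTheory Limits AlgebraicGeometry TopologicalSpace

namespace Groth.Agent.H56.RelPC.TopStalk

open Groth.Agent.Lib Groth.Agent.Lib.Perfect.Basic Groth.Agent.Lib.Perfect.PseudoCoh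
open Groth.Agent.Lib.Modules.StalkModule

attribute [local instance] HasDerivedCategory.standard

variable {X : Scheme.{u}}

section

variable (F : CochainComplex X.Modules ℤ) (b : ℤ) [F.IsStrictlyLE b]

theorem isIso_homologyι : IsIso (F.homologyι b) := by
  refine F.isIso_homologyι b (b + 1) (by simp) ?_
  exact (F.isZero_of_isStrictlyLE b (b + 1) (by omega)).eq_of_tgt _ _

/-- The projection onto the top cohomology. -/
noncomputable def proj : F.X b ⟶ F.homology b :=
  haveI := isIso_homologyι F b
  F.pOpcycles b ≫ inv (F.homologyι b)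

theorem d_proj : F.d (b - 1) b ≫ proj F b = 0 := by
  rw [proj, HomologicalComplex.d_pOpcycles_assoc, zero_comp]

theorem epi_proj : Epi (proj F b) := by
  haveI := isIso_homologyι F b
  exact epi_comp _ _

theorem exact_proj : (ShortComplex.mk _ _ (d_proj F b)).Exact := by
  haveI := isIso_homologyι F b
  refine ShortComplex.exact_of_g_is_cokernel _ ?_
  refine IsColimit.ofIsoColimit (F.opcyclesIsCokernel (b - 1) b (by simp)) ?_
  exact Cofork.ext (asIso (F.homologyι b)).symm (by simp [proj])

variable {F b}

theorem proj_naturality {G : CochainComplex X.Modules ℤ} [G.IsStrictlyLE b] (g : F ⟶ G) :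
    proj F b ≫ HomologicalComplex.homologyMap g b = g.f b ≫ proj G b := by
  haveI := isIso_homologyι F b
  haveI := isIso_homologyι G b
  rw [← cancel_mono (G.homologyι b)]
  simp [proj, HomologicalComplex.homologyι_naturality]

end

theorem stalkMap_restrict {M N : X.Modules} (U : X.Opens) (φ : M ⟶ N) (z : (U : Scheme.{u}))
    (v : (M.restrict U.ι).presheaf.stalk z) :
    Modules.StalkRestrict.restrictStalkAddEquiv U.ι N z
      (stalkMapₗ ((Scheme.Modules.restrictFunctor U.ι).map φ) z v) =
      stalkMapₗ φ (U.ι z) (Modules.StalkRestrict.restrictStalkAddEquiv U.ι M z v) :=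
  ConcreteCategory.congr_hom ((Modules.Local.restrictStalkIso U.ι z).hom.naturality φ) v

/-- Local generators of the top cohomology. -/
theorem exists_top_map (E : DCoh.D X) (b : ℤ) [E.IsLE b] (x : X)
    (hfin : Module.Finite (X.presheaf.stalk x) ((DCoh.HD E b).presheaf.stalk x)) :
    ∃ (U : X.Opens) (hx : x ∈ U) (n : ℕ)
      (α : (DerivedCategory.singleFunctor (U : Scheme.{u}).Modules b).obj (FlatMod.freeMod (U : Scheme.{u}) n) ⟶
        (RD U.ι).obj E),
      Function.Surjective (stalkMapₗ ((DerivedCategory.homologyFunctor _ b).map α) (⟨x, hx⟩ : (U : Scheme.{u}))) := by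
  obtain ⟨F, hF, ⟨eF⟩⟩ := DerivedCategory.exists_iso_Q_obj_of_isLE E b
  let eM : DCoh.HD E b ≅ F.homology b :=
    (DerivedCategory.homologyFunctor X.Modules b).mapIso eF ≪≫
      (DerivedCategory.homologyFunctorFactors X.Modules b).app F
  haveI := Module.Finite.equiv (stalkLinearEquiv eM x)
  obtain ⟨n, s, hs⟩ := Module.Finite.exists_fin (R := X.presheaf.stalk x)
    (M := (F.homology b).presheaf.stalk x)
  haveI := epi_proj F b
  choose v hv using fun i => (epi_iff_stalkMapₗ_surjective (proj F b)).1 inferInstance x (s i)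
  choose V hxV σ hσ using fun i => TopCat.Presheaf.exists_germ_eq (F.X b).presheaf (v i)
  obtain ⟨U, hxU, hU⟩ : ∃ U : X.Opens, x ∈ U ∧ ∀ i, U ≤ V i :=
    ⟨⟨⋂ i, (V i : Set X), isOpen_iInter_of_finite fun i => (V i).2⟩,
      Set.mem_iInter.2 hxV, fun i => Set.iInter_subset (fun i => (V i : Set X)) i⟩
  let z : (U : Scheme.{u}) := ⟨x, hxU⟩
  let G := (rC U.ι).obj F
  haveI : G.IsStrictlyLE b := by
    rw [CochainComplex.isStrictlyLE_iff]
    exact fun i hi => (Scheme.Modules.restrictFunctor U.ι).map_isZero (F.isZero_of_isStrictlyLE b i hi)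
  let t : Fin n → Γ((F.X b).restrict U.ι, ⊤) := fun i =>
    (F.X b).presheaf.map (homOfLE (U.ι_image_top.le.trans (hU i))).op (σ i)
  let e : ((F.X b).restrict U.ι).presheaf.stalk z ≃+ (F.X b).presheaf.stalk x :=
    Modules.StalkRestrict.restrictStalkAddEquiv U.ι (F.X b) z
  have ht : ∀ i, e (((F.X b).restrict U.ι).presheaf.germ ⊤ z trivial (t i)) = v i := fun i =>
    (Modules.StalkRestrict.restrictStalkAddEquiv_germ U.ι (F.X b) (U := ⊤) trivial (t i)).trans
      ((TopCat.Presheaf.germ_res_apply _ _ _ _ _).trans (hσ i))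
  let free := FlatMod.freeMod (U : Scheme.{u}) n
  let S := (CochainComplex.singleFunctor (U : Scheme.{u}).Modules b).obj free
  haveI : S.IsStrictlyLE b := by
    rw [CochainComplex.isStrictlyLE_iff]
    exact fun i hi => HomologicalComplex.isZero_single_obj_X _ _ _ _ hi.ne'
  let g : S ⟶ G := HomologicalComplex.mkHomFromSingle (Modules.Free.freeHom t)
    fun j hj => (G.isZero_of_isStrictlyLE b j (by simp at hj; omega)).eq_of_tgt _ _
  let α : (DerivedCategory.singleFunctor (U : Scheme.{u}).Modules b).obj free ⟶ (RD U.ι).obj E :=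
    (DerivedCategory.singleFunctorIsoCompQ (U : Scheme.{u}).Modules b).hom.app free ≫
      DerivedCategory.Q.map g ≫ (RDQ U.ι F).inv ≫ (RD U.ι).map eF.inv
  refine ⟨U, hxU, n, α, ?_⟩
  -- the composite `F'^b → H^b(F')` is surjective on the stalk modulo the generators
  have hsurj : Function.Surjective (stalkMapₗ (Modules.Free.freeHom t ≫ proj G b) z) := by
    intro w
    haveI := epi_proj G b
    obtain ⟨w, rfl⟩ := (epi_iff_stalkMapₗ_surjective (proj G b)).1 inferInstance z w
    have hmem : stalkMapₗ (proj F b) x (e w) ∈ Submodule.span (X.presheaf.stalk x) (Set.range s) :=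
      hs ▸ Submodule.mem_top
    have hsv : Set.range s = stalkMapₗ (proj F b) x '' Set.range v := by
      rw [← Set.range_comp]
      exact congrArg Set.range (funext fun i => (hv i).symm)
    rw [hsv, ← Submodule.map_span] at hmem
    obtain ⟨c, hc, hcw⟩ := hmem
    have hker : stalkMapₗ (proj F b) x (e w - c) = 0 := by
      rw [map_sub]
      exact sub_eq_zero.2 hcw.symm
    have hex := (Modules.Stalk.exact_iff_stalk _).1 (exact_proj F b) x
    rw [ShortComplex.ab_exact_iff] at hex
    obtain ⟨a, ha⟩ := hex (e w - c) hker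
    let a' := (Modules.StalkRestrict.restrictStalkAddEquiv U.ι (F.X (b - 1)) z).symm a
    let w' : ((F.X b).restrict U.ι).presheaf.stalk z := stalkMapₗ (G.d (b - 1) b) z a'
    have hd : e w' = e w - c := by
      refine (stalkMap_restrict U (F.d (b - 1) b) z a').trans ?_
      rw [AddEquiv.apply_symm_apply]
      exact ha
    have hcS : c ∈ e '' (Submodule.span ((U : Scheme.{u}).presheaf.stalk z)
        (Set.range fun i => ((F.X b).restrict U.ι).presheaf.germ ⊤ z trivial (t i)) : Set _) := by
      have himg := Modules.StalkRestrict.span_image_restrictStalkAddEquiv U.ι (F.X b) z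
        (Set.range fun i => ((F.X b).restrict U.ι).presheaf.germ ⊤ z trivial (t i))
      have hr : (e '' Set.range fun i => ((F.X b).restrict U.ι).presheaf.germ ⊤ z trivial (t i)) =
          Set.range v := by
        rw [← Set.range_comp]
        exact congrArg Set.range (funext ht)
      exact (himg.symm.trans (congrArg (fun T => (Submodule.span (X.presheaf.stalk x) T :
        Set ((F.X b).presheaf.stalk x))) hr)).ge hc
    obtain ⟨c', hc', rfl⟩ := hcS
    have hw : w = c' + w' := e.injective (by
      rw [map_add, hd]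
      exact (add_sub_cancel _ _).symm)
    have hrange : Submodule.span ((U : Scheme.{u}).presheaf.stalk z)
        (Set.range fun i => ((F.X b).restrict U.ι).presheaf.germ ⊤ z trivial (t i)) ≤
        LinearMap.range (stalkMapₗ (Modules.Free.freeHom t) z) := by
      rw [Submodule.span_le]
      rintro _ ⟨i, rfl⟩
      exact ⟨_, Modules.Free.freeHom_stalk_germ t z i⟩
    obtain ⟨f, hf⟩ := hrange hc'
    refine ⟨f, ?_⟩
    have hd0 : stalkMapₗ (proj G b) z (stalkMapₗ (G.d (b - 1) b) z a') = 0 := by
      rw [← LinearMap.comp_apply, ← stalkMapₗ_comp, d_proj, stalkMapₗ_zero, LinearMap.zero_apply]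
    rw [stalkMapₗ_comp, LinearMap.comp_apply, hf, hw]
    refine ((map_add (stalkMapₗ (proj G b) z) c' w').trans ?_).symm
    exact (congrArg (stalkMapₗ (proj G b) z c' + ·) hd0).trans (add_zero _)
  let η := DerivedCategory.homologyFunctorFactors (U : Scheme.{u}).Modules b
  have key : ∃ (h : free ⟶ DCoh.HD ((DerivedCategory.singleFunctor (U : Scheme.{u}).Modules b).obj free) b)
      (k : G.homology b ⟶ DCoh.HD ((RD U.ι).obj E) b), IsIso k ∧
      h ≫ (DerivedCategory.homologyFunctor _ b).map α = Modules.Free.freeHom t ≫ proj G b ≫ k := by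
    refine ⟨(HomologicalComplex.singleObjXSelf (ComplexShape.up ℤ) b free).inv ≫ proj S b ≫
        η.inv.app S ≫ (DerivedCategory.homologyFunctor _ b).map
          ((DerivedCategory.singleFunctorIsoCompQ (U : Scheme.{u}).Modules b).inv.app free),
      η.inv.app G ≫ (DerivedCategory.homologyFunctor _ b).map ((RDQ U.ι F).inv ≫ (RD U.ι).map eF.inv),
      ?_, ?_⟩
    · haveI : IsIso ((RDQ U.ι F).inv ≫ (RD U.ι).map eF.inv) := inferInstance
      exact IsIso.comp_isIso' (η.app G).isIso_inv (Functor.map_isIso _ _)
    have hn : HomologicalComplex.homologyMap g b ≫ η.inv.app G =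
        η.inv.app S ≫ (DerivedCategory.homologyFunctor _ b).map (DerivedCategory.Q.map g) :=
      η.inv.naturality g
    have hg : (HomologicalComplex.singleObjXSelf (ComplexShape.up ℤ) b free).inv ≫ g.f b =
        Modules.Free.freeHom t := by
      rw [HomologicalComplex.mkHomFromSingle_f]
      exact Iso.inv_hom_id_assoc _ _
    have hp := proj_naturality (b := b) g
    simp only [α, Category.assoc, ← Functor.map_comp, Iso.inv_hom_id_app_assoc]
    rw [Functor.map_comp]
    erw [← reassoc_of% hn, reassoc_of% hp, reassoc_of% hg]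
    rfl
  obtain ⟨h, k, hk, hhk⟩ := key
  have hk' : Function.Surjective (stalkMapₗ k z) :=
    (epi_iff_stalkMapₗ_surjective k).1 inferInstance z
  intro y
  obtain ⟨y', rfl⟩ := hk' y
  obtain ⟨f, rfl⟩ := hsurj y'
  refine ⟨stalkMapₗ h z f, ?_⟩
  rw [← LinearMap.comp_apply, ← stalkMapₗ_comp, hhk, ← Category.assoc, stalkMapₗ_comp]
  rfl

end Groth.Agent.H56.RelPC.TopStalk
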