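import Groth.Agent.Lib.DR.TorAmp
import Groth.Agent.Lib.DR.TensorAmp
import Groth.Agent.Lib.WeaklyEt.Flat

/-!
Tor amplitude along weakly étale ring maps.
-/

set_option autoImplicit false
set_option linter.style.haveILetI false

universe u

open CategoryTheory CategoryTheory.Limits
open Groth.Agent.Lib.DR
open Groth.Agent.Lib.DR.Basic Groth.Agent.Lib.DR.FiniteComplex Groth.Agent.Lib.DR.PseudoCoherent
open Groth.Agent.Lib.DR.Representative Groth.Agent.Lib.DR.BaseChange

attribute [local instance] HasDerivedCategory.standard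

namespace Groth.Agent.H56.RelPC.WETorAmp

variable {R S : Type u} [CommRing R] [CommRing S] [Algebra R S]

theorem flat_of_res [Algebra.WeaklyEtale R S] (M : ModuleCat.{u} S)
    (h : flat R ((ModuleCat.restrictScalars (algebraMap R S)).obj M)) : flat S M := by
  letI : Module R M := Module.compHom M (algebraMap R S)
  haveI : IsScalarTower R S M := IsScalarTower.of_algebraMap_smul fun _ _ => rfl
  haveI : Module.Flat R M := h
  exact Groth.Agent.Lib.WeaklyEt.Flat.flat_of_flat_base (A := R) (B := S) M

theorem flat_res [Module.Flat R S] (M : ModuleCat.{u} S) (h : flat S M) :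
    flat R ((ModuleCat.restrictScalars (algebraMap R S)).obj M) := by
  letI : Module R M := Module.compHom M (algebraMap R S)
  haveI : IsScalarTower R S M := IsScalarTower.of_algebraMap_smul fun _ _ => rfl
  haveI : Module.Flat S M := h
  exact Module.Flat.trans R S M

/-- Tor amplitude does not change along a weakly étale map. -/
theorem bdd_flat_res_iff [Algebra.WeaklyEtale R S] (K : Dual.D S) (a b : ℤ) :
    Bdd (flat R) a b ((DRing.restrictD (algebraMap R S)).obj K) ↔ Bdd (flat S) a b K := by
  haveI : Module.Flat R S := Algebra.WeaklyEtale.flat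
  let φ := algebraMap R S
  let F := ModuleCat.restrictScalars.{u} φ
  constructor
  · intro h
    let K₀ := DerivedCategory.Q.objPreimage K
    let e₀ : DerivedCategory.Q.obj K₀ ≅ K := DerivedCategory.Q.objObjPreimageIso K
    have h₀ : Bdd (flat R) a b (DerivedCategory.Q.obj ((DTen.resCx φ).obj K₀)) :=
      h.of_iso ((DRing.restrictD φ).mapIso e₀.symm ≪≫ ExactPush.mapQ F K₀)
    have hle : (DerivedCategory.Q.obj K₀).IsLE b := (TensorAmp.isLE_restrict_iff φ _ _).1 h₀.isLE
    obtain ⟨G, hG, hp, ⟨eG⟩⟩ := ba_free (b := b) hle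
    have hGf : ∀ i, flat S (G.X i) := fun i => flat_of_free _ (hp i)
    let P := (DTen.resCx φ).obj G
    have hP : Bdd (flat R) a b (DerivedCategory.Q.obj P) :=
      h₀.of_iso ((ExactPush.mapQ F K₀).symm ≪≫ (DRing.restrictD φ).mapIso eG.symm ≪≫ ExactPush.mapQ F G)
    have hge : (DerivedCategory.Q.obj G).IsGE a := (TensorAmp.isGE_restrict_iff φ _ _).1 hP.isGE
    have hPf : ∀ i, flat R (P.X i) := fun i => flat_res _ (hGf i)
    have hPb : ∀ i, b < i → IsZero (P.X i) := fun i hi => F.map_isZero (hG i hi)
    haveI : PreservesFiniteLimits F := inferInstance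
    haveI : PreservesFiniteColimits F := inferInstance
    let op : P.opcycles a ≅ F.obj (G.opcycles a) := (G.sc a).mapOpcyclesIso F
    have hop : flat S (G.opcycles a) := flat_of_res _
      (good_flat.iso (TorAmp.opcyclesIso P a ≪≫ op) (TorAmp.flat_coker P hPb hPf hP))
    exact (TorAmp.bdd_of_opcycles good_flat hG (fun i _ => hGf i) hge
      (good_flat.iso (TorAmp.opcyclesIso G a).symm hop)).of_iso (eG ≪≫ e₀)
  · rintro ⟨E, hE, hEf, ⟨e⟩⟩
    exact ⟨(DTen.resCx φ).obj E, fun i hi => F.map_isZero (hE i hi), fun i => flat_res _ (hEf i),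
      ⟨(ExactPush.mapQ F E).symm ≪≫ (DRing.restrictD φ).mapIso e⟩⟩

end Groth.Agent.H56.RelPC.WETorAmp
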